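-- Subgroups of order prime to 3 normalised by an element of order 3 whose centraliser has order 9.
--
-- * `One`: the Sylow 3-subgroup `S` is self-centralizing of order 9 and exponent 3, and there is one
--   class of elements of order 3
-- * `Sub x M`: `M` is normalised by `x` and has order prime to 3
-- * `Sub.cube`, `Sub.classTwo`, `Sub.card_mod_three`: the action is fixed-point-free
-- * `not_le_normalizer`: `S` normalises no non-trivial subgroup of order prime to 3
-- * `ppart`: the `p`-part of a nilpotent subgroup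
import Cfsg.Agent.Lib.SelfCentNine.Basic
import Cfsg.Agent.Lib.SelfCentThree.Basic
import Cfsg.Agent.Lib.FPFLie.Main
import Cfsg.Agent.Lib.FPFLie.Thompson
import Cfsg.Agent.Lib.Cores.Fitting
import Cfsg.Agent.S0041
import Cfsg.Agent.EqLemmas

set_option autoImplicit false
set_option linter.unusedSectionVars false
set_option linter.style.haveILetI false

namespace Cfsg.Agent.SmallOrders.NineOneClass

open Subgroup SelfCentNine SelfCentThree
open scoped commutatorElement

variable {G : Type*} [Group G] [Finite G] {S : Subgroup G}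

/-- The hypothesis: one class of elements of order 3, with centralisers of order 9. -/
structure One (S : Subgroup G) : Prop extends Nine S where
  one : ∀ p r : G, p ^ 3 = 1 → p ≠ 1 → r ^ 3 = 1 → r ≠ 1 → IsConj p r

/-- `M` is normalised by `x` and has order prime to 3. -/
structure Sub (x : G) (M : Subgroup G) : Prop where
  inv : Invar x M
  prime : ¬ 3 ∣ Nat.card M

theorem eq_one_of_pow_three {M : Subgroup G} (h3 : ¬ 3 ∣ Nat.card M) {a : G} (ha : a ∈ M)
    (ha3 : a ^ 3 = 1) : a = 1 := by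
  rcases (Nat.dvd_prime Nat.prime_three).1 (orderOf_dvd_of_pow_eq_one ha3) with e | e
  · exact orderOf_eq_one_iff.1 e
  · refine absurd ?_ h3
    rw [← e]
    exact Subgroup.orderOf_dvd_natCard M ha

/-- An element of order 3 acts without fixed points on a group of order prime to 3. -/
theorem One.fixed (h : One S) {y : G} (hy : y ^ 3 = 1) (hy1 : y ≠ 1) {M : Subgroup G}
    (h3 : ¬ 3 ∣ Nat.card M) {a : G} (ha : a ∈ M) (hc : Commute a y) : a = 1 :=
  eq_one_of_pow_three h3 ha (h.commute_of_commute hy hy1 hc (Commute.refl y)).2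

theorem Sub.bot (x : G) : Sub x (⊥ : Subgroup G) :=
  ⟨fun g hg => by rw [mem_bot] at hg ⊢; rw [hg]; simp, by rw [card_bot]; norm_num⟩

theorem mem_normalizer_of_inv {x : G} {M : Subgroup G} (hM : Invar x M) :
    x ∈ normalizer (M : Set G) := by
  exact mem_normalizer_fintype hM

theorem inv_of_mem_normalizer {x : G} {M : Subgroup G} (hx : x ∈ normalizer (M : Set G)) :
    Invar x M := fun g hg => (mem_normalizer_iff.mp hx g).mp hg

theorem three_cycle {p g : G} (h : (g * p) ^ 3 = 1) (hp : p ^ 3 = 1) :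
    g * (p * g * p⁻¹) * (p * p * g * (p * p)⁻¹) = 1 := by
  have e : g * (p * g * p⁻¹) * (p * p * g * (p * p)⁻¹) * p ^ 3 = (g * p) ^ 3 := by
    simp only [pow_three]; group
  rwa [h, hp, mul_one] at e

namespace Sub

variable {x : G} {M : Subgroup G}

/-- `g gˣ gˣˣ = 1`, and `g` commutes with `gˣ`. -/
theorem cube (hM : Sub x M) (h : One S) (hx : x ^ 3 = 1) (hx1 : x ≠ 1) {g : G} (hg : g ∈ M) :
    g * (x * g * x⁻¹) * (x * x * g * (x * x)⁻¹) = 1 ∧ Commute g (x * g * x⁻¹) := by
  have hfix : ∀ c ∈ M, Commute c x → c = 1 := fun c hc hcc => h.fixed hx hx1 hM.prime hc hcc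
  have hxx : (x * x) * (x * x) = x := by
    rw [show x * x * (x * x) = x ^ 3 * x by simp only [pow_three, mul_assoc], hx, one_mul]
  have hxx3 : (x * x) ^ 3 = 1 := by rw [← pow_two, ← pow_mul, mul_comm, pow_mul, hx, one_pow]
  have hinv2 : ∀ c ∈ M, x * x * c * (x * x)⁻¹ ∈ M := fun c hc => by
    have := hM.inv _ (hM.inv c hc)
    rwa [show x * (x * c * x⁻¹) * x⁻¹ = x * x * c * (x * x)⁻¹ by group] at this
  have hfix2 : ∀ c ∈ M, Commute c (x * x) → c = 1 := fun c hc hcc =>
    hfix c hc (hxx ▸ hcc.mul_right hcc)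
  obtain ⟨a, -, ha⟩ := SelfCentNine.exists_conj_eq hM.inv hfix hg
  obtain ⟨b, -, hb⟩ := SelfCentNine.exists_conj_eq hinv2 hfix2 hg
  have h1 := three_cycle (by rw [← ha, conj_pow, hx, mul_one, mul_inv_cancel]) hx
  have h2 := three_cycle (by rw [← hb, conj_pow, hxx3, mul_one, mul_inv_cancel]) hxx3
  rw [hxx] at h2
  refine ⟨h1, ?_⟩
  -- the two orders give the same product
  have e1 : x * x * g * (x * x)⁻¹ = (g * (x * g * x⁻¹))⁻¹ := eq_inv_of_mul_eq_one_right h1
  rw [e1] at h2
  have e2 : g * (g * (x * g * x⁻¹))⁻¹ * (x * g * x⁻¹) = 1 := h2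
  have e3 : (x * g * x⁻¹) * g = g * (x * g * x⁻¹) := by
    calc (x * g * x⁻¹) * g
        = (x * g * x⁻¹) * (g * (g * (x * g * x⁻¹))⁻¹ * (x * g * x⁻¹))⁻¹ * g := by
          rw [e2, inv_one, mul_one]
      _ = _ := by group
  exact e3.symm

/-- the conjugation automorphism -/
noncomputable def act (hM : Sub x M) : MulAut M :=
  M.normalizerMonoidHom ⟨x, mem_normalizer_of_inv hM.inv⟩

theorem act_apply (hM : Sub x M) (g : M) : ((hM.act g : M) : G) = x * g * x⁻¹ := rfl

theorem act_fixed (hM : Sub x M) (h : One S) (hx : x ^ 3 = 1) (hx1 : x ≠ 1) (g : M)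
    (hg : hM.act g = g) : g = 1 := by
  have e := congrArg Subtype.val hg
  rw [act_apply, mul_inv_eq_iff_eq_mul] at e
  exact Subtype.ext (h.fixed hx hx1 hM.prime g.2 e.symm)

theorem act_order (hM : Sub x M) (h : One S) (hx : x ^ 3 = 1) (hx1 : x ≠ 1) (hne : M ≠ ⊥) :
    orderOf hM.act = 3 := by
  have : Fact (Nat.Prime 3) := ⟨Nat.prime_three⟩
  refine orderOf_eq_prime ?_ fun e => hne ((eq_bot_iff_forall M).2 fun g hg => ?_)
  · have e : (⟨x, mem_normalizer_of_inv hM.inv⟩ : normalizer (M : Set G)) ^ 3 = 1 :=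
      Subtype.ext (by rw [SubmonoidClass.coe_pow, OneMemClass.coe_one, hx])
    rw [act, ← map_pow, e, map_one]
  · exact congrArg Subtype.val (hM.act_fixed h hx hx1 ⟨g, hg⟩ (by rw [e]; rfl))

theorem nilpotent (hM : Sub x M) (h : One S) (hx : x ^ 3 = 1) (hx1 : x ≠ 1) :
    Group.IsNilpotent M := by
  have : Fact (Nat.Prime 3) := ⟨Nat.prime_three⟩
  by_cases hne : M = ⊥
  · subst hne
    exact inferInstance
  · exact FPF.isNilpotent_of_fpf_mulAut hM.act (hM.act_order h hx hx1 hne) (hM.act_fixed h hx hx1)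

/-- `M` has class at most two. -/
theorem classTwo (hM : Sub x M) (h : One S) (hx : x ^ 3 = 1) (hx1 : x ≠ 1) :
    ∀ a ∈ M, ∀ b ∈ M, ∀ c ∈ M, Commute c (a * b * a⁻¹ * b⁻¹) := by
  intro a ha b hb c hc
  have : Fact (Nat.Prime 3) := ⟨Nat.prime_three⟩
  rcases eq_or_ne M ⊥ with hne | hne
  · rw [hne, mem_bot] at hc
    rw [hc]
    exact Commute.one_left _
  haveI := hM.nilpotent h hx hx1
  have h2 := (FPFLie.class_bound hM.act (hM.act_order h hx hx1 hne) (hM.act_fixed h hx hx1)).2 rfl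
  have hmem : ⁅⁅(⟨a, ha⟩ : M), (⟨b, hb⟩ : M)⁆, (⟨c, hc⟩ : M)⁆ ∈ FPFLie.lcs M 2 :=
    FPFLie.comm_mem (i := 1) (j := 0) (FPFLie.comm_mem (i := 0) (j := 0) (Subgroup.mem_top _)
      (Subgroup.mem_top _) le_rfl) (Subgroup.mem_top _) le_rfl
  rw [h2, Subgroup.mem_bot, commutatorElement_eq_one_iff_mul_comm] at hmem
  exact (congrArg Subtype.val hmem).symm

theorem card_mod_three (hM : Sub x M) (h : One S) (hx : x ^ 3 = 1) (hx1 : x ≠ 1) :
    Nat.card M % 3 = 1 := by
  classical
  have : Fact (Nat.Prime 3) := ⟨Nat.prime_three⟩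
  rcases eq_or_ne M ⊥ with hne | hne
  · rw [hne, card_bot]
  have := Fintype.ofFinite M
  let Z : Subgroup (MulAut M) := zpowers hM.act
  have hp : IsPGroup 3 Z :=
    IsPGroup.of_card (n := 1) (by rw [Nat.card_zpowers, hM.act_order h hx hx1 hne, pow_one])
  have hfix : MulAction.fixedPoints Z M = {1} := by
    ext g
    simp only [MulAction.mem_fixedPoints, Set.mem_singleton_iff]
    refine ⟨fun hg => hM.act_fixed h hx hx1 g (hg ⟨hM.act, mem_zpowers _⟩), ?_⟩
    rintro rfl z
    exact map_one (z : MulAut M)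
  have e := hp.card_modEq_card_fixedPoints M
  rw [hfix, Nat.card_unique (α := ({1} : Set M))] at e
  exact e

/-- An `x`-invariant subgroup of `M`. -/
theorem of_le (hM : Sub x M) {U : Subgroup G} (hU : U ≤ M) (hi : Invar x U) : Sub x U :=
  ⟨hi, fun h' => hM.prime (h'.trans (card_dvd_of_le hU))⟩

end Sub

/-- `S` normalises no non-trivial subgroup of order prime to 3. -/
theorem One.not_le_normalizer (h : One S) {M : Subgroup G} (h3 : ¬ 3 ∣ Nat.card M) (hM : M ≠ ⊥) :
    ¬ S ≤ normalizer (M : Set G) := by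
  intro hle
  obtain ⟨x, hxS, hx1⟩ : ∃ x ∈ S, x ≠ 1 := by
    by_contra! hall
    have hc := h.card
    rw [(eq_bot_iff_forall S).2 hall, card_bot] at hc
    omega
  have hx := h.cubed x hxS
  have hsub : Sub x M := ⟨inv_of_mem_normalizer (hle hxS), h3⟩
  have hnil := hsub.nilpotent h hx hx1
  let V : Subgroup G := M ⊓ centralizer (M : Set G)
  have hVc : IsMulCommutative V :=
    ⟨⟨fun a b => Subtype.ext (mem_centralizer_iff.mp b.2.2 a a.2.1)⟩⟩
  have hV : V ≠ ⊥ := by
    intro hV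
    have hbot : Subgroup.center M = ⊥ := (eq_bot_iff_forall _).2 fun z hz => Subtype.ext (by
      have hzV : (z : G) ∈ V := ⟨z.2, mem_centralizer_iff.mpr fun g hg =>
        congrArg Subtype.val (Subgroup.mem_center_iff.mp hz ⟨g, hg⟩)⟩
      rw [hV, mem_bot] at hzV
      exact hzV)
    have : Nontrivial M := (nontrivial_iff_ne_bot M).mpr hM
    exact Cores.inf_center_ne_bot (⊤ : Subgroup M) top_ne_bot (by rw [hbot, inf_bot_eq])
  have hAV : S ≤ normalizer (V : Set G) := fun s hs => by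
    refine mem_normalizer_fintype fun v hv => ?_
    have hv' : v ∈ M ∧ v ∈ centralizer (M : Set G) := hv
    refine ⟨(mem_normalizer_iff.mp (hle hs) v).mp hv'.1, mem_centralizer_iff.mpr fun g hg => ?_⟩
    have hg' : s⁻¹ * g * s ∈ M := (mem_normalizer_iff.mp (hle hs) _).mpr (by
      rw [show s * (s⁻¹ * g * s) * s⁻¹ = g by group]; exact hg)
    have e := mem_centralizer_iff.mp hv'.2 _ hg'
    calc g * (s * v * s⁻¹) = s * (s⁻¹ * g * s * v) * s⁻¹ := by group
      _ = s * (v * (s⁻¹ * g * s)) * s⁻¹ := by rw [e]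
      _ = _ := by group
  have hfpf : ∀ a ∈ S, a ≠ 1 → V ⊓ centralizer {a} = ⊥ := fun a ha ha1 =>
    (eq_bot_iff_forall _).2 fun v hv =>
      h.fixed (h.cubed a ha) ha1 h3 hv.1.1 (mem_centralizer_singleton_iff.mp hv.2)
  have hcyc := S0041.result S V hV hAV hfpf (Or.inl ⟨⟨fun a b => Subtype.ext (h.comm a.2 b.2).eq⟩⟩)
  obtain ⟨g, hg⟩ := IsCyclic.exists_ofOrder_eq_natCard (α := S)
  have h3' : g ^ 3 = 1 := Subtype.ext (by simpa using h.cubed (g : G) g.2)
  have := Nat.le_of_dvd (by norm_num) (orderOf_dvd_of_pow_eq_one h3')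
  rw [hg, h.card] at this
  omega

/-- The `p`-part of a nilpotent subgroup. -/
def ppart (p : ℕ) (M : Subgroup G) : Subgroup G :=
  closure {g | g ∈ M ∧ ∃ k, g ^ p ^ k = 1}

theorem ppart_le (p : ℕ) (M : Subgroup G) : ppart p M ≤ M :=
  (closure_le _).2 fun _ hg => hg.1

theorem normalizer_le_ppart (p : ℕ) (M : Subgroup G) :
    normalizer (M : Set G) ≤ normalizer (ppart p M : Set G) := fun n hn => by
  refine mem_normalizer_fintype fun g hg => ?_
  refine closure_induction (p := fun g _ => n * g * n⁻¹ ∈ ppart p M) ?_ (by simp)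
    (fun u v _ _ hu hv => ?_) (fun u _ hu => ?_) hg
  · rintro u ⟨hu, k, hk⟩
    exact subset_closure ⟨(mem_normalizer_iff.mp hn u).mp hu, k, by rw [conj_pow, hk]; group⟩
  · have := mul_mem hu hv
    rwa [show n * u * n⁻¹ * (n * v * n⁻¹) = n * (u * v) * n⁻¹ by group] at this
  · have := inv_mem hu
    rwa [show (n * u * n⁻¹)⁻¹ = n * u⁻¹ * n⁻¹ by group] at this

theorem ppart_eq {p : ℕ} [Fact p.Prime] (M : Subgroup G) [Group.IsNilpotent M] (P : Sylow p M) :
    ppart p M = (P : Subgroup M).map M.subtype := by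
  refine le_antisymm ((closure_le _).2 ?_) ?_
  · rintro g ⟨hg, k, hk⟩
    obtain ⟨j, -, hj⟩ := (Nat.dvd_prime_pow Fact.out).mp (orderOf_dvd_of_pow_eq_one hk)
    have hP' : IsPGroup p (zpowers (⟨g, hg⟩ : M)) := IsPGroup.of_card (n := j) (by
      rw [Nat.card_zpowers, ← Subgroup.orderOf_coe]; exact hj)
    obtain ⟨Q, hQ⟩ := hP'.exists_le_sylow
    have hn : (P : Subgroup M).Normal := inferInstance
    have : Subsingleton (Sylow p M) := ⟨fun A B => by
      have := Sylow.unique_of_normal P hn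
      exact Subsingleton.elim A B⟩
    obtain rfl := Subsingleton.elim P Q
    exact ⟨⟨g, hg⟩, hQ (mem_zpowers _), rfl⟩
  · rintro _ ⟨u, hu, rfl⟩
    obtain ⟨k, hk⟩ := P.isPGroup' ⟨u, hu⟩
    exact subset_closure ⟨u.2, k, by simpa using congrArg (fun z : (P : Subgroup M) => ((z : M) : G)) hk⟩

theorem card_ppart {p : ℕ} [Fact p.Prime] (M : Subgroup G) [Group.IsNilpotent M] :
    Nat.card (ppart p M) = p ^ (Nat.card M).factorization p := by
  obtain ⟨P⟩ := (inferInstance : Nonempty (Sylow p M))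
  rw [ppart_eq M P, ← Sylow.card_eq_multiplicity P]
  exact (Nat.card_congr (equivMapOfInjective _ _ M.subtype_injective).toEquiv).symm

end Cfsg.Agent.SmallOrders.NineOneClass
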