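-- The finite search for the degrees of the characters not vanishing on elements of order 3.
--
-- * `entries`: the possible contributions of one character
-- * `sound`: a multiset of contributions outside the search is impossible
-- * `table_ok`: there is no solution
import Cfsg.Agent.EqLemmas
import Mathlib.Algebra.BigOperators.Group.Multiset.Basic
import Mathlib.Algebra.Order.BigOperators.Group.Multiset
import Mathlib.Tactic.Linarith

set_option autoImplicit false

namespace Cfsg.Agent.SmallOrders.NineOneClass.Check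

/-- `ok P N lin cub`: the totals of a solution. -/
def okTot (P : ℤ) (allowed : ℕ → Bool) (lin cub : ℤ) : Bool :=
  lin == -1 && (P + cub) % 9 == 0 && decide (0 < P + cub) && allowed ((P + cub) / 9).toNat

/-- Is there a multiset of `n` entries of `l` reaching the target from `(lin, cub)`? -/
def search (tot : ℤ → ℤ → Bool) : List (ℤ × ℤ) → ℕ → ℤ → ℤ → Bool
  | [], n, lin, cub => n == 0 && tot lin cub
  | t :: l, n, lin, cub =>
    if n == 0 then tot lin cub
    else if (t :: l).all (fun p => decide (lin + n * p.1 < -1)) then false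
    else if (t :: l).all (fun p => decide (-1 < lin + n * p.1)) then false
    else (List.range (n + 1)).any fun k =>
      search tot l (n - k) (lin + k * t.1) (cub + k * t.2)

theorem sum_fst_ne {m : Multiset (ℤ × ℤ)} {n : ℕ} {lin : ℤ} (hn : m.card = n) (hn0 : n ≠ 0)
    (h : (∀ p ∈ m, lin + n * p.1 < -1) ∨ (∀ p ∈ m, -1 < lin + n * p.1)) :
    lin + (m.map Prod.fst).sum ≠ -1 := by
  have hs : ((m.map fun p => lin + (n : ℤ) * p.1)).sum = n * (lin + (m.map Prod.fst).sum) := by
    rw [Multiset.sum_map_add, Multiset.map_const', Multiset.sum_replicate, Multiset.sum_map_mul_left, hn,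
      nsmul_eq_mul, mul_add]
  have hm : m ≠ ∅ := fun e => hn0 (by rw [← hn, e]; rfl)
  intro e
  rw [e] at hs
  rcases h with h | h
  · have := Multiset.sum_lt_sum_of_nonempty (f := fun p => lin + (n : ℤ) * p.1) (g := fun _ => (-1 : ℤ)) hm h
    rw [hs, Multiset.map_const', Multiset.sum_replicate, hn, nsmul_eq_mul] at this
    exact lt_irrefl _ this
  · have := Multiset.sum_lt_sum_of_nonempty (f := fun _ => (-1 : ℤ)) (g := fun p => lin + (n : ℤ) * p.1) hm h
    rw [hs, Multiset.map_const', Multiset.sum_replicate, hn, nsmul_eq_mul] at this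
    exact lt_irrefl _ this

theorem search_sound {tot : ℤ → ℤ → Bool} (htot : ∀ lin cub, tot lin cub = true → lin = -1) :
    ∀ (l : List (ℤ × ℤ)) (n : ℕ) (lin cub : ℤ), search tot l n lin cub = false →
      ∀ m : Multiset (ℤ × ℤ), (∀ p ∈ m, p ∈ l) → m.card = n →
        tot (lin + (m.map Prod.fst).sum) (cub + (m.map Prod.snd).sum) = false := by
  intro l
  induction l with
  | nil =>
    intro n lin cub h m hm hn
    obtain rfl : m = 0 := Multiset.eq_zero_of_forall_notMem fun p hp => by simpa using hm p hp
    simp only [search, ← hn, Multiset.card_zero, beq_self_eq_true, Bool.true_and] at h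
    simpa using h
  | cons t l ih =>
    intro n lin cub h m hm hn
    by_cases hn0 : n = 0
    · obtain rfl : m = 0 := Multiset.card_eq_zero.1 (hn.trans hn0)
      simp only [search, hn0, beq_self_eq_true, if_true] at h
      simpa using h
    simp only [search, beq_iff_eq, hn0, if_false] at h
    by_cases hlo : (t :: l).all (fun p => decide (lin + n * p.1 < -1)) = true
    · by_contra hne
      refine sum_fst_ne hn hn0 (Or.inl fun p hp => ?_) (htot _ _ (Bool.not_eq_false _ ▸ hne))
      simpa using List.all_eq_true.1 hlo p (hm p hp)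
    rw [if_neg hlo] at h
    by_cases hhi : (t :: l).all (fun p => decide (-1 < lin + n * p.1)) = true
    · by_contra hne
      refine sum_fst_ne hn hn0 (Or.inr fun p hp => ?_) (htot _ _ (Bool.not_eq_false _ ▸ hne))
      simpa using List.all_eq_true.1 hhi p (hm p hp)
    rw [if_neg hhi, List.any_eq_false] at h
    have hsplit : Multiset.replicate (m.count t) t + m.filter (fun p => ¬ t = p) = m := by
      rw [← Multiset.filter_eq, Multiset.filter_add_not]
    have hk := Multiset.count_le_card t m
    have h' := h (m.count t) (List.mem_range.2 (by omega))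
    simp only [Bool.not_eq_true] at h'
    have := ih (n - m.count t) _ _ h' (m.filter fun p => ¬ t = p) (fun p hp => by
      obtain ⟨hp, hne⟩ := Multiset.mem_filter.1 hp
      exact ((List.mem_cons.1 (hm p hp)).resolve_left fun e => hne e.symm)) (by
      have := congrArg Multiset.card hsplit
      rw [Multiset.card_add, Multiset.card_replicate] at this
      omega)
    conv_lhs => rw [← hsplit]
    rw [Multiset.map_add, Multiset.map_add, Multiset.sum_add, Multiset.sum_add,
      Multiset.map_replicate, Multiset.map_replicate, Multiset.sum_replicate, Multiset.sum_replicate,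
      nsmul_eq_mul, nsmul_eq_mul, ← add_assoc, ← add_assoc]
    exact this

/-- The divisors that can be degrees. -/
def degrees (a b q : ℕ) : List ℕ :=
  ((List.range (a + 1)).flatMap fun i => (List.range (b + 1)).map fun j => 2 ^ i * q ^ j).filter
    fun f => decide (3 ≤ f) && decide (f * f < 9 * (2 ^ a * q ^ b))

theorem mem_degrees {a b q f : ℕ} (hq : q.Prime) (hd : f ∣ 2 ^ a * q ^ b) (h3 : 3 ≤ f)
    (hs : f * f < 9 * (2 ^ a * q ^ b)) : f ∈ degrees a b q := by
  obtain ⟨d, e, hd1, he1, rfl⟩ := exists_dvd_and_dvd_of_dvd_mul hd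
  obtain ⟨i, hi, rfl⟩ := (Nat.dvd_prime_pow Nat.prime_two).1 hd1
  obtain ⟨j, hj, rfl⟩ := (Nat.dvd_prime_pow hq).1 he1
  simp only [degrees, List.mem_filter, List.mem_flatMap, List.mem_map, List.mem_range,
    Bool.and_eq_true, decide_eq_true_eq]
  exact ⟨⟨i, by omega, j, by omega, rfl⟩, h3, hs⟩

/-- The contributions of the characters with value `±1`. -/
def small (P : ℕ) (fs : List ℕ) : List (ℤ × ℤ) :=
  (fs.filter fun f => f % 9 == 1).map (fun (f : ℕ) => ((f : ℤ), ((P / f : ℕ) : ℤ))) ++
    (fs.filter fun f => f % 9 == 8).map (fun (f : ℕ) => (-(f : ℤ), -((P / f : ℕ) : ℤ)))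

/-- The contributions of the characters with value `±2`. -/
def large (P : ℕ) (fs : List ℕ) : List (ℤ × ℤ) :=
  (fs.filter fun f => f % 9 == 2).map (fun (f : ℕ) => (2 * (f : ℤ), 8 * ((P / f : ℕ) : ℤ))) ++
    (fs.filter fun f => f % 9 == 7).map (fun (f : ℕ) => (-2 * (f : ℤ), -8 * ((P / f : ℕ) : ℤ)))

theorem mem_small {P f : ℕ} {fs : List ℕ} (hf : f ∈ fs) {v : ℤ} (hv : v = 1 ∨ v = -1)
    (hm : (f : ℤ) % 9 = v % 9) : (v * (f : ℤ), v ^ 3 * ((P / f : ℕ) : ℤ)) ∈ small P fs := by
  simp only [small, List.mem_append, List.mem_map, List.mem_filter, beq_iff_eq, Prod.mk.injEq]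
  rcases hv with rfl | rfl
  · exact Or.inl ⟨f, ⟨hf, by omega⟩, by ring, by ring⟩
  · exact Or.inr ⟨f, ⟨hf, by omega⟩, by ring, by ring⟩

theorem mem_large {P f : ℕ} {fs : List ℕ} (hf : f ∈ fs) {v : ℤ} (hv : v = 2 ∨ v = -2)
    (hm : (f : ℤ) % 9 = v % 9) : (v * (f : ℤ), v ^ 3 * ((P / f : ℕ) : ℤ)) ∈ large P fs := by
  simp only [large, List.mem_append, List.mem_map, List.mem_filter, beq_iff_eq, Prod.mk.injEq]
  rcases hv with rfl | rfl
  · exact Or.inl ⟨f, ⟨hf, by omega⟩, by ring, by ring⟩
  · exact Or.inr ⟨f, ⟨hf, by omega⟩, by ring, by ring⟩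

/-- The numbers of pairs left by the local analysis. -/
def allowed (a T Q p : ℕ) : Bool :=
  decide (7 ≤ p) && !(a == 6 && Q == 17 && p == 25) &&
    if a % 2 == 0 then
      decide (p ≤ 34) || p == 6 * T + 1 || (T == 64 && Q == 125 && decide (p ≤ 340))
    else
      decide (p ≤ 34 + 3 * (T / 2 - 1) + (if 2 * Q + 1 ≤ 3 * T then 6 * (Q - 1) else 0))

/-- No solution for this order. -/
def check (a b q : ℕ) : Bool :=
  let P := 2 ^ a * q ^ b
  let fs := degrees a b q
  let tot := okTot P (allowed a (2 ^ a) (q ^ b))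
  !search tot (small P fs) 8 0 0 && (large P fs).all fun g => !search tot (small P fs) 4 g.1 g.2

/-- trial division -/
def smallPrime (q : ℕ) : Bool :=
  decide (5 ≤ q) && (List.range 29).all fun d => decide (2 ≤ d → q % d = 0 → d = q)

theorem smallPrime_of_prime {q : ℕ} (hq : q.Prime) (h5 : 5 ≤ q) : smallPrime q = true := by
  simp only [smallPrime, Bool.and_eq_true, decide_eq_true_eq, List.all_eq_true]
  exact ⟨h5, fun d _ h2 h0 => (hq.eq_one_or_self_of_dvd d (Nat.dvd_of_mod_eq_zero h0)).resolve_left
    (by omega)⟩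

/-- all cases -/
def table : Bool :=
  (List.range 769).all fun q => !smallPrime q || (List.range 4).all fun b' =>
    decide (768 < q ^ (b' + 1)) || (List.range 7).all fun a' =>
      !((2 ^ (a' + 3) * q ^ (b' + 1)) % 9 == 8) || check (a' + 3) (b' + 1) q

theorem table_ok : table = true := by decide +kernel

end Cfsg.Agent.SmallOrders.NineOneClass.Check
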