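-- Normalisers of the subgroups of order prime to 3 normalised by `x`.
--
-- * `Solv x M O`: `N(M)` has the nilpotent normal subgroup `O` with quotient of order dividing 6
-- * `Ico x M O`: `N(M)` is an extension of the elementary abelian 2-group `O` by `A₅`
-- * `One.local_cases`: one of the two holds
import Cfsg.Agent.Lib.SmallOrders.NineOneClass.Basic
import Cfsg.Agent.S3331
import Cfsg.Agent.Lib.PSL2.Soluble

set_option autoImplicit false
set_option linter.unusedSectionVars false
set_option linter.style.haveILetI false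

namespace Cfsg.Agent.SmallOrders.NineOneClass

open Subgroup SelfCentNine SelfCentThree

set_option maxRecDepth 10000 in
theorem altFive_facts : ∀ g : alternatingGroup (Fin 5), g ^ 3 = 1 → g ≠ 1 →
    (∃ v : alternatingGroup (Fin 5), v ≠ 1 ∧ v * v = 1 ∧ v * (g * v * g⁻¹) = (g * v * g⁻¹) * v ∧
      g * (g * v * g⁻¹) * g⁻¹ = v * (g * v * g⁻¹)) ∧
    (∃ t : alternatingGroup (Fin 5), t * g * t⁻¹ = g⁻¹) := by decide +kernel

variable {G : Type*} [Group G] [Finite G] {S : Subgroup G}

theorem card_sup_dvd {U N : Subgroup G} (h : U ≤ normalizer (N : Set G)) :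
    Nat.card ↥(U ⊔ N) ∣ Nat.card U * Nat.card N := by
  haveI := Subgroup.normal_subgroupOf_of_le_normalizer h
  haveI := Subgroup.normal_subgroupOf_sup_of_le_normalizer h
  have e := Nat.card_congr (QuotientGroup.quotientInfEquivProdNormalizerQuotient U N h).toEquiv
  have h1 := Subgroup.card_eq_card_quotient_mul_card_subgroup (N.subgroupOf (U ⊔ N))
  rw [← e, Nat.card_congr (subgroupOfEquivOfLe (le_sup_right : N ≤ U ⊔ N)).toEquiv] at h1
  rw [h1]
  exact Nat.mul_dvd_mul_right (card_quotient_dvd_card _) _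

theorem card_sup_mul {U N : Subgroup G} (h : U ≤ normalizer (N : Set G)) :
    Nat.card ↥(U ⊔ N) * Nat.card ↥(U ⊓ N) = Nat.card U * Nat.card N := by
  haveI := Subgroup.normal_subgroupOf_of_le_normalizer h
  haveI := Subgroup.normal_subgroupOf_sup_of_le_normalizer h
  have e := Nat.card_congr (QuotientGroup.quotientInfEquivProdNormalizerQuotient U N h).toEquiv
  have h1 := Subgroup.card_eq_card_quotient_mul_card_subgroup (N.subgroupOf (U ⊔ N))
  have h2 := Subgroup.card_eq_card_quotient_mul_card_subgroup (N.subgroupOf U)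
  rw [← e, Nat.card_congr (subgroupOfEquivOfLe (le_sup_right : N ≤ U ⊔ N)).toEquiv] at h1
  have e3 : Nat.card (N.subgroupOf U) = Nat.card ↥(U ⊓ N) := by
    rw [← Subgroup.inf_subgroupOf_left]
    exact Nat.card_congr (subgroupOfEquivOfLe inf_le_left).toEquiv
  rw [h2, e3, h1]
  ring

theorem Invar.sup {x : G} {U N : Subgroup G} (hU : Invar x U) (hN : Invar x N) :
    Invar x (U ⊔ N) :=
  inv_of_mem_normalizer (normalizer_inf_normalizer_le_normalizer_sup U N
    ⟨mem_normalizer_of_inv hU, mem_normalizer_of_inv hN⟩)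

theorem Sub.sup {x : G} {U N : Subgroup G} (hU : Sub x U) (hN : Sub x N)
    (h : U ≤ normalizer (N : Set G)) : Sub x (U ⊔ N) :=
  ⟨Invar.sup hU.inv hN.inv, fun h3 => (Nat.prime_three.dvd_mul.1 (h3.trans (card_sup_dvd h))).elim
    hU.prime hN.prime⟩

theorem Sub.ppart {x : G} {M : Subgroup G} (hM : Sub x M) (p : ℕ) : Sub x (ppart p M) :=
  hM.of_le (ppart_le p M)
    (inv_of_mem_normalizer (normalizer_le_ppart p M (mem_normalizer_of_inv hM.inv)))

/-- `N(M)` is nilpotent by a group of order dividing 6. -/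
structure Solv (x : G) (M O : Subgroup G) : Prop where
  sub : Sub x O
  le : M ≤ O
  le_norm : O ≤ normalizer (M : Set G)
  norm_le : normalizer (M : Set G) ≤ normalizer (O : Set G)
  card_dvd : Nat.card (normalizer (M : Set G)) ∣ 6 * Nat.card O

/-- `N(M)` is a 2-group extended by `A₅`. -/
structure Ico (x : G) (M O : Subgroup G) : Prop where
  sub : Sub x O
  le : M ≤ O
  le_norm : O ≤ normalizer (M : Set G)
  norm_le : normalizer (M : Set G) ≤ normalizer (O : Set G)
  card_eq : Nat.card (normalizer (M : Set G)) = 60 * Nat.card O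
  elem : ∀ a ∈ O, a * a = 1
  comm : ∀ a ∈ O, ∀ b ∈ O, a * b = b * a
  four : ∃ U : Subgroup G, Sub x U ∧ O ≤ U ∧ U ≤ normalizer (M : Set G) ∧
    Nat.card U = 4 * Nat.card O
  inverter : ∃ y ∈ normalizer (M : Set G), y * x * y⁻¹ = x⁻¹
  core : ∀ U, Sub x U → U ≤ normalizer (M : Set G) →
    normalizer (M : Set G) ≤ normalizer (U : Set G) → U ≤ O

variable {x : G}

theorem One.normalizer_ne_top [IsSimpleGroup G] (h : One S) {M : Subgroup G} (hM : Sub x M)
    (hne : M ≠ ⊥) : normalizer (M : Set G) ≠ ⊤ := fun ht =>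
  h.not_le_normalizer hM.prime hne (ht ▸ le_top)

/-- `x` is self-centralizing in the normaliser. -/
theorem One.sc_normalizer (h : One S) (hxS : x ∈ S) (hx1 : x ≠ 1) {M : Subgroup G}
    (hM : Sub x M) (hne : M ≠ ⊥) :
    SC (⟨x, mem_normalizer_of_inv hM.inv⟩ : normalizer (M : Set G)) := by
  have : Fact (Nat.Prime 3) := ⟨Nat.prime_three⟩
  have hx := h.cubed x hxS
  refine ⟨by rw [← Subgroup.orderOf_coe]; exact orderOf_eq_prime hx hx1, fun g hg => ?_⟩
  have hgS : (g : G) ∈ S := h.mem_of_commute hxS hx1 (congrArg Subtype.val hg.eq)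
  by_contra hgx
  refine h.not_le_normalizer hM.prime hne ?_
  -- two independent elements generate `S`
  have hle : zpowers x ⊔ zpowers (g : G) ≤ S := sup_le (zpowers_le.2 hxS) (zpowers_le.2 hgS)
  have hxc : Nat.card (zpowers x) = 3 := by rw [Nat.card_zpowers]; exact orderOf_eq_prime hx hx1
  have hlt : zpowers x < zpowers x ⊔ zpowers (g : G) := by
    refine lt_of_le_of_ne le_sup_left fun e => hgx ?_
    obtain ⟨i, hi⟩ := mem_zpowers_iff.1
      (show (g : G) ∈ zpowers x from e ▸ mem_sup_right (mem_zpowers _))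
    exact mem_zpowers_iff.2 ⟨i, Subtype.ext (by rw [SubgroupClass.coe_zpow]; exact hi)⟩
  have hS : zpowers x ⊔ zpowers (g : G) = S := by
    refine eq_of_le_of_card_ge hle ?_
    have h1 : 3 ∣ Nat.card ↥(zpowers x ⊔ zpowers (g : G)) := hxc ▸ card_dvd_of_le hlt.le
    have h2 : Nat.card ↥(zpowers x ⊔ zpowers (g : G)) ∣ 9 := h.card ▸ card_dvd_of_le hle
    have h3 : 3 < Nat.card ↥(zpowers x ⊔ zpowers (g : G)) := by
      refine lt_of_le_of_ne (hxc ▸ Subgroup.card_le_of_le hlt.le) fun e => hlt.ne ?_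
      exact eq_of_le_of_card_ge hlt.le (by rw [hxc, ← e])
    obtain ⟨i, hi, e⟩ := (Nat.dvd_prime_pow Nat.prime_three).1 (show _ ∣ 3 ^ 2 from h2)
    rw [e] at h3 ⊢
    rw [h.card]
    interval_cases i <;> simp_all
  rw [← hS]
  exact sup_le (zpowers_le.2 (mem_normalizer_of_inv hM.inv)) (zpowers_le.2 g.2)

/-- Two nested subgroups differ by a factor congruent to 1 modulo 3. -/
theorem One.exists_index (h : One S) (hxS : x ∈ S) (hx1 : x ≠ 1) {U N : Subgroup G}
    (hU : Sub x U) (hN : Sub x N) (hle : N ≤ U) :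
    ∃ k, Nat.card U = k * Nat.card N ∧ k % 3 = 1 := by
  obtain ⟨k, hk⟩ := card_dvd_of_le hle
  refine ⟨k, by rw [hk, mul_comm], ?_⟩
  have h1 := hU.card_mod_three h (h.cubed x hxS) hx1
  have h2 := hN.card_mod_three h (h.cubed x hxS) hx1
  rw [hk, Nat.mul_mod, h2, one_mul, Nat.mod_mod] at h1
  exact h1

/-- Over a normal subgroup of index dividing 6 there is no larger `x`-invariant subgroup. -/
theorem One.le_of_index_six (h : One S) (hxS : x ∈ S) (hx1 : x ≠ 1) {H O U : Subgroup G}
    (hO : Sub x O) (hU : Sub x U) (hUH : U ≤ H) (hOH : O ≤ H)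
    (hn : H ≤ normalizer (O : Set G)) (hd : Nat.card H ∣ 6 * Nat.card O) : U ≤ O := by
  have hV := hU.sup hO (hUH.trans hn)
  obtain ⟨k, hk, hk1⟩ := h.exists_index hxS hx1 hV hO le_sup_right
  have hdd : k * Nat.card O ∣ 6 * Nat.card O :=
    hk ▸ (card_dvd_of_le (sup_le hUH hOH)).trans hd
  have h6 : k ∣ 6 := Nat.dvd_of_mul_dvd_mul_right Nat.card_pos hdd
  have hle : k ≤ 6 := Nat.le_of_dvd (by norm_num) h6
  have hk' : k = 1 := by interval_cases k <;> omega
  rw [hk', one_mul] at hk
  exact le_sup_left.trans (eq_of_le_of_card_ge le_sup_right hk.le).ge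

/-- Over an elementary abelian normal subgroup of index 60 the factor is 1 or 4. -/
theorem One.index_sixty (h : One S) (hxS : x ∈ S) (hx1 : x ≠ 1) {H O U : Subgroup G}
    (hO : Sub x O) (hU : Sub x U) (hUH : U ≤ H) (hOH : O ≤ H)
    (hn : H ≤ normalizer (O : Set G)) (hd : Nat.card H = 60 * Nat.card O)
    (hel : ∀ a ∈ O, a * a = 1) :
    Nat.card ↥(U ⊔ O) = Nat.card O ∨ Nat.card ↥(U ⊔ O) = 4 * Nat.card O := by
  have : Fact (Nat.Prime 2) := ⟨Nat.prime_two⟩
  have hx := h.cubed x hxS
  have hV := hU.sup hO (hUH.trans hn)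
  obtain ⟨k, hk, hk1⟩ := h.exists_index hxS hx1 hV hO le_sup_right
  have hdd : k * Nat.card O ∣ 60 * Nat.card O :=
    hk ▸ hd ▸ card_dvd_of_le (sup_le hUH hOH)
  have h60 : k ∣ 60 := Nat.dvd_of_mul_dvd_mul_right Nat.card_pos hdd
  have hle : k ≤ 60 := Nat.le_of_dvd (by norm_num) h60
  have hk3 : k = 1 ∨ k = 4 ∨ k = 10 := by
    interval_cases k <;> omega
  rcases hk3 with rfl | rfl | rfl
  · exact Or.inl (by rw [hk, one_mul])
  · exact Or.inr hk
  · exfalso
    haveI := hV.nilpotent h hx hx1
    obtain ⟨n, hn2⟩ : ∃ n, Nat.card O = 2 ^ n := by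
      refine IsPGroup.iff_card.1 fun a => ⟨1, Subtype.ext ?_⟩
      rw [pow_one, SubgroupClass.coe_pow, pow_two]
      exact hel a a.2
    have h1 := (hV.ppart 2).card_mod_three h hx hx1
    rw [card_ppart, hk, hn2, show 10 * 2 ^ n = 2 ^ (n + 1) * 5 by ring,
      Nat.factorization_mul (by positivity) (by norm_num), Finsupp.add_apply,
      Nat.Prime.factorization_pow Nat.prime_two, Finsupp.single_eq_same,
      Nat.factorization_eq_zero_of_not_dvd (show ¬ 2 ∣ 5 by norm_num), add_zero, pow_succ,
      Nat.mul_mod, ← hn2, hO.card_mod_three h hx hx1] at h1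
    norm_num at h1

theorem One.local_cases [IsSimpleGroup G] (h : One S) (hxS : x ∈ S) (hx1 : x ≠ 1)
    {M : Subgroup G} (hM : Sub x M) (hne : M ≠ ⊥) :
    (∃ O, Solv x M O) ∨ (∃ O, Ico x M O) := by
  classical
  have hx := h.cubed x hxS
  have hsc := h.sc_normalizer hxS hx1 hM hne
  set H := normalizer (M : Set G) with hH
  set xH : H := ⟨x, mem_normalizer_of_inv hM.inv⟩ with hxH
  have hMH : M ≤ H := le_normalizer
  -- a normal subgroup of `H` seen in `G`
  have hmap : ∀ N : Subgroup H, N.Normal → H ≤ normalizer ((N.map H.subtype : Subgroup G) : Set G) := by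
    intro N hN g hg
    refine mem_normalizer_fintype ?_
    rintro _ ⟨u, hu, rfl⟩
    exact ⟨⟨g, hg⟩ * u * ⟨g, hg⟩⁻¹, hN.conj_mem u hu ⟨g, hg⟩, rfl⟩
  have hcard : ∀ N : Subgroup H, Nat.card (N.map H.subtype : Subgroup G) = Nat.card N := fun N =>
    (Nat.card_congr (equivMapOfInjective _ _ H.subtype_injective).toEquiv).symm
  have hsub : ∀ N : Subgroup H, N.Normal → ¬ 3 ∣ Nat.card N →
      Sub x (N.map H.subtype : Subgroup G) := fun N hN h3 =>
    ⟨inv_of_mem_normalizer (hmap N hN xH.2), by rw [hcard]; exact h3⟩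
  rcases S3331.main hsc with ⟨N, hN, -, hco, hq⟩ | ⟨N, hN, hNc, hN2, ⟨e⟩⟩ | ⟨⟨e⟩⟩
  · left
    have h3 : ¬ 3 ∣ Nat.card N := (Nat.prime_three.coprime_iff_not_dvd).1 hco.symm
    have h6 : Nat.card (H ⧸ N) ∣ 6 := by
      rcases hq with hq | ⟨⟨e⟩⟩
      · rw [hq]; norm_num
      · rw [Nat.card_congr e.toEquiv, Nat.card_perm, Nat.card_eq_fintype_card, Fintype.card_fin]
        norm_num [Nat.factorial]
    have hd : Nat.card H ∣ 6 * Nat.card (N.map H.subtype : Subgroup G) := by
      rw [hcard, Subgroup.card_eq_card_quotient_mul_card_subgroup N]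
      exact Nat.mul_dvd_mul_right h6 _
    refine ⟨N.map H.subtype, hsub N hN h3, ?_, map_subtype_le N, hmap N hN, hd⟩
    exact h.le_of_index_six hxS hx1 (hsub N hN h3) hM hMH (map_subtype_le N) (hmap N hN) hd
  · right
    let ψ : H →* alternatingGroup (Fin 5) := e.toMonoidHom.comp (QuotientGroup.mk' N)
    have hψ : Function.Surjective ψ := e.surjective.comp (QuotientGroup.mk'_surjective N)
    have hker : ∀ u, ψ u = 1 ↔ u ∈ N := fun u => by
      simp only [ψ, MonoidHom.coe_comp, MulEquiv.coe_toMonoidHom, Function.comp_apply,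
        QuotientGroup.mk'_apply, EmbeddingLike.map_eq_one_iff, QuotientGroup.eq_one_iff]
    have h5 : Nat.card (alternatingGroup (Fin 5)) = 60 := by
      rw [Nat.card_eq_fintype_card]; decide
    have hidx : N.index = 60 := (Nat.card_congr e.toEquiv).trans h5
    have hHc : Nat.card H = 60 * Nat.card N := by rw [← N.card_mul_index, hidx, mul_comm]
    have h3 : ¬ 3 ∣ Nat.card N := by
      have hp : IsPGroup 2 N := fun a => ⟨1, Subtype.ext (by
        rw [pow_one, SubgroupClass.coe_pow, OneMemClass.coe_one]; exact hN2 a a.2)⟩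
      haveI : Fact (Nat.Prime 2) := ⟨Nat.prime_two⟩
      obtain ⟨n, hn⟩ := IsPGroup.iff_card.1 hp
      rw [hn]
      exact fun hd => by
        have := Nat.prime_three.dvd_of_dvd_pow hd
        omega
    set O := (N.map H.subtype : Subgroup G) with hO
    have hcore : ∀ U, Sub x U → U ≤ H → H ≤ normalizer (U : Set G) → U ≤ O := by
      intro U hU hUH hUn
      have hMn : (U.subgroupOf H).Normal := (normal_subgroupOf_iff_le_normalizer hUH).2 hUn
      have hMψ : ((U.subgroupOf H).map ψ).Normal := hMn.map ψ hψ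
      rcases hMψ.eq_bot_or_eq_top with hb | ht
      · intro m hm
        have : ψ ⟨m, hUH hm⟩ = 1 := by
          rw [← mem_bot, ← hb]; exact mem_map_of_mem ψ hm
        exact ⟨⟨m, hUH hm⟩, (hker _).1 this, rfl⟩
      · exfalso
        apply hU.prime
        have hd : Nat.card ((U.subgroupOf H).map ψ) ∣ Nat.card (U.subgroupOf H) := card_map_dvd _ ψ
        rw [ht, card_top, h5, Nat.card_congr (subgroupOfEquivOfLe hUH).toEquiv] at hd
        exact (show 3 ∣ 60 by norm_num).trans hd
    have hMO : M ≤ O := hcore M hM hMH le_rfl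
    have hg3 : ψ xH ^ 3 = 1 := by rw [← map_pow, hsc.cubed, map_one]
    have hg1 : ψ xH ≠ 1 := fun hh => hsc.not_mem h3 ((hker _).1 hh)
    obtain ⟨⟨v, hv1, hv2, hvw, hvg⟩, t, ht⟩ := altFive_facts (ψ xH) hg3 hg1
    refine ⟨O, hsub N hN h3, hMO, map_subtype_le N, hmap N hN, by rw [hcard, hHc], ?_, ?_, ?_, ?_, hcore⟩
    · rintro _ ⟨u, hu, rfl⟩
      simpa [pow_two] using congrArg Subtype.val (hN2 u hu)
    · rintro _ ⟨u, hu, rfl⟩ _ ⟨u', hu', rfl⟩
      exact congrArg (fun z : N => ((z : H) : G)) (hNc.is_comm.comm ⟨u, hu⟩ ⟨u', hu'⟩)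
    · -- the preimage of the invariant four-group
      set g := ψ xH with hg
      set w := g * v * g⁻¹ with hw
      have hw2 : w * w = 1 := by
        calc w * w = g * (v * v) * g⁻¹ := by rw [hw]; group
          _ = 1 := by rw [hv2, mul_one, mul_inv_cancel]
      have hw1 : w ≠ 1 := fun hh => hv1 (conj_eq_one_iff.1 hh)
      have hwv : w ≠ v := fun hh => hv1 (by
        rw [hh] at hvg
        exact (hh.symm.trans (hw.trans (hvg.trans hv2))))
      let V : Subgroup (alternatingGroup (Fin 5)) :=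
        { carrier := {1, v, w, v * w}
          one_mem' := Or.inl rfl
          mul_mem' := by
            intro a b ha hb
            simp only [Set.mem_insert_iff, Set.mem_singleton_iff] at ha hb ⊢
            have e1 : v * (v * w) = w := by rw [← mul_assoc, hv2, one_mul]
            have e2 : w * (v * w) = v := by rw [hvw, ← mul_assoc, hw2, one_mul]
            have e3 : v * w * v = w := by rw [hvw, mul_assoc, hv2, mul_one]
            have e4 : v * w * w = v := by rw [mul_assoc, hw2, mul_one]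
            have e5 : v * w * (v * w) = 1 := by rw [← mul_assoc, e3, hw2]
            rcases ha with rfl | rfl | rfl | rfl <;> rcases hb with rfl | rfl | rfl | rfl <;>
              simp [hv2, hw2, ← hvw, e1, e2, e3, e4, e5]
          inv_mem' := by
            intro a ha
            simp only [Set.mem_insert_iff, Set.mem_singleton_iff] at ha ⊢
            have e5 : (v * w) * (v * w) = 1 := by
              rw [← mul_assoc, show v * w * v = w by rw [hvw, mul_assoc, hv2, mul_one], hw2]
            rcases ha with rfl | rfl | rfl | rfl <;>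
              simp [inv_eq_of_mul_eq_one_right hv2, inv_eq_of_mul_eq_one_right hw2,
                inv_eq_of_mul_eq_one_right e5] }
      have hVinv : ∀ a ∈ V, g * a * g⁻¹ ∈ V := by
        intro a ha
        have hgw : g * w * g⁻¹ = v * w := hvg
        have hgvw : g * (v * w) * g⁻¹ = v := by
          calc g * (v * w) * g⁻¹ = (g * v * g⁻¹) * (g * w * g⁻¹) := by group
            _ = w * (v * w) := by rw [hgw]
            _ = v := by rw [hvw, ← mul_assoc, hw2, one_mul]
        change g * a * g⁻¹ ∈ ({1, v, w, v * w} : Set _)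
        change a ∈ ({1, v, w, v * w} : Set _) at ha
        simp only [Set.mem_insert_iff, Set.mem_singleton_iff] at ha ⊢
        rcases ha with rfl | rfl | rfl | rfl
        · simp
        · exact Or.inr (Or.inr (Or.inl hw.symm))
        · exact Or.inr (Or.inr (Or.inr hgw))
        · exact Or.inr (Or.inl hgvw)
      have hV4 : Nat.card V = 4 := by
        have hvw1 : v * w ≠ 1 := fun hh => hwv (by
          calc w = v * (v * w) := by rw [← mul_assoc, hv2, one_mul]
            _ = v := by rw [hh, mul_one])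
        have hvwv : v * w ≠ v := fun hh => hw1 (mul_eq_left.1 hh)
        have hvww : v * w ≠ w := fun hh => hv1 (mul_eq_right.1 hh)
        show Nat.card ({1, v, w, v * w} : Set (alternatingGroup (Fin 5))) = 4
        rw [Nat.card_coe_set_eq, Set.ncard_insert_of_notMem (by simp [hv1.symm, hw1.symm, hvw1.symm]),
          Set.ncard_insert_of_notMem (by simp [hwv.symm, hvwv.symm]),
          Set.ncard_pair hvww.symm]
      refine ⟨(V.comap ψ).map H.subtype, ⟨?_, ?_⟩, ?_, map_subtype_le _, ?_⟩
      · rintro _ ⟨u, hu, rfl⟩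
        refine ⟨xH * u * xH⁻¹, ?_, rfl⟩
        show ψ (xH * u * xH⁻¹) ∈ V
        rw [map_mul, map_mul, map_inv]
        exact hVinv _ hu
      · rw [hcard]
        have hc := (V.comap ψ).card_mul_index
        rw [index_comap_of_surjective V hψ, hHc] at hc
        have hi := V.card_mul_index
        rw [hV4, h5] at hi
        have : V.index = 15 := by omega
        rw [this] at hc
        intro h3'
        apply h3
        have : Nat.card (V.comap ψ) = 4 * Nat.card N := by omega
        rw [this] at h3'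
        exact (Nat.prime_three.dvd_mul.1 h3').resolve_left (by norm_num)
      · exact map_mono fun u hu => by
          show ψ u ∈ V
          rw [(hker u).2 hu]
          exact V.one_mem
      · rw [hcard, hcard]
        have hc := (V.comap ψ).card_mul_index
        rw [index_comap_of_surjective V hψ, hHc] at hc
        have hi := V.card_mul_index
        rw [hV4, h5] at hi
        have : V.index = 15 := by omega
        rw [this] at hc
        exact Nat.eq_of_mul_eq_mul_right (by norm_num : 0 < 15) (hc.trans (by ring))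
    · -- an inverter
      obtain ⟨τ, hτ⟩ := hψ t
      have hmem : τ * xH * τ⁻¹ * xH ∈ N := (hker _).1 (by
        rw [map_mul, map_mul, map_mul, map_inv, hτ, ht, inv_mul_cancel])
      have hsN := hsub N hN h3
      have hfix : ∀ c ∈ O, Commute c x⁻¹ → c = 1 := fun c hc hcc =>
        h.fixed hx hx1 hsN.prime hc (by simpa using hcc.inv_right)
      have hinvx : ∀ c ∈ O, x⁻¹ * c * x⁻¹⁻¹ ∈ O := fun c hc => by
        have := (mem_normalizer_iff.mp (inv_mem (mem_normalizer_of_inv hsN.inv)) c).mp hc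
        exact this
      obtain ⟨o, ho, hoe⟩ := SelfCentNine.exists_conj_eq hinvx hfix
        (show ((τ * xH * τ⁻¹ * xH : H) : G) ∈ O from ⟨_, hmem, rfl⟩)
      refine ⟨o⁻¹ * τ, H.mul_mem (H.inv_mem (map_subtype_le N ho)) τ.2, ?_⟩
      have e1 : (τ : G) * x * (τ : G)⁻¹ = o * x⁻¹ * o⁻¹ := by
        rw [hoe]
        simp [hxH, mul_assoc]
      calc o⁻¹ * (τ : G) * x * (o⁻¹ * (τ : G))⁻¹ = o⁻¹ * ((τ : G) * x * (τ : G)⁻¹) * o := by group
        _ = x⁻¹ := by rw [e1]; group
  · exfalso
    -- `H` would be simple, but `M` is normal in it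
    haveI : Fact (Nat.Prime 7) := ⟨by norm_num⟩
    haveI : IsSimpleGroup (Matrix.ProjectiveSpecialLinearGroup (Fin 2) (ZMod 7)) :=
      PSL2.isSimpleGroup_psl (L := ZMod 7) (by simp [Nat.card_eq_fintype_card])
    haveI : IsSimpleGroup H := e.isSimpleGroup
    have hMn : (M.subgroupOf H).Normal := normal_in_normalizer
    rcases hMn.eq_bot_or_eq_top with hb | ht
    · refine hne ((eq_bot_iff_forall M).2 fun m hm => ?_)
      have : (⟨m, hMH hm⟩ : H) ∈ M.subgroupOf H := hm
      rw [hb, mem_bot] at this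
      exact congrArg Subtype.val this
    · exact hsc.ne_one (Subtype.ext (h.fixed hx hx1 hM.prime
        (show x ∈ M from (ht ▸ mem_top xH : xH ∈ M.subgroupOf H)) (Commute.refl x)))

end Cfsg.Agent.SmallOrders.NineOneClass
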