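-- Two subgroups of index 2 and class two in a 2-group, one normalised by `x` and inverted by the other.
--
-- * `commutative_of_index_two`: the invariant one is abelian
-- * `card_le_four_of_index_two`: if both are abelian it has order at most 4
import Cfsg.Agent.Lib.SmallOrders.NineOneClass.Local

set_option autoImplicit false
set_option linter.unusedSectionVars false

namespace Cfsg.Agent.SmallOrders.NineOneClass

open Subgroup SelfCentNine SelfCentThree

variable {G : Type*} [Group G] [Finite G] {S : Subgroup G} {x t : G} {N M M' : Subgroup G}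

theorem normal_of_two {N M : Subgroup G} (hMN : M ≤ N) (hc : Nat.card N = 2 * Nat.card M) :
    (M.subgroupOf N).Normal ∧ (M.subgroupOf N).index = 2 := by
  have h := (M.subgroupOf N).card_mul_index
  rw [Nat.card_congr (subgroupOfEquivOfLe hMN).toEquiv, hc, mul_comm 2] at h
  have hi := Nat.eq_of_mul_eq_mul_left Nat.card_pos h
  exact ⟨Subgroup.normal_of_index_eq_two hi, hi⟩

theorem conj_mem_of_two (hMN : M ≤ N) (hc : Nat.card N = 2 * Nat.card M) {n a : G} (hn : n ∈ N)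
    (ha : a ∈ M) : n * a * n⁻¹ ∈ M :=
  mem_subgroupOf.1 ((normal_of_two hMN hc).1.conj_mem ⟨a, hMN ha⟩ (mem_subgroupOf.2 ha) ⟨n, hn⟩)

theorem mul_inv_mem_of_two (hMN : M ≤ N) (hc : Nat.card N = 2 * Nat.card M) {a b : G} (ha : a ∈ N)
    (hb : b ∈ N) (ha' : a ∉ M) (hb' : b ∉ M) : a * b⁻¹ ∈ M := by
  have h := (Subgroup.mul_mem_iff_of_index_two (normal_of_two hMN hc).2
    (a := (⟨a, ha⟩ : N)) (b := (⟨b, hb⟩ : N)⁻¹)).2 (by
      simp only [inv_mem_iff, mem_subgroupOf]
      exact iff_of_false ha' hb')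
  exact mem_subgroupOf.1 h

/-- The data: `M` normalised by `x`, both of index 2 and class two, `t` in `M'` inverts `x` modulo `M`. -/
structure Pair (x t : G) (N M M' : Subgroup G) : Prop where
  sub : Sub x M
  le : M ≤ N
  le' : M' ≤ N
  card : Nat.card N = 2 * Nat.card M
  card' : Nat.card N = 2 * Nat.card M'
  mem : t ∈ M'
  not_mem : t ∉ M
  inverts : t * x * t⁻¹ * x ∈ M
  cls : ∀ a ∈ M', ∀ b ∈ M', ∀ c ∈ M', Commute c (a * b * a⁻¹ * b⁻¹)

namespace Pair

/-- `t⁻¹ x t = n x⁻¹` with `n ∈ M` -/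
theorem exists_shift (P : Pair x t N M M') : ∃ n ∈ M, t⁻¹ * x * t = n * x⁻¹ := by
  have hm1 : t⁻¹ * (t * x * t⁻¹ * x) * t ∈ M := by
    have := conj_mem_of_two P.le P.card (N.inv_mem (P.le' P.mem)) P.inverts
    rwa [inv_inv] at this
  refine ⟨x⁻¹ * (t⁻¹ * (t * x * t⁻¹ * x) * t) * x, ?_, by group⟩
  have hx := mem_normalizer_of_inv P.sub.inv
  have := (mem_normalizer_iff.mp (inv_mem hx) _).mp hm1
  rwa [inv_inv] at this

theorem commutative (P : Pair x t N M M') (h : One S) (hxS : x ∈ S) (hx1 : x ≠ 1) :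
    ∀ a ∈ M, ∀ b ∈ M, Commute a b := by
  have hx := h.cubed x hxS
  have hM := P.sub
  have hxx : x⁻¹ = x * x := inv_eq_of_mul_eq_one_right (by rw [← mul_assoc, ← pow_three', hx])
  let c : G → G → G := fun a b => a * b * a⁻¹ * b⁻¹
  let σ : G → G := fun a => x * a * x⁻¹
  have hσmul : ∀ a b, σ (a * b) = σ a * σ b := fun a b => by simp only [σ]; group
  have hσinv : ∀ a, σ a⁻¹ = (σ a)⁻¹ := fun a => by simp only [σ]; group
  have hσc : ∀ a b, σ (c a b) = c (σ a) (σ b) := fun a b => by simp only [σ, c]; group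
  have hσ3 : ∀ a, σ (σ (σ a)) = a := fun a => SelfCentNine.conj_thrice hx a
  have hσσ : ∀ a, σ (σ a) = x⁻¹ * a * x := fun a => by
    calc σ (σ a) = x⁻¹ * x ^ 3 * a * (x ^ 3)⁻¹ * x := by simp only [σ, pow_three]; group
      _ = _ := by rw [hx]; group
  have hσM : ∀ a ∈ M, σ a ∈ M := fun a ha => hM.inv a ha
  have hcube : ∀ a ∈ M, a * σ a * σ (σ a) = 1 ∧ Commute a (σ a) := fun a ha => by
    obtain ⟨h1, h2⟩ := hM.cube h hx hx1 ha
    refine ⟨?_, h2⟩
    simp only [σ]
    rw [← h1]; group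
  have hcM : ∀ a ∈ M, ∀ b ∈ M, c a b ∈ M := fun a ha b hb =>
    mul_mem (mul_mem (mul_mem ha hb) (inv_mem ha)) (inv_mem hb)
  have hcl := hM.classTwo h hx hx1
  -- bilinearity
  have hc1 : ∀ a ∈ M, ∀ p ∈ M, ∀ r ∈ M, c a (p * r) = c a p * c a r := fun a ha p hp r hr => by
    have e : c a (p * r) = c a p * (p * c a r * p⁻¹) := by simp only [c]; group
    rw [e, (hcl a ha r hr p hp).eq, mul_inv_cancel_right]
  have hc2 : ∀ a b, c b a = (c a b)⁻¹ := fun a b => by simp only [c]; group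
  have hc3 : ∀ a b, c a b = 1 ↔ Commute a b := fun a b => by
    simp only [c]
    rw [mul_inv_eq_one, mul_inv_eq_iff_eq_mul]
    exact Iff.rfl
  -- the commutators with `t`
  let u : G → G := fun a => a⁻¹ * t⁻¹ * a * t
  have htN : t ∈ N := P.le' P.mem
  have huM : ∀ a ∈ M, u a ∈ M := fun a ha => by
    have := conj_mem_of_two P.le P.card (N.inv_mem htN) ha
    rw [inv_inv] at this
    simpa [u, mul_assoc] using mul_mem (inv_mem ha) this
  have huM' : ∀ a ∈ M, u a ∈ M' := fun a ha => by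
    have := conj_mem_of_two P.le' P.card' (N.inv_mem (P.le ha)) (inv_mem P.mem)
    rw [inv_inv] at this
    exact mul_mem this P.mem
  have hud : ∀ d ∈ M, d ∈ M' → ∀ e ∈ M', Commute e (u d) := fun d _ hd e he => by
    have := P.cls d⁻¹ (inv_mem hd) t⁻¹ (inv_mem P.mem) e he
    simpa [u] using this
  have hW : ∀ a ∈ M, ∀ b ∈ M, Commute (u a) (u b) := by
    intro a ha b hb
    by_cases ha' : a ∈ M'
    · exact (hud a ha ha' _ (huM' b hb)).symm
    by_cases hb' : b ∈ M'
    · exact hud b hb hb' _ (huM' a ha)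
    have hd' : b * a⁻¹ ∈ M' := mul_inv_mem_of_two P.le' P.card' (P.le hb) (P.le ha) hb' ha'
    have hd : b * a⁻¹ ∈ M := mul_mem hb (inv_mem ha)
    have e : u b = c a⁻¹ (u (b * a⁻¹)) * u (b * a⁻¹) * u a := by simp only [u, c]; group
    rw [e]
    exact ((hcl _ (inv_mem ha) _ (huM _ hd) _ (huM a ha)).mul_right
      (hud _ hd hd' _ (huM' a ha))).mul_right (Commute.refl _)
  -- the crossed pairs
  have hB : ∀ a ∈ M, ∀ b ∈ M, c (u a) (σ (u b)) = 1 ∧ c (u a) (σ (σ (u b))) = 1 := by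
    have key : ∀ a ∈ M, ∀ b ∈ M, c (u a) (σ (σ (u b))) = (c (u a) (σ (u b)))⁻¹ := fun a ha b hb => by
      have hub := huM b hb
      have h1 : c (u a) (u b * σ (u b) * σ (σ (u b))) = 1 := by
        rw [(hcube _ hub).1]; simp [c]
      rw [hc1 _ (huM a ha) _ (mul_mem hub (hσM _ hub)) _ (hσM _ (hσM _ hub)),
        hc1 _ (huM a ha) _ hub _ (hσM _ hub), (hc3 _ _).2 (hW a ha b hb), one_mul] at h1
      exact eq_inv_of_mul_eq_one_right h1
    have key2 : ∀ a ∈ M, ∀ b ∈ M, σ (σ (c (u b) (σ (u a)))) = c (u a) (σ (u b)) := fun a ha b hb => by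
      rw [hσc, hσc, hσ3, hc2, key a ha b hb, inv_inv]
    intro a ha b hb
    have hfix : c (u a) (σ (u b)) = 1 := by
      have e : σ (c (u a) (σ (u b))) = c (u a) (σ (u b)) := by
        conv_rhs => rw [← key2 a ha b hb, ← key2 b hb a ha, hσ3]
      refine h.fixed hx hx1 hM.prime (hcM _ (huM a ha) _ (hσM _ (huM b hb))) ?_
      exact (mul_inv_eq_iff_eq_mul.mp e).symm
    exact ⟨hfix, by rw [key a ha b hb, hfix, inv_one]⟩
  -- the abelian subgroup
  let gens : Set G := {g | ∃ a ∈ M, g = u a ∨ g = σ (u a) ∨ g = σ (σ (u a))} ∪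
    ((M ⊓ centralizer (M : Set G) : Subgroup G) : Set G)
  have hgM : gens ⊆ M := by
    rintro g (⟨a, ha, rfl | rfl | rfl⟩ | hg)
    exacts [huM a ha, hσM _ (huM a ha), hσM _ (hσM _ (huM a ha)), hg.1]
  have hσcomm : ∀ p r, Commute p r → Commute (σ p) (σ r) := fun p r hpr =>
    SelfCentNine.commute_conj hpr x
  have hcomm : ∀ p ∈ gens, ∀ r ∈ gens, p * r = r * p := by
    intro p hp r hr
    rcases hr with ⟨b, hb, hr⟩ | hr
    swap
    · exact mem_centralizer_iff.mp hr.2 p (hgM hp)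
    rcases hp with ⟨a, ha, hp⟩ | hp
    swap
    · exact (mem_centralizer_iff.mp hp.2 r (hgM (Or.inl ⟨b, hb, hr⟩))).symm
    have c00 := hW a ha b hb
    have c01 := (hc3 _ _).1 (hB a ha b hb).1
    have c02 := (hc3 _ _).1 (hB a ha b hb).2
    have c10 := ((hc3 _ _).1 (hB b hb a ha).1).symm
    have c20 := ((hc3 _ _).1 (hB b hb a ha).2).symm
    have c11 := hσcomm _ _ c00
    have c12 := hσcomm _ _ c01
    have c21 := hσcomm _ _ c10
    have c22 := hσcomm _ _ c11
    rcases hp with rfl | rfl | rfl <;> rcases hr with rfl | rfl | rfl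
    exacts [c00, c01, c02, c10, c11, c12, c20, c21, c22]
  set L := closure gens with hL
  have hLc : IsMulCommutative L := isMulCommutative_closure hcomm
  have hZ : ∀ p ∈ M, ∀ r ∈ M, c p r ∈ L := fun p hp r hr =>
    subset_closure (Or.inr ⟨hcM p hp r hr, mem_centralizer_iff.mpr fun g hg =>
      (hcl p hp r hr g hg).eq⟩)
  obtain ⟨n, hn, hnt⟩ := P.exists_shift
  have hk : ∀ m ∈ M, (σ m)⁻¹ * σ (σ m) ∈ L := by
    intro m hm
    have hτ : t⁻¹ * m * t ∈ M := by
      have := conj_mem_of_two P.le P.card (N.inv_mem htN) hm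
      rwa [inv_inv] at this
    have hw : σ (σ (t⁻¹ * m * t)) ∈ M := hσM _ (hσM _ hτ)
    have e1 : t⁻¹ * σ m * t = n * σ (σ (t⁻¹ * m * t)) * n⁻¹ := by
      rw [hσσ]
      calc t⁻¹ * σ m * t = (t⁻¹ * x * t) * (t⁻¹ * m * t) * (t⁻¹ * x * t)⁻¹ := by
            simp only [σ]; group
        _ = _ := by rw [hnt]; group
    have hz := hcl n hn _ hw (σ m) (hσM m hm)
    have e2 : (σ m)⁻¹ * σ (σ m) =
        (c n (σ (σ (t⁻¹ * m * t))))⁻¹ * u (σ m) * (σ (σ (u m)))⁻¹ := by
      have e3 : u (σ m) = c n (σ (σ (t⁻¹ * m * t))) * ((σ m)⁻¹ * σ (σ (t⁻¹ * m * t))) := by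
        calc u (σ m) = (σ m)⁻¹ * (t⁻¹ * σ m * t) := by simp only [u]; group
          _ = (σ m)⁻¹ * c n (σ (σ (t⁻¹ * m * t))) * σ (σ (t⁻¹ * m * t)) := by
            rw [e1]; simp only [c]; group
          _ = _ := by rw [hz.inv_left.eq, mul_assoc]
      have e4 : σ (σ (u m)) = (σ (σ m))⁻¹ * σ (σ (t⁻¹ * m * t)) := by
        rw [← hσinv, ← hσinv, ← hσmul, ← hσmul]
        simp only [u]; group
      rw [e3, e4]; group
    rw [e2]
    exact mul_mem (mul_mem (inv_mem (hZ n hn _ hw))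
      (subset_closure (Or.inl ⟨_, hσM m hm, Or.inl rfl⟩)))
      (inv_mem (subset_closure (Or.inl ⟨_, hm, Or.inr (Or.inr rfl)⟩)))
  have hML : ∀ m ∈ M, m ∈ L := by
    intro m hm
    have h1 := hk _ (hσM _ (hσM m hm))
    have h2 := hk _ (hσM m hm)
    rw [hσ3] at h1 h2
    have h3 : m ^ 3 ∈ L := by
      have := inv_mem (mul_mem h1 (inv_mem h2))
      have e : (m⁻¹ * σ m * ((σ (σ m))⁻¹ * m)⁻¹)⁻¹ = m ^ 3 := by
        obtain ⟨e1, e2⟩ := hcube m hm
        have e5 : σ (σ m) = (m * σ m)⁻¹ := eq_inv_of_mul_eq_one_right e1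
        rw [e5]
        calc (m⁻¹ * σ m * ((m * σ m)⁻¹⁻¹ * m)⁻¹)⁻¹ = m * (σ m * m) * (σ m)⁻¹ * m := by group
          _ = m ^ 3 := by rw [← e2.eq]; simp only [pow_three]; group
      rwa [e] at this
    have hcop : Nat.Coprime 3 (orderOf m) := Nat.prime_three.coprime_iff_not_dvd.2 fun hd =>
      hM.prime (hd.trans (Subgroup.orderOf_dvd_natCard M hm))
    obtain ⟨k, hk'⟩ := exists_pow_eq_self_of_coprime hcop
    rw [← hk']
    exact pow_mem h3 k
  intro a ha b hb
  exact congrArg Subtype.val (hLc.is_comm.comm (⟨a, hML a ha⟩ : L) ⟨b, hML b hb⟩)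

theorem card_le_four (P : Pair x t N M M') (h : One S) (hxS : x ∈ S) (hx1 : x ≠ 1)
    (hc' : ∀ a ∈ M', ∀ b ∈ M', Commute a b) : Nat.card M ≤ 4 := by
  classical
  have hx := h.cubed x hxS
  have hc := P.commutative h hxS hx1
  obtain ⟨n, hn, hnt⟩ := P.exists_shift
  have hne : ¬ M ≤ M' := fun hle => P.not_mem (by
    have hcc : Nat.card M = Nat.card M' := by have := P.card; have := P.card'; omega
    rw [eq_of_le_of_card_ge hle hcc.ge]; exact P.mem)
  obtain ⟨m0, hm0, hm0'⟩ := SetLike.not_le_iff_exists.1 hne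
  set D := M ⊓ M'
  have key : ∀ d ∈ D, x * d * x⁻¹ ∈ D → d = 1 := by
    intro d hd hd'
    have h1 : Commute d t := hc' d hd.2 t P.mem
    have h2 : Commute d (x⁻¹ * t * x) :=
      SelfCentNine.commute_of_conj (c := x) (by
        rw [show x * (x⁻¹ * t * x) * x⁻¹ = t by group]
        exact hc' _ hd'.2 t P.mem)
    have e : t⁻¹ * (x⁻¹ * t * x) = (t⁻¹ * x * t)⁻¹ * x := by group
    have h3 : Commute d (x * n⁻¹ * x) := by
      have := h1.inv_right.mul_right h2
      rw [e, hnt] at this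
      simpa [mul_assoc] using this
    have h4 : Commute d (x⁻¹ * n⁻¹ * x) := hc d hd.1 _ (by
      have := (mem_normalizer_iff.mp (inv_mem (mem_normalizer_of_inv P.sub.inv)) n⁻¹).mp (inv_mem hn)
      rwa [inv_inv] at this)
    have h5 : Commute d (x * x) := by
      have := h3.mul_right h4.inv_right
      rwa [show x * n⁻¹ * x * (x⁻¹ * n⁻¹ * x)⁻¹ = x * x by group] at this
    refine h.fixed hx hx1 P.sub.prime hd.1 ?_
    have := h5.mul_right h5
    rwa [show x * x * (x * x) = x ^ 3 * x by simp only [pow_three, mul_assoc], hx, one_mul] at this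
  have hinj : Function.Injective (fun p : D × D => (⟨(p.1 : G) * (x * (p.2 : G) * x⁻¹),
      mul_mem p.1.2.1 (P.sub.inv _ p.2.2.1)⟩ : M)) := by
    rintro ⟨d, e⟩ ⟨d', e'⟩ heq
    have heq' : (d : G) * (x * e * x⁻¹) = d' * (x * e' * x⁻¹) := congrArg Subtype.val heq
    have h1 : (e : G) * (e' : G)⁻¹ = 1 := key _ (mul_mem e.2 (inv_mem e'.2)) (by
      have : x * ((e : G) * (e' : G)⁻¹) * x⁻¹ = (d : G)⁻¹ * d' := by
        calc x * ((e : G) * (e' : G)⁻¹) * x⁻¹
            = (d : G)⁻¹ * ((d : G) * (x * e * x⁻¹)) * (x * e' * x⁻¹)⁻¹ := by group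
          _ = _ := by rw [heq']; group
      rw [this]
      exact mul_mem (inv_mem d.2) d'.2)
    have h2 : e = e' := Subtype.ext (mul_inv_eq_one.1 h1)
    subst h2
    exact Prod.ext (Subtype.ext (mul_right_cancel heq')) rfl
  have hA := Nat.card_le_card_of_injective _ hinj
  rw [Nat.card_prod] at hA
  have hB : Nat.card M ≤ 2 * Nat.card D := by
    let f : M → Bool × D := fun m => if hm : (m : G) ∈ M' then (true, ⟨m, m.2, hm⟩) else
      (false, ⟨(m : G) * m0⁻¹, M.mul_mem m.2 (M.inv_mem hm0),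
        mul_inv_mem_of_two P.le' P.card' (P.le m.2) (P.le hm0) hm hm0'⟩)
    have hf : Function.Injective f := by
      intro a b hab
      simp only [f] at hab
      by_cases ha : (a : G) ∈ M' <;> by_cases hb : (b : G) ∈ M'
      · rw [dif_pos ha, dif_pos hb] at hab
        exact Subtype.ext (congrArg (fun z : Bool × D => (z.2 : G)) hab)
      · rw [dif_pos ha, dif_neg hb] at hab
        simp at hab
      · rw [dif_neg ha, dif_pos hb] at hab
        simp at hab
      · rw [dif_neg ha, dif_neg hb] at hab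
        exact Subtype.ext (mul_right_cancel (congrArg (fun z : Bool × D => (z.2 : G)) hab))
    have := Nat.card_le_card_of_injective f hf
    rwa [Nat.card_prod, Nat.card_eq_fintype_card (α := Bool), Fintype.card_bool] at this
  have := Nat.card_pos (α := D)
  nlinarith

end Pair

end Cfsg.Agent.SmallOrders.NineOneClass
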