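-- Maximal subgroups of order prime to 3 normalised by `x`.
--
-- * `Mx.card_normalizer_dvd`: `|N(M)|` divides `6 |M|`
-- * `Mx.pure`, `Mx.eq_sylow_of_q`, `Mx.two_cases`: `|M|` is `q ^ b`, `2 ^ a`, `2 ^ (a - 1)` or 4
import Cfsg.Agent.Lib.SmallOrders.NineOneClass.Uniq
import Cfsg.Agent.Lib.SmallOrders.Basic

set_option autoImplicit false
set_option linter.unusedSectionVars false
set_option linter.style.haveILetI false

namespace Cfsg.Agent.SmallOrders.NineOneClass

open Subgroup SelfCentNine SelfCentThree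

variable {G : Type*} [Group G] [Finite G] {S : Subgroup G} {x : G} {q a b : ℕ}

/-- The whole hypothesis. -/
structure Data (S : Subgroup G) (x : G) (q a b : ℕ) : Prop where
  one : One S
  xS : x ∈ S
  x1 : x ≠ 1
  prime : q.Prime
  five : 5 ≤ q
  card : Nat.card G = 9 * 2 ^ a * q ^ b

namespace Data

variable (D : Data S x q a b)
include D

theorem cubed : x ^ 3 = 1 := D.one.cubed x D.xS

theorem coprime : Nat.Coprime 2 q :=
  (Nat.coprime_primes Nat.prime_two D.prime).2 (by have := D.five; omega)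

theorem coprime_three : Nat.Coprime 3 q :=
  (Nat.coprime_primes Nat.prime_three D.prime).2 (by have := D.five; omega)

theorem sub_dvd {M : Subgroup G} (hM : ¬ 3 ∣ Nat.card M) : Nat.card M ∣ 2 ^ a * q ^ b := by
  have h : Nat.card M ∣ 9 * (2 ^ a * q ^ b) := by
    rw [← mul_assoc, ← D.card]; exact card_subgroup_dvd_card M
  exact (((Nat.prime_three.coprime_iff_not_dvd.2 hM).pow_left 2).symm).dvd_of_dvd_mul_left h

theorem sub_shape {M : Subgroup G} (hM : ¬ 3 ∣ Nat.card M) :
    ∃ i j, i ≤ a ∧ j ≤ b ∧ Nat.card M = 2 ^ i * q ^ j := by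
  obtain ⟨d, e, hd, he, h⟩ := exists_dvd_and_dvd_of_dvd_mul (D.sub_dvd hM)
  obtain ⟨i, hi, rfl⟩ := (Nat.dvd_prime_pow Nat.prime_two).1 hd
  obtain ⟨j, hj, rfl⟩ := (Nat.dvd_prime_pow D.prime).1 he
  exact ⟨i, j, hi, hj, h⟩

theorem sylow_two [Fact (Nat.Prime 2)] (T : Sylow 2 G) : Nat.card (T : Subgroup G) = 2 ^ a :=
  card_sylow_subgroup (m := 9 * q ^ b) (by rw [D.card]; ring) (by
    rw [Nat.prime_two.dvd_mul]
    rintro (h | h)
    · norm_num at h
    · exact (Nat.prime_two.coprime_iff_not_dvd.1 D.coprime) (Nat.prime_two.dvd_of_dvd_pow h)) T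

theorem sylow_q [Fact q.Prime] (T : Sylow q G) : Nat.card (T : Subgroup G) = q ^ b :=
  card_sylow_subgroup (m := 9 * 2 ^ a) (by rw [D.card]; ring) (by
    rw [D.prime.dvd_mul]
    rintro (h | h)
    · exact (D.prime.coprime_iff_not_dvd.1 D.coprime_three.symm)
        (D.prime.dvd_of_dvd_pow (show q ∣ 3 ^ 2 from h))
    · exact (D.prime.coprime_iff_not_dvd.1 D.coprime.symm) (D.prime.dvd_of_dvd_pow h)) T

end Data

/-- A maximal subgroup of order prime to 3 normalised by `x`. -/
structure Mx (x : G) (M : Subgroup G) : Prop where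
  sub : Sub x M
  max : ∀ U, Sub x U → M ≤ U → U = M

theorem exists_mx {U : Subgroup G} (hU : Sub x U) : ∃ M, Mx x M ∧ U ≤ M := by
  obtain ⟨M, hle, hM⟩ := Finite.exists_le_maximal (p := fun V : Subgroup G => Sub x V) hU
  exact ⟨M, ⟨hM.prop, fun V hV h => le_antisymm (hM.le_of_ge hV h) h⟩, hle⟩

/-- A `p`-subgroup inside a larger one grows in its normaliser. -/
theorem exists_grow {p : ℕ} [Fact p.Prime] {P T : Subgroup G} (hT : IsPGroup p T) (hle : P ≤ T)
    (hne : P ≠ T) : ∃ n ∈ T, n ∉ P ∧ n ∈ normalizer (P : Set G) := by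
  haveI := hT.isNilpotent
  have hlt : P.subgroupOf T < ⊤ := lt_top_iff_ne_top.2 fun e =>
    hne (le_antisymm hle (subgroupOf_eq_top.1 e))
  obtain ⟨n, hn, hnP⟩ := SetLike.exists_of_lt (Group.normalizerCondition_of_isNilpotent _ hlt)
  refine ⟨n, n.2, fun h => hnP (mem_subgroupOf.2 h), mem_normalizer_fintype fun g hg => ?_⟩
  exact mem_subgroupOf.1 ((mem_normalizer_iff.1 hn ⟨g, hle hg⟩).1 (mem_subgroupOf.2 hg))

theorem conj_subgroup_le {P T : Subgroup G} {g : G} (hg : g ∈ normalizer (T : Set G)) (hle : P ≤ T) :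
    P.map (MulAut.conj g).toMonoidHom ≤ T := by
  rintro _ ⟨u, hu, rfl⟩
  exact (mem_normalizer_iff.1 hg u).1 (hle hu)

theorem card_conj (P : Subgroup G) (g : G) :
    Nat.card (P.map (MulAut.conj g).toMonoidHom : Subgroup G) = Nat.card P :=
  (Nat.card_congr (equivMapOfInjective _ _ (MulAut.conj g).injective).toEquiv).symm

theorem mem_normalizer_of_conj_eq {P : Subgroup G} {g : G}
    (h : P.map (MulAut.conj g).toMonoidHom = P) : g ∈ normalizer (P : Set G) :=
  mem_normalizer_fintype fun n hn => h ▸ mem_map_of_mem (MulAut.conj g).toMonoidHom hn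

/-- `x` is inverted modulo `P` by every 2-element of `N(P)` outside `P`, if `|N(P)|` divides `6 |P|`. -/
theorem Data.inverts_of_not_mem (D : Data S x q a b) {P : Subgroup G} (hP : Sub x P) (hne : P ≠ ⊥)
    (hd : Nat.card (normalizer (P : Set G)) ∣ 6 * Nat.card P) {t : G}
    (ht : t ∈ normalizer (P : Set G)) (htP : t ∉ P) (ht2 : ∃ k, t ^ 2 ^ k = 1) :
    t * x * t⁻¹ * x ∈ P := by
  set H := normalizer (P : Set G) with hH
  have hsc := (D.one.sc_normalizer D.xS D.x1 hP hne)
  have h3 : ¬ 3 ∣ Nat.card (P.subgroupOf H) := by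
    rw [Nat.card_congr (subgroupOfEquivOfLe le_normalizer).toEquiv]
    exact hP.prime
  haveI : (P.subgroupOf H).Normal := normal_in_normalizer
  have hq := hsc.quotient h3
  set Q := H ⧸ P.subgroupOf H
  set X : Q := ((⟨x, mem_normalizer_of_inv hP.inv⟩ : H) : Q)
  set U : Q := ((⟨t, ht⟩ : H) : Q)
  have hU1 : U ≠ 1 := fun e => htP (mem_subgroupOf.1 ((QuotientGroup.eq_one_iff _).1 e))
  have hcQ : Nat.card Q ∣ 6 := by
    refine Nat.dvd_of_mul_dvd_mul_right (Nat.card_pos (α := P)) ?_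
    have h := Subgroup.card_eq_card_quotient_mul_card_subgroup (P.subgroupOf H)
    rw [Nat.card_congr (subgroupOfEquivOfLe le_normalizer).toEquiv] at h
    rw [← h]
    exact hd
  obtain ⟨k, hk⟩ := ht2
  have hUk : U ^ 2 ^ k = 1 := by
    have : (⟨t, ht⟩ : H) ^ 2 ^ k = 1 := Subtype.ext (by simpa using hk)
    show ((⟨t, ht⟩ : H) : Q) ^ 2 ^ k = 1
    rw [← QuotientGroup.mk_pow, this, QuotientGroup.mk_one]
  have hUo : orderOf U = 2 := by
    obtain ⟨j, -, hj⟩ := (Nat.dvd_prime_pow Nat.prime_two).1 (orderOf_dvd_of_pow_eq_one hUk)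
    have h6 : orderOf U ∣ 6 := (orderOf_dvd_natCard U).trans hcQ
    have h1 : orderOf U ≠ 1 := fun e => hU1 (orderOf_eq_one_iff.1 e)
    have hle := Nat.le_of_dvd (by norm_num) h6
    rw [hj] at h6 h1 hle ⊢
    rcases j with _ | _ | j
    · simp at h1
    · rfl
    · exfalso
      have h4 : 4 ∣ 6 := (show 4 ∣ 2 ^ (j + 2) from ⟨2 ^ j, by ring⟩).trans h6
      norm_num at h4
  have hX : Nat.card (zpowers X) = 3 := by rw [Nat.card_zpowers]; exact hq.ord
  have h6 : Nat.card Q = 6 := by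
    have a2 : 2 ∣ Nat.card Q := hUo ▸ orderOf_dvd_natCard U
    have a3 : 3 ∣ Nat.card Q := hq.ord ▸ orderOf_dvd_natCard X
    exact Nat.dvd_antisymm hcQ ((show Nat.Coprime 2 3 by norm_num).mul_dvd_of_dvd_of_dvd a2 a3)
  have hidx : (zpowers X).index = 2 := by
    have := (zpowers X).card_mul_index
    rw [hX, h6] at this
    omega
  haveI := Subgroup.normal_of_index_eq_two hidx
  have hin : U * X * U⁻¹ ∈ zpowers X :=
    (inferInstance : (zpowers X).Normal).conj_mem X (mem_zpowers X) U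
  obtain ⟨i, hi⟩ := mem_zpowers_iff.1 hin
  rw [← zpow_mod_orderOf, hq.ord] at hi
  have hcases : i % ((3 : ℕ) : ℤ) = 0 ∨ i % ((3 : ℕ) : ℤ) = 1 ∨ i % ((3 : ℕ) : ℤ) = 2 := by omega
  rcases hcases with e | e | e <;> rw [e] at hi
  · exfalso
    rw [zpow_zero] at hi
    exact hq.ne_one (conj_eq_one_iff.1 hi.symm)
  · exfalso
    rw [zpow_one] at hi
    have hUX : U ∈ zpowers X := hq.cent U (mul_inv_eq_iff_eq_mul.1 hi.symm)
    have := orderOf_dvd_of_mem_zpowers hUX
    rw [hUo, hq.ord] at this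
    norm_num at this
  · have hmem : U * X * U⁻¹ * X = 1 := by
      rw [← hi, ← zpow_add_one, show (2 : ℤ) + 1 = ((3 : ℕ) : ℤ) from rfl, zpow_natCast, hq.cubed]
    have hmem' : (((⟨t, ht⟩ : H) * ⟨x, mem_normalizer_of_inv hP.inv⟩ * (⟨t, ht⟩ : H)⁻¹ *
        ⟨x, mem_normalizer_of_inv hP.inv⟩ : H) : Q) = 1 := by
      rw [QuotientGroup.mk_mul, QuotientGroup.mk_mul, QuotientGroup.mk_mul, QuotientGroup.mk_inv]
      exact hmem
    exact mem_subgroupOf.1 ((QuotientGroup.eq_one_iff _).1 hmem')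

namespace Mx

variable [IsSimpleGroup G] {M : Subgroup G}

theorem le_of_normalized (hM : Mx x M)
    {U : Subgroup G} (hU : Sub x U) (hUN : U ≤ normalizer (M : Set G)) : U ≤ M := by
  have h := hM.max (U ⊔ M) (hU.sup hM.sub hUN) le_sup_right
  exact h ▸ le_sup_left

theorem card_normalizer_dvd (hM : Mx x M) (D : Data S x q a b) (hne : M ≠ ⊥) :
    Nat.card (normalizer (M : Set G)) ∣ 6 * Nat.card M := by
  rcases D.one.local_cases D.xS D.x1 hM.sub hne with ⟨O, hO⟩ | ⟨O, hO⟩
  · rw [← hM.max O hO.sub hO.le]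
    exact hM.max O hO.sub hO.le ▸ hO.card_dvd
  · exfalso
    obtain ⟨U, hU, hOU, -, hcU⟩ := hO.four
    have h1 := hM.max O hO.sub hO.le
    have h2 := hM.max U hU (hO.le.trans hOU)
    rw [h1, h2] at hcU
    have := Nat.card_pos (α := M)
    omega

theorem three_dvd_normalizer (hM : Mx x M) (D : Data S x q a b) :
    3 * Nat.card M ∣ Nat.card (normalizer (M : Set G)) := by
  have h3 : 3 ∣ Nat.card (normalizer (M : Set G)) := by
    have : Fact (Nat.Prime 3) := ⟨Nat.prime_three⟩
    rw [← orderOf_eq_prime D.cubed D.x1]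
    exact Subgroup.orderOf_dvd_natCard (normalizer (M : Set G)) (mem_normalizer_of_inv hM.sub.inv)
  exact (Nat.prime_three.coprime_iff_not_dvd.2 hM.sub.prime).mul_dvd_of_dvd_of_dvd h3
    (card_dvd_of_le le_normalizer)

/-- A part which is not a 2-group has the same normaliser. -/
theorem normalizer_part (hM : Mx x M) (D : Data S x q a b) {P : Subgroup G} (hP : Sub x P)
    (hPM : M ≤ normalizer (P : Set G)) (hne : P ≠ ⊥) (hq : q ∣ Nat.card M) :
    Nat.card (normalizer (P : Set G)) ∣ 6 * Nat.card M ∧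
      normalizer (P : Set G) ≤ normalizer (M : Set G) := by
  rcases D.one.local_cases D.xS D.x1 hP hne with ⟨O, hO⟩ | ⟨O, hO⟩
  · have hMO : M ≤ O := D.one.le_of_index_six D.xS D.x1 hO.sub hM.sub hPM hO.le_norm hO.norm_le
      hO.card_dvd
    have e := hM.max O hO.sub hMO
    subst e
    exact ⟨hO.card_dvd, hO.norm_le⟩
  · exfalso
    have h2 : ∃ n, Nat.card O = 2 ^ n := by
      haveI : Fact (Nat.Prime 2) := ⟨Nat.prime_two⟩
      refine IsPGroup.iff_card.1 fun u => ⟨1, Subtype.ext ?_⟩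
      rw [pow_one, SubgroupClass.coe_pow, pow_two]
      exact hO.elem u u.2
    obtain ⟨n, hn⟩ := h2
    have hd : Nat.card M ∣ 2 ^ (n + 2) := by
      have hMV : Nat.card M ∣ Nat.card ↥(M ⊔ O) := card_dvd_of_le le_sup_left
      rcases D.one.index_sixty D.xS D.x1 hO.sub hM.sub hPM hO.le_norm hO.norm_le hO.card_eq hO.elem
        with e | e <;> rw [e, hn] at hMV
      · exact hMV.trans (pow_dvd_pow 2 (by omega))
      · exact hMV.trans ⟨1, by ring⟩
    exact (D.prime.coprime_iff_not_dvd.1 D.coprime.symm) (D.prime.dvd_of_dvd_pow (hq.trans hd))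

/-- If `q` divides `|M|`, the whole `q`-part of `|G|` does. -/
theorem qpow_dvd (hM : Mx x M) (D : Data S x q a b) (hq : q ∣ Nat.card M) :
    q ^ b ∣ Nat.card M ∧ Nat.card (ppart q M) = q ^ b := by
  have : Fact q.Prime := ⟨D.prime⟩
  haveI := hM.sub.nilpotent D.one D.cubed D.x1
  set P := ppart q M
  have hPc : Nat.card P = q ^ (Nat.card M).factorization q := card_ppart M
  have hPne : P ≠ ⊥ := fun e => by
    rw [e, card_bot] at hPc
    have := D.prime.factorization_pos_of_dvd Nat.card_pos.ne' hq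
    have h1 := (Nat.pow_eq_one.1 hPc.symm).resolve_left D.prime.ne_one
    omega
  obtain ⟨hd, -⟩ := hM.normalizer_part D (hM.sub.ppart q)
    (le_normalizer.trans (normalizer_le_ppart q M)) hPne hq
  obtain ⟨T, hT⟩ := (IsPGroup.of_card hPc : IsPGroup q P).exists_le_sylow
  have hPT : P = T := by
    by_contra hne
    obtain ⟨n, hnT, hnP, hnN⟩ := exists_grow T.isPGroup' hT hne
    have hle : P ⊔ zpowers n ≤ (T : Subgroup G) := sup_le hT (zpowers_le.2 hnT)
    obtain ⟨j, hj⟩ := IsPGroup.iff_card.1 (T.isPGroup'.to_le hle)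
    have hlt : (Nat.card M).factorization q < j := by
      have hlt' : Nat.card P < Nat.card ↥(P ⊔ zpowers n) := by
        refine lt_of_le_of_ne (Subgroup.card_le_of_le le_sup_left) fun e => hnP ?_
        rw [eq_of_le_of_card_ge (le_sup_left : P ≤ P ⊔ zpowers n) e.ge]
        exact mem_sup_right (mem_zpowers n)
      rw [hPc, hj] at hlt'
      exact (Nat.pow_lt_pow_iff_right D.prime.one_lt).1 hlt'
    have hdd : q ^ j ∣ 6 * Nat.card M :=
      hj ▸ (card_dvd_of_le (sup_le le_normalizer (zpowers_le.2 hnN))).trans hd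
    have hcop : Nat.Coprime (q ^ j) 6 :=
      ((D.coprime.symm).mul_right D.coprime_three.symm).pow_left j
    have hdM := hcop.dvd_of_dvd_mul_left hdd
    have := (D.prime.pow_dvd_iff_le_factorization Nat.card_pos.ne').1 hdM
    omega
  have hc : Nat.card P = q ^ b := by rw [hPT]; exact D.sylow_q T
  exact ⟨hc ▸ card_dvd_of_le (ppart_le q M), hc⟩

/-- The possible 2-parts. -/
theorem two_cases_aux (_hM : Mx x M) (D : Data S x q a b) {P : Subgroup G} (hP : Sub x P)
    (hne : P ≠ ⊥) (hd : Nat.card (normalizer (P : Set G)) ∣ 6 * Nat.card P)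
    (hP2 : IsPGroup 2 P) :
    Nat.card P = 2 ^ a ∨ 2 * Nat.card P = 2 ^ a ∨ Nat.card P = 4 := by
  have : Fact (Nat.Prime 2) := ⟨Nat.prime_two⟩
  obtain ⟨T, hT⟩ := hP2.exists_le_sylow
  by_cases hPT : P = T
  · exact Or.inl (by rw [hPT]; exact D.sylow_two T)
  obtain ⟨n, hnT, hnP, hnN⟩ := exists_grow T.isPGroup' hT hPT
  set N := normalizer (P : Set G) ⊓ T
  have hPN : P ≤ N := le_inf le_normalizer hT
  obtain ⟨i, hi⟩ := IsPGroup.iff_card.1 hP2
  have hNc : Nat.card N = 2 * Nat.card P := by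
    obtain ⟨j, hj⟩ := IsPGroup.iff_card.1 (T.isPGroup'.to_le (inf_le_right : N ≤ T))
    have hlt : Nat.card P < Nat.card N := by
      refine lt_of_le_of_ne (Subgroup.card_le_of_le hPN) fun e => hnP ?_
      rw [eq_of_le_of_card_ge hPN e.ge]
      exact ⟨hnN, hnT⟩
    have hdd : Nat.card N ∣ 6 * Nat.card P := (card_dvd_of_le inf_le_left).trans hd
    rw [hi, hj] at hlt hdd ⊢
    have hij : i < j := (Nat.pow_lt_pow_iff_right one_lt_two).1 hlt
    have hdd' : 2 ^ j ∣ 2 ^ (i + 1) := by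
      refine (Nat.Coprime.pow_left j (by norm_num : Nat.Coprime 2 3)).dvd_of_dvd_mul_left ?_
      rwa [show 3 * 2 ^ (i + 1) = 6 * 2 ^ i by ring]
    have := (Nat.pow_dvd_pow_iff_le_right one_lt_two).1 hdd'
    rw [show j = i + 1 by omega, pow_succ, mul_comm]
  by_cases hNT : N = T
  · exact Or.inr (Or.inl (by rw [← hNc, hNT]; exact D.sylow_two T))
  right; right
  obtain ⟨g, hgT, hgN, hgn⟩ := exists_grow T.isPGroup' (inf_le_right : N ≤ T) hNT
  set P' := P.map (MulAut.conj g).toMonoidHom with hP'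
  have hP'N : P' ≤ N := conj_subgroup_le hgn hPN
  have hne' : P' ≠ P := fun e => hgN ⟨mem_normalizer_of_conj_eq e, hgT⟩
  have hcP' : Nat.card P' = Nat.card P := card_conj P g
  obtain ⟨t, htP', htP⟩ := SetLike.not_le_iff_exists.1 fun hle : P' ≤ P =>
    hne' (eq_of_le_of_card_ge hle hcP'.ge)
  have ht2 : ∃ k, t ^ 2 ^ k = 1 := by
    obtain ⟨k, hk⟩ := T.isPGroup' ⟨t, (hP'N htP').2⟩
    exact ⟨k, by simpa using congrArg Subtype.val hk⟩
  have pair : Pair x t N P P' :=
    { sub := hP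
      le := hPN
      le' := hP'N
      card := hNc
      card' := by rw [hcP']; exact hNc
      mem := htP'
      not_mem := htP
      inverts := D.inverts_of_not_mem hP hne hd (hP'N htP').1 htP ht2
      cls := by
        rintro _ ⟨u, hu, rfl⟩ _ ⟨v, hv, rfl⟩ _ ⟨w, hw, rfl⟩
        have := (hP.classTwo D.one D.cubed D.x1 u hu v hv w hw).map (MulAut.conj g).toMonoidHom
        simpa only [map_mul, map_inv] using this }
  have hab := pair.commutative D.one D.xS D.x1
  have h4 := pair.card_le_four D.one D.xS D.x1 (by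
    rintro _ ⟨u, hu, rfl⟩ _ ⟨v, hv, rfl⟩
    exact (hab u hu v hv).map (MulAut.conj g).toMonoidHom)
  have h1 : Nat.card P ≠ 1 := fun e => hne (eq_bot_of_card_eq P e)
  have hmod := hP.card_mod_three D.one D.cubed D.x1
  have := Nat.card_pos (α := P)
  omega

/-- `M` is a `p`-group. -/
theorem pure (hM : Mx x M) (D : Data S x q a b) (hG : ¬ IsMulCommutative G) (hb : b ≠ 0)
    (ha : 3 ≤ a) : IsPGroup 2 M ∨ Nat.card M = q ^ b := by
  have : Fact (Nat.Prime 2) := ⟨Nat.prime_two⟩
  have : Fact q.Prime := ⟨D.prime⟩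
  obtain ⟨i, j, hi, hj, hc⟩ := D.sub_shape hM.sub.prime
  by_cases hj0 : j = 0
  · left
    exact IsPGroup.of_card (n := i) (by rw [hc, hj0, pow_zero, mul_one])
  have hq : q ∣ Nat.card M := by
    rw [hc]; exact dvd_mul_of_dvd_right (dvd_pow_self q hj0) _
  obtain ⟨hqb, hQc⟩ := hM.qpow_dvd D hq
  have hjb : j = b := by
    rw [hc] at hqb
    have := (Nat.Coprime.pow b i D.coprime.symm).dvd_of_dvd_mul_left hqb
    have := (Nat.pow_dvd_pow_iff_le_right D.prime.one_lt).1 this
    omega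
  subst hjb
  by_cases hi0 : i = 0
  · right
    rw [hc, hi0, pow_zero, one_mul]
  exfalso
  haveI := hM.sub.nilpotent D.one D.cubed D.x1
  set P := ppart 2 M
  have hPc : Nat.card P = 2 ^ i := by
    rw [card_ppart, hc, Nat.factorization_mul (by positivity) (pow_ne_zero _ D.prime.ne_zero),
      Finsupp.add_apply, Nat.Prime.factorization_pow Nat.prime_two, Finsupp.single_eq_same,
      Nat.factorization_eq_zero_of_not_dvd, add_zero]
    exact fun h => (Nat.prime_two.coprime_iff_not_dvd.1 D.coprime) (Nat.prime_two.dvd_of_dvd_pow h)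
  have hPne : P ≠ ⊥ := fun e => by
    rw [e, card_bot] at hPc
    have h1 := (Nat.pow_eq_one.1 hPc.symm).resolve_left (by norm_num)
    omega
  obtain ⟨hd, -⟩ := hM.normalizer_part D (hM.sub.ppart 2)
    (le_normalizer.trans (normalizer_le_ppart 2 M)) hPne hq
  -- the q-part centralises `P`
  set Q := ppart q M
  have hcomm : ∀ u ∈ P, ∀ v ∈ Q, Commute u v := by
    intro u hu v hv
    obtain ⟨A⟩ := (inferInstance : Nonempty (Sylow 2 M))
    obtain ⟨B⟩ := (inferInstance : Nonempty (Sylow q M))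
    rw [show P = (A : Subgroup M).map M.subtype from ppart_eq M A] at hu
    rw [show Q = (B : Subgroup M).map M.subtype from ppart_eq M B] at hv
    obtain ⟨u, hu, rfl⟩ := hu
    obtain ⟨v, hv, rfl⟩ := hv
    exact (Subgroup.commute_of_normal_of_disjoint _ _ inferInstance inferInstance
      (IsPGroup.disjoint_of_ne 2 q (by have := D.five; omega) _ _ A.isPGroup' B.isPGroup')
      u v hu hv).map M.subtype
  -- a central involution of a Sylow 2-subgroup has a centraliser of index 9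
  obtain ⟨T, hT⟩ := (IsPGroup.of_card hPc : IsPGroup 2 P).exists_le_sylow
  have hTc := D.sylow_two T
  obtain ⟨u, hu, hu1, huc⟩ : ∃ u ∈ (T : Subgroup G), u ≠ 1 ∧
      ∀ w ∈ (T : Subgroup G), Commute u w := by
    haveI : Nontrivial (T : Subgroup G) := by
      rw [← Finite.one_lt_card_iff_nontrivial, hTc]
      exact Nat.one_lt_two_pow (by omega)
    haveI := T.isPGroup'.center_nontrivial
    obtain ⟨z, hz⟩ := exists_ne (1 : Subgroup.center (T : Subgroup G))
    exact ⟨z.1, z.1.2, fun e => hz (Subtype.ext (Subtype.ext e)), fun w hw =>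
      (congrArg Subtype.val (Subgroup.mem_center_iff.1 z.2 ⟨w, hw⟩)).symm⟩
  have hPn : Sub x P := hM.sub.ppart 2
  have hxP := mem_normalizer_of_inv hPn.inv
  have hCP : Sub x (centralizer (P : Set G)) := by
    refine ⟨inv_of_mem_normalizer (mem_normalizer_fintype fun g hg => ?_), fun h3 => ?_⟩
    · refine mem_centralizer_iff.2 fun p hp => ?_
      have hp' : x⁻¹ * p * x ∈ P := by
        have := (mem_normalizer_iff.1 (inv_mem hxP) p).1 hp
        rwa [inv_inv] at this
      have e := mem_centralizer_iff.1 hg _ hp'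
      calc p * (x * g * x⁻¹) = x * (x⁻¹ * p * x * g) * x⁻¹ := by group
        _ = x * (g * (x⁻¹ * p * x)) * x⁻¹ := by rw [e]
        _ = _ := by group
    · have : Fact (Nat.Prime 3) := ⟨Nat.prime_three⟩
      obtain ⟨y, hy⟩ := exists_prime_orderOf_dvd_card' (G := centralizer (P : Set G)) 3 h3
      have hy' : orderOf (y : G) = 3 := by rw [Subgroup.orderOf_coe]; exact hy
      refine hPne ((eq_bot_iff_forall P).2 fun p hp => ?_)
      exact D.one.fixed (hy' ▸ pow_orderOf_eq_one (y : G))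
        (fun e => by rw [e, orderOf_one] at hy'; omega) hPn.prime hp
        (mem_centralizer_iff.1 y.2 p hp)
  have hNP := (hM.normalizer_part D hPn
    (le_normalizer.trans (normalizer_le_ppart 2 M)) hPne hq).2
  have hCPM : centralizer (P : Set G) ≤ M := hM.le_of_normalized hCP
    ((centralizer_le_normalizer (P : Set G)).trans hNP)
  have huP : u ∈ P := by
    obtain ⟨k, hk⟩ := T.isPGroup' ⟨u, hu⟩
    exact subset_closure ⟨hCPM (mem_centralizer_iff.2 fun w hw => (huc w (hT hw)).eq.symm), k,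
      by simpa using congrArg Subtype.val hk⟩
  set C := centralizer ({u} : Set G) with hC
  have hC3 : ¬ 3 ∣ Nat.card C := by
    intro h3
    have : Fact (Nat.Prime 3) := ⟨Nat.prime_three⟩
    obtain ⟨y, hy⟩ := exists_prime_orderOf_dvd_card' (G := C) 3 h3
    have hy' : orderOf (y : G) = 3 := by rw [Subgroup.orderOf_coe]; exact hy
    exact hu1 (D.one.fixed (hy' ▸ pow_orderOf_eq_one (y : G))
      (fun e => by rw [e, orderOf_one] at hy'; omega) hPn.prime huP
      (mem_centralizer_singleton_iff.1 y.2).symm)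
  have hTC : (T : Subgroup G) ≤ C := fun w hw => mem_centralizer_singleton_iff.2 (huc w hw).eq.symm
  have hQC : Q ≤ C := fun w hw => mem_centralizer_singleton_iff.2 (hcomm u huP w hw).eq.symm
  have hCc : Nat.card C = 2 ^ a * q ^ j := Nat.dvd_antisymm (D.sub_dvd hC3)
    ((Nat.Coprime.pow a j D.coprime).mul_dvd_of_dvd_of_dvd (hTc ▸ card_dvd_of_le hTC)
      (hQc ▸ card_dvd_of_le hQC))
  have hidx : C.index = 9 := by
    have h := C.card_mul_index
    rw [hCc, D.card, show 9 * 2 ^ a * q ^ j = 2 ^ a * q ^ j * 9 by ring] at h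
    exact Nat.eq_of_mul_eq_mul_left (Nat.mul_pos (by positivity) (pow_pos D.prime.pos _)) h
  have hfac := two_mul_card_dvd_factorial_index hG
    (show C ≠ ⊤ from fun e => by rw [e, index_top] at hidx; omega)
  rw [hidx, D.card, show (Nat.factorial 9) = 9 * 40320 from rfl,
    show 2 * (9 * 2 ^ a * q ^ j) = 9 * (2 * 2 ^ a * q ^ j) by ring] at hfac
  have hfac' := Nat.dvd_of_mul_dvd_mul_left (by norm_num : 0 < 9) hfac
  have hq7 : q ∣ 40320 := ((dvd_pow_self q hj0).trans (dvd_mul_left _ _)).trans hfac'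
  have hqmod : q ^ j % 3 = 1 := by
    rw [← hQc]; exact (hM.sub.ppart q).card_mod_three D.one D.cubed D.x1
  have hqle : q ≤ 7 := by
    rw [show (40320 : ℕ) = 2 ^ 7 * (3 ^ 2 * (5 * 7)) by norm_num] at hq7
    rcases D.prime.dvd_mul.1 hq7 with h' | h'
    · have := Nat.le_of_dvd (by norm_num) (D.prime.dvd_of_dvd_pow h'); omega
    rcases D.prime.dvd_mul.1 h' with h' | h'
    · have := Nat.le_of_dvd (by norm_num) (D.prime.dvd_of_dvd_pow h'); omega
    rcases D.prime.dvd_mul.1 h' with h' | h' <;>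
      · have := Nat.le_of_dvd (by norm_num) h'; omega
  have hb1 : j = 1 := by
    by_contra hne1
    have h2 : q ^ 2 ∣ 40320 :=
      ((pow_dvd_pow q (show 2 ≤ j by omega)).trans (dvd_mul_left _ _)).trans hfac'
    have h5 := D.five
    have hp := D.prime
    interval_cases q <;> first | (norm_num at h2; done) | (norm_num at hp; done)
  subst hb1
  rw [pow_one] at hqmod hQc hCc hfac' hc
  have hq7' : q = 7 := by
    have h5 := D.five
    have hp := D.prime
    interval_cases q <;> first | rfl | (norm_num at hqmod; done) | (norm_num at hp; done)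
  subst hq7'
  have ha6 : 2 ^ a ∣ 64 := by
    have h1 : 2 * 2 ^ a ∣ 128 * 315 := (dvd_mul_right _ 7).trans hfac'
    have hcop : Nat.Coprime (2 * 2 ^ a) 315 := by
      rw [← pow_succ']; exact Nat.Coprime.pow_left _ (by norm_num)
    exact Nat.dvd_of_mul_dvd_mul_left (by norm_num : 0 < 2) (hcop.dvd_of_dvd_mul_right h1)
  -- the number of Sylow 7-subgroups
  obtain ⟨B, hB⟩ := (IsPGroup.of_card (n := 1) (by rw [hQc, pow_one]) : IsPGroup 7 Q).exists_le_sylow
  have hQB : Q = B := eq_of_le_of_card_ge hB (by rw [D.sylow_q B, hQc, pow_one])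
  have hQne : Q ≠ ⊥ := fun e => by rw [e, card_bot] at hQc; omega
  have hNQ := hM.normalizer_part D (hM.sub.ppart 7)
    (le_normalizer.trans (normalizer_le_ppart 7 M)) hQne hq
  have hn := card_normalizer_mul_card_sylow B
  rw [← hQB, D.card] at hn
  have hmod := card_sylow_modEq_one 7 G
  have h3M : 3 * Nat.card M ∣ Nat.card (normalizer (Q : Set G)) :=
    (hM.three_dvd_normalizer D).trans (card_dvd_of_le (normalizer_le_ppart 7 M))
  obtain ⟨k, hk⟩ := h3M
  have hk2 : k ∣ 2 := by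
    have h := hNQ.1
    rw [hk, show 6 * Nat.card M = 3 * Nat.card M * 2 by ring] at h
    exact Nat.dvd_of_mul_dvd_mul_left (Nat.mul_pos (by norm_num) Nat.card_pos) h
  set n := Nat.card (Sylow 7 G)
  have hn' : 2 ^ i * (k * n) = 3 * 2 ^ a := by
    rw [hk, hc] at hn
    exact Nat.eq_of_mul_eq_mul_left (by norm_num : 0 < 21) (by linarith)
  have h3n : 3 ∣ n := by
    have h' : 3 ∣ 2 ^ i * (k * n) := hn' ▸ dvd_mul_right _ _
    rcases Nat.prime_three.dvd_mul.1 h' with h' | h'
    · have := Nat.le_of_dvd (by norm_num) (Nat.prime_three.dvd_of_dvd_pow h'); omega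
    rcases Nat.prime_three.dvd_mul.1 h' with h' | h'
    · have := Nat.le_of_dvd (by norm_num) (h'.trans hk2); omega
    · exact h'
  have hnd : n ∈ Nat.divisors 192 := Nat.mem_divisors.2 ⟨
    ((dvd_mul_left n k).trans (dvd_mul_left _ _)).trans (hn'.dvd.trans (Nat.mul_dvd_mul_left 3 ha6)),
    by norm_num⟩
  revert hmod h3n hnd
  generalize n = m
  intro hmod h3n hnd
  have hall : ∀ m ∈ Nat.divisors 192, 3 ∣ m → m % 7 ≠ 1 := by decide +kernel
  exact hall m hnd h3n hmod

/-- The order of a maximal 2-subgroup. -/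
theorem two_cases (hM : Mx x M) (D : Data S x q a b) (hne : M ≠ ⊥) (h2 : IsPGroup 2 M) :
    Nat.card M = 2 ^ a ∨ 2 * Nat.card M = 2 ^ a ∨ Nat.card M = 4 :=
  hM.two_cases_aux D hM.sub hne (hM.card_normalizer_dvd D hne) h2

end Mx

end Cfsg.Agent.SmallOrders.NineOneClass
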