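-- Pairs of elements of order 3 with product `x` and invariant subgroups.
--
-- * `card_pairs`: there are `7 + |covered x|` pairs, `covered x` being the union of the maximal subgroups
import Cfsg.Agent.Lib.SmallOrders.NineOneClass.Max

set_option autoImplicit false
set_option linter.unusedSectionVars false

namespace Cfsg.Agent.SmallOrders.NineOneClass

open Subgroup SelfCentNine SelfCentThree

variable {G : Type*} [Group G] [Finite G] {S : Subgroup G} {x : G} {q a b : ℕ}

/-- The non-trivial elements of the invariant subgroups of order prime to 3. -/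
def covered (x : G) : Set G := {u | u ≠ 1 ∧ ∃ M, Mx x M ∧ u ∈ M}

/-- The first members of the pairs with product `x`. -/
def firsts (x : G) : Set G := {p | p ^ 3 = 1 ∧ p ≠ 1 ∧ (p⁻¹ * x) ^ 3 = 1 ∧ p⁻¹ * x ≠ 1}

theorem card_pairs_eq_firsts (D : Data S x q a b) :
    Nat.card {p : G × G // IsConj x p.1 ∧ IsConj x p.2 ∧ p.1 * p.2 = x} = (firsts x).ncard := by
  have key : ∀ u : G, IsConj x u ↔ u ^ 3 = 1 ∧ u ≠ 1 := fun u => ⟨fun h => by
    obtain ⟨g, rfl⟩ := isConj_iff.1 h
    exact ⟨by rw [conj_pow, D.cubed, mul_one, mul_inv_cancel],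
      fun e => D.x1 (conj_eq_one_iff.1 e)⟩, fun h => D.one.one x u D.cubed D.x1 h.1 h.2⟩
  rw [← Nat.card_coe_set_eq]
  refine Nat.card_congr
    { toFun := fun p => ⟨p.1.1, by
        obtain ⟨h1, h2, h3⟩ := p.2
        have e : p.1.1⁻¹ * x = p.1.2 := by
          calc p.1.1⁻¹ * x = p.1.1⁻¹ * (p.1.1 * p.1.2) := by rw [h3]
            _ = _ := inv_mul_cancel_left _ _
        exact ⟨((key _).1 h1).1, ((key _).1 h1).2, by rw [e]; exact ((key _).1 h2).1,
          by rw [e]; exact ((key _).1 h2).2⟩⟩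
      invFun := fun p => ⟨(p.1, p.1⁻¹ * x), (key _).2 ⟨p.2.1, p.2.2.1⟩, (key _).2 ⟨p.2.2.2.1, p.2.2.2.2⟩,
        mul_inv_cancel_left _ _⟩
      left_inv := fun p => ?_
      right_inv := fun p => rfl }
  obtain ⟨⟨u, v⟩, h1, h2, h3⟩ := p
  refine Subtype.ext (Prod.ext rfl ?_)
  show u⁻¹ * x = v
  simp only at h3
  rw [← h3, inv_mul_cancel_left]

theorem firsts_inside (D : Data S x q a b) :
    {p ∈ firsts x | p ∈ S} = (S : Set G) \ {1, x} := by
  ext p
  constructor
  · rintro ⟨⟨-, hp1, -, hq1⟩, hpS⟩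
    refine ⟨hpS, ?_⟩
    rintro (rfl | rfl)
    · exact hp1 rfl
    · exact hq1 (inv_mul_cancel _)
  · rintro ⟨hpS, hne⟩
    simp only [Set.mem_insert_iff, Set.mem_singleton_iff, not_or] at hne
    exact ⟨⟨D.one.cubed p hpS, hne.1, D.one.cubed _ (mul_mem (inv_mem hpS) D.xS),
      fun e => hne.2 (inv_mul_eq_one.1 e)⟩, hpS⟩

/-- `a = p x` generates an invariant abelian subgroup of order prime to 3. -/
theorem exists_sub (D : Data S x q a b) {p : G} (hp : p ^ 3 = 1) (hq : (p⁻¹ * x) ^ 3 = 1)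
    (hpS : p ∉ S) : ∃ A, Sub x A ∧ p * x ∈ A := by
  have hx := D.cubed
  have hxi : x⁻¹ = x * x := inv_eq_of_mul_eq_one_right (by rw [← mul_assoc, ← pow_three', hx])
  have hpi : p⁻¹ = p * p := inv_eq_of_mul_eq_one_right (by rw [← mul_assoc, ← pow_three', hp])
  set u := p * x with hu
  set u' := x * u * x⁻¹ with hu'
  set u'' := x * u' * x⁻¹ with hu''
  have hy : (x⁻¹ * p) ^ 3 = 1 := by
    rw [show x⁻¹ * p = (p⁻¹ * x)⁻¹ by group, inv_pow, hq, inv_one]
  have hrel : p * x⁻¹ * p = x * p⁻¹ * x := by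
    calc p * x⁻¹ * p = x * (x⁻¹ * p) ^ 3 * (x⁻¹ * p)⁻¹ := by simp only [pow_three]; group
      _ = x * p⁻¹ * x := by rw [hy]; group
  have e1 : u * u' = p * x⁻¹ * p := by
    rw [hu', hu, show p * x * (x * (p * x) * x⁻¹) = p * (x * x) * p by group, hxi]
  have e2 : u' * u = x * p⁻¹ * x := by
    rw [hu', hu, show x * (p * x) * x⁻¹ * (p * x) = x * (p * p) * x by group, hpi]
  have hcomm : u * u' = u' * u := by rw [e1, e2, hrel]
  have h3 : u * u' * u'' = 1 := by
    calc u * u' * u'' = p * x⁻¹ * p * (x * x * (p * x) * x⁻¹ * x⁻¹) := by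
          rw [e1, hu'', hu', hu]; group
      _ = p * x⁻¹ * p * (x⁻¹ * p * x⁻¹) := by rw [← hxi]; group
      _ = x * (x⁻¹ * p) ^ 3 * x⁻¹ := by simp only [pow_three]; group
      _ = 1 := by rw [hy]; group
  set A := closure ({u, u'} : Set G) with hA
  have huA : u ∈ A := subset_closure (Or.inl rfl)
  have hu'A : u' ∈ A := subset_closure (Or.inr rfl)
  have hcA : IsMulCommutative A := isMulCommutative_closure (by
    rintro g (rfl | rfl) g' (rfl | rfl)
    exacts [rfl, hcomm, hcomm.symm, rfl])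
  have hinv : Invar x A := by
    intro g hg
    refine closure_induction (p := fun g _ => x * g * x⁻¹ ∈ A) ?_ (by simp) (fun u v _ _ hu hv => ?_)
      (fun u _ hu => ?_) hg
    · rintro g (rfl | rfl)
      · exact hu'A
      · rw [← hu'', eq_inv_of_mul_eq_one_right h3]
        exact inv_mem (mul_mem huA hu'A)
    · have := mul_mem hu hv
      rwa [show x * u * x⁻¹ * (x * v * x⁻¹) = x * (u * v) * x⁻¹ by group] at this
    · have := inv_mem hu
      rwa [show (x * u * x⁻¹)⁻¹ = x * u⁻¹ * x⁻¹ by group] at this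
  refine ⟨A, ⟨hinv, fun h3A => ?_⟩, huA⟩
  -- an element of order 3 in `A` would give `p ∈ S`
  have : Fact (Nat.Prime 3) := ⟨Nat.prime_three⟩
  obtain ⟨y, hy3⟩ := exists_prime_orderOf_dvd_card' (G := A) 3 h3A
  have hy' : orderOf (y : G) = 3 := by rw [Subgroup.orderOf_coe]; exact hy3
  have hyy : (y : G) ^ 3 = 1 := hy' ▸ pow_orderOf_eq_one _
  have hy1 : (y : G) ≠ 1 := fun e => by rw [e, orderOf_one] at hy'; omega
  have hcy : ∀ g ∈ A, Commute g (y : G) := fun g hg =>
    congrArg Subtype.val (hcA.is_comm.comm (⟨g, hg⟩ : A) y)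
  have hu3 : u ^ 3 = 1 := (D.one.commute_of_commute hyy hy1 (hcy u huA) (hcy u huA)).2
  have hpS' : u ∈ S → False := fun h => hpS (by
    have := mul_mem h (inv_mem D.xS)
    rwa [hu, mul_inv_cancel_right] at this)
  set e := u⁻¹ * u' with he
  have hfix : x * e * x⁻¹ = e := by
    have h' : x * e * x⁻¹ = u'⁻¹ * u'' := by rw [he, hu'', hu']; group
    rw [h', eq_inv_of_mul_eq_one_right h3, he]
    calc u'⁻¹ * (u * u')⁻¹ = (u * (u' * u'))⁻¹ := by group
      _ = (u * (u' * u'))⁻¹ * (u * (u' * u') * (u * u) * u') := by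
        have : u * (u' * u') * (u * u) * u' = 1 := by
          have hu'3 : u' ^ 3 = 1 := by rw [hu', conj_pow, hu3, mul_one, mul_inv_cancel]
          have hc : Commute u u' := hcomm
          calc u * (u' * u') * (u * u) * u' = u * ((u' * u') * (u * u)) * u' := by group
            _ = u * ((u * u) * (u' * u')) * u' := by
              rw [((hc.symm.mul_left hc.symm).mul_right (hc.symm.mul_left hc.symm)).eq]
            _ = u ^ 3 * u' ^ 3 := by simp only [pow_three]; group
            _ = 1 := by rw [hu3, hu'3, mul_one]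
        rw [this, mul_one]
      _ = u * u * u' := by group
      _ = u⁻¹ * u' := by
        rw [inv_eq_of_mul_eq_one_right (show u * (u * u) = 1 by rw [← pow_three]; exact hu3)]
  have heS : Commute x e := mul_inv_eq_iff_eq_mul.1 hfix
  by_cases he1 : e = 1
  · refine hpS' (D.one.mem_of_commute D.xS D.x1 ?_)
    exact ((mul_inv_eq_iff_eq_mul (a := x * u) (b := x)).1 (inv_mul_eq_one.1 he1).symm).symm
  · have hee : e ∈ S := D.one.mem_of_commute D.xS D.x1 heS.symm
    refine hpS' (D.one.mem_of_commute hee he1 ?_)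
    exact congrArg Subtype.val (hcA.is_comm.comm (⟨u, huA⟩ : A) ⟨e, mul_mem (inv_mem huA) hu'A⟩)

theorem card_pairs (D : Data S x q a b) :
    Nat.card {p : G × G // IsConj x p.1 ∧ IsConj x p.2 ∧ p.1 * p.2 = x} = 7 + (covered x).ncard := by
  classical
  rw [card_pairs_eq_firsts D]
  have hx := D.cubed
  have hsplit : firsts x = {p ∈ firsts x | p ∈ S} ∪ {p ∈ firsts x | p ∉ S} := by
    ext p; simp only [Set.mem_union, Set.mem_setOf_eq]; tauto
  rw [hsplit, Set.ncard_union_eq (by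
    rw [Set.disjoint_left]; exact fun p h h' => h'.2 h.2) (Set.toFinite _) (Set.toFinite _),
    firsts_inside D]
  have h7 : ((S : Set G) \ {1, x}).ncard = 7 := by
    rw [Set.ncard_diff (by rintro u (rfl | rfl); exacts [S.one_mem, D.xS]) (Set.toFinite _),
      Set.ncard_pair D.x1.symm, ← Nat.card_coe_set_eq]
    show Nat.card S - 2 = 7
    rw [D.one.card]
  rw [h7, add_right_inj]
  have himg : (fun p => p * x) '' {p ∈ firsts x | p ∉ S} = covered x := by
    ext u
    constructor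
    · rintro ⟨p, ⟨⟨hp, -, hq, -⟩, hpS⟩, rfl⟩
      obtain ⟨A, hA, hu⟩ := exists_sub D hp hq hpS
      obtain ⟨M, hM, hle⟩ := exists_mx hA
      refine ⟨fun e => hpS ?_, M, hM, hle hu⟩
      rw [mul_eq_one_iff_eq_inv.1 e]
      exact inv_mem D.xS
    · rintro ⟨hu1, M, hM, hu⟩
      have hxi : x⁻¹ = x * x := inv_eq_of_mul_eq_one_right (by rw [← mul_assoc, ← pow_three', hx])
      have key : ∀ g ∈ M, (g * x⁻¹) ^ 3 = 1 := fun g hg => by
        obtain ⟨h1, h2⟩ := hM.sub.cube D.one hx D.x1 hg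
        set g' := x * g * x⁻¹ with hg'
        set g'' := x * x * g * (x * x)⁻¹ with hg''
        calc (g * x⁻¹) ^ 3 = g * ((x ^ 3)⁻¹ * g'' * x ^ 3) * ((x ^ 3)⁻¹ * g' * x ^ 3) * (x ^ 3)⁻¹ := by
              rw [hg'', hg']; simp only [pow_three]; group
          _ = g * g'' * g' := by rw [hx]; group
          _ = 1 := by
              rw [eq_inv_of_mul_eq_one_right h1, mul_inv_rev]
              calc g * (g'⁻¹ * g⁻¹) * g' = (g * g'⁻¹) * g⁻¹ * g' := by group
                _ = (g'⁻¹ * g) * g⁻¹ * g' := by rw [h2.inv_right.eq]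
                _ = 1 := by group
      refine ⟨u * x⁻¹, ⟨⟨key u hu, fun e => ?_, ?_, fun e => ?_⟩, fun hS => ?_⟩, inv_mul_cancel_right _ _⟩
      · have hux : u = x := mul_inv_eq_one.1 e
        exact D.x1 (D.one.fixed hx D.x1 hM.sub.prime (hux ▸ hu) (Commute.refl x))
      · rw [show (u * x⁻¹)⁻¹ * x = x * (u⁻¹ * (x * x⁻¹)) * x⁻¹ * (x * u⁻¹ * x⁻¹)⁻¹ * (x * u⁻¹ * x) by group]
        have hk := key u⁻¹ (inv_mem hu)
        rw [show x * (u⁻¹ * (x * x⁻¹)) * x⁻¹ * (x * u⁻¹ * x⁻¹)⁻¹ * (x * u⁻¹ * x) = x * (u⁻¹ * (x * x)) * x⁻¹ by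
          group, conj_pow, ← hxi, hk, mul_one, mul_inv_cancel]
      · have e' : u * x⁻¹ = x := inv_mul_eq_one.1 e
        have hux : u = x * x := (inv_mul_cancel_right u x).symm.trans (congrArg (· * x) e')
        have hxxM : x * x ∈ M := hux ▸ hu
        exact hu1 (D.one.fixed hx D.x1 hM.sub.prime hu (hux ▸ (Commute.refl x).mul_left (Commute.refl x)))
      · have huS : u ∈ S := by
          have := mul_mem hS D.xS
          rwa [inv_mul_cancel_right] at this
        exact hu1 (eq_one_of_pow_three hM.sub.prime hu (D.one.cubed u huS))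
  rw [← himg]
  exact (Set.ncard_image_of_injective _ (mul_left_injective x)).symm

end Cfsg.Agent.SmallOrders.NineOneClass
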