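-- The conjugates of a maximal invariant subgroup that are normalised by `x`.
--
-- * `Mx.fam_le_six`, `Mx.fam_le_three`: how many there are
-- * `ti`: two of them meet trivially
-- * `Mx.index_ge`: semiregularity on the conjugates
import Cfsg.Agent.Lib.SmallOrders.NineOneClass.Max

set_option autoImplicit false
set_option linter.unusedSectionVars false
set_option linter.style.haveILetI false

namespace Cfsg.Agent.SmallOrders.NineOneClass

open Subgroup SelfCentNine SelfCentThree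

variable {G : Type*} [Group G] [Finite G] {S : Subgroup G} {x : G} {q a b : ℕ}

/-- The conjugate `g M g⁻¹`. -/
def cj (g : G) (M : Subgroup G) : Subgroup G := M.map (MulAut.conj g).toMonoidHom

theorem mem_cj {g u : G} {M : Subgroup G} : u ∈ cj g M ↔ g⁻¹ * u * g ∈ M := by
  constructor
  · rintro ⟨v, hv, rfl⟩
    simpa [mul_assoc] using hv
  · intro h
    exact ⟨g⁻¹ * u * g, h, by simp [mul_assoc]⟩

theorem cj_one (M : Subgroup G) : cj 1 M = M := by
  ext u; simp [mem_cj]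

theorem cj_mul (g g' : G) (M : Subgroup G) : cj (g * g') M = cj g (cj g' M) := by
  ext u; simp [mem_cj, mul_assoc]

theorem cj_eq_self_iff {g : G} {M : Subgroup G} : cj g M = M ↔ g ∈ normalizer (M : Set G) := by
  refine ⟨mem_normalizer_of_conj_eq, fun h => eq_of_le_of_card_ge (fun u hu => ?_) ?_⟩
  · obtain ⟨v, hv, rfl⟩ := hu
    exact (mem_normalizer_iff.1 h v).1 hv
  · exact (card_conj M g).ge

theorem cj_eq_iff {g g' : G} {M : Subgroup G} :
    cj g M = cj g' M ↔ g⁻¹ * g' ∈ normalizer (M : Set G) := by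
  constructor
  · intro h
    rw [← cj_eq_self_iff, cj_mul, ← h, ← cj_mul, inv_mul_cancel, cj_one]
  · intro h
    calc cj g M = cj g (cj (g⁻¹ * g') M) := by rw [cj_eq_self_iff.2 h]
      _ = _ := by rw [← cj_mul, mul_inv_cancel_left]

theorem cj_mono {g : G} {M M' : Subgroup G} (h : M ≤ M') : cj g M ≤ cj g M' := map_mono h

theorem card_cj (g : G) (M : Subgroup G) : Nat.card (cj g M) = Nat.card M := card_conj M g

theorem Invar.mul {y y' : G} {M : Subgroup G} (h : Invar y M) (h' : Invar y' M) :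
    Invar (y * y') M :=
  inv_of_mem_normalizer (mul_mem (mem_normalizer_of_inv h) (mem_normalizer_of_inv h'))

theorem Sub.cj_of_conj (D : Data S x q a b) {M : Subgroup G} (hM : Sub x M) {c : G}
    (hc : c * x * c⁻¹ = x ∨ c * x * c⁻¹ = x⁻¹) : Sub x (cj c M) := by
  refine ⟨fun u hu => ?_, fun h3 => hM.prime (card_cj c M ▸ h3)⟩
  rw [mem_cj] at hu ⊢
  have hxM := mem_normalizer_of_inv hM.inv
  have key : c⁻¹ * x * c = x ∨ c⁻¹ * x * c = x⁻¹ := by
    rcases hc with e | e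
    · left
      calc c⁻¹ * x * c = c⁻¹ * (c * x * c⁻¹) * c := by rw [e]
        _ = x := by group
    · right
      calc c⁻¹ * x * c = c⁻¹ * (c * x * c⁻¹)⁻¹ * c := by rw [e, inv_inv]
        _ = x⁻¹ := by group
  rw [show c⁻¹ * (x * u * x⁻¹) * c = (c⁻¹ * x * c) * (c⁻¹ * u * c) * (c⁻¹ * x * c)⁻¹ by group]
  rcases key with e | e <;> rw [e]
  · exact (mem_normalizer_iff.1 hxM _).1 hu
  · exact (mem_normalizer_iff.1 (inv_mem hxM) _).1 hu

theorem Mx.cj_of_conj (D : Data S x q a b) {M : Subgroup G} (hM : Mx x M) {c : G}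
    (hc : c * x * c⁻¹ = x ∨ c * x * c⁻¹ = x⁻¹) : Mx x (cj c M) := by
  refine ⟨hM.sub.cj_of_conj D hc, fun U hU hle => ?_⟩
  have hc' : c⁻¹ * x * c⁻¹⁻¹ = x ∨ c⁻¹ * x * c⁻¹⁻¹ = x⁻¹ := by
    rw [inv_inv]
    rcases hc with e | e
    · left
      calc c⁻¹ * x * c = c⁻¹ * (c * x * c⁻¹) * c := by rw [e]
        _ = x := by group
    · right
      calc c⁻¹ * x * c = c⁻¹ * (c * x * c⁻¹)⁻¹ * c := by rw [e, inv_inv]
        _ = x⁻¹ := by group
  have h := hM.max (cj c⁻¹ U) (hU.cj_of_conj D hc') (by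
    have := cj_mono (g := c⁻¹) hle
    rwa [← cj_mul, inv_mul_cancel, cj_one] at this)
  rw [← h, ← cj_mul, mul_inv_cancel, cj_one]

/-- An auxiliary frame: `r ∈ S ∖ ⟨x⟩` and `w` inverting `x`. -/
structure Frame (S : Subgroup G) (x r w : G) : Prop where
  rS : r ∈ S
  r_not : r ∉ zpowers x
  winv : w * x * w⁻¹ = x⁻¹

theorem exists_frame (D : Data S x q a b) : ∃ r w : G, Frame S x r w := by
  have : Fact (Nat.Prime 3) := ⟨Nat.prime_three⟩
  obtain ⟨r, hr, hrx⟩ := SetLike.not_le_iff_exists.1 fun hle : S ≤ zpowers x => by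
    have := Subgroup.card_le_of_le hle
    rw [D.one.card, Nat.card_zpowers, orderOf_eq_prime D.cubed D.x1] at this
    omega
  have hxi : x⁻¹ ≠ 1 := fun e => D.x1 (inv_eq_one.1 e)
  obtain ⟨w, hw⟩ := isConj_iff.1 (D.one.one x x⁻¹ D.cubed D.x1 (by rw [inv_pow, D.cubed, inv_one]) hxi)
  exact ⟨r, w, hr, hrx, hw⟩

namespace Frame

variable {r w : G} (F : Frame S x r w)
include F

theorem r_conj (D : Data S x q a b) (i : ℕ) : r ^ i * x * (r ^ i)⁻¹ = x := by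
  have h := ((D.one.comm F.rS D.xS).pow_left i).eq
  rw [h, mul_inv_cancel_right]

theorem w_conj' : w⁻¹ * x * w⁻¹⁻¹ = x⁻¹ := by
  calc w⁻¹ * x * w⁻¹⁻¹ = w⁻¹ * (w * x * w⁻¹)⁻¹ * w := by rw [F.winv, inv_inv, inv_inv]
    _ = x⁻¹ := by group

theorem coord_inj (D : Data S x q a b) {i i' : Fin 3} {j j' : ℕ}
    (h : r ^ (i : ℕ) * x ^ j = r ^ (i' : ℕ) * x ^ j') : i = i' := by
  by_contra hne
  have hr3 := D.one.cubed r F.rS
  obtain ⟨k, hk, hkr⟩ : ∃ k : ℕ, (k = 1 ∨ k = 2) ∧ r ^ k ∈ zpowers x := by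
    have hd : (r ^ (i' : ℕ))⁻¹ * r ^ (i : ℕ) ∈ zpowers x := by
      have : (r ^ (i' : ℕ))⁻¹ * r ^ (i : ℕ) = x ^ j' * (x ^ j)⁻¹ := by
        rw [eq_mul_inv_iff_mul_eq, mul_assoc, h, inv_mul_cancel_left]
      rw [this]
      exact mul_mem (pow_mem (mem_zpowers x) _) (inv_mem (pow_mem (mem_zpowers x) _))
    refine ⟨((i : ℕ) + 2 * i') % 3, ?_, ?_⟩
    · exact (show ∀ u v : Fin 3, ¬ u = v → ((u : ℕ) + 2 * v) % 3 = 1 ∨ ((u : ℕ) + 2 * v) % 3 = 2 by decide) i i' hne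
    · have e : r ^ ((2 * (i' : ℕ))) = (r ^ (i' : ℕ))⁻¹ := eq_inv_of_mul_eq_one_left (by
        rw [← pow_add, show 2 * (i' : ℕ) + i' = 3 * i' by ring, pow_mul, hr3, one_pow])
      rw [← pow_eq_pow_mod _ hr3, add_comm, pow_add, e]
      exact hd
  rcases hk with rfl | rfl
  · exact F.r_not (by simpa using hkr)
  · refine F.r_not ?_
    have := inv_mem hkr
    rwa [show (r ^ 2)⁻¹ = r from inv_eq_of_mul_eq_one_right (by rw [← pow_succ]; exact hr3)] at this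

/-- `S` consists of the nine products `r ^ i x ^ j`. -/
theorem exists_coord (D : Data S x q a b) {s : G} (hs : s ∈ S) :
    ∃ i j : Fin 3, s = r ^ (i : ℕ) * x ^ (j : ℕ) := by
  have : Fact (Nat.Prime 3) := ⟨Nat.prime_three⟩
  let f : Fin 3 × Fin 3 → S := fun p =>
    ⟨r ^ (p.1 : ℕ) * x ^ (p.2 : ℕ), mul_mem (pow_mem F.rS _) (pow_mem D.xS _)⟩
  have hf : Function.Injective f := by
    rintro ⟨i, j⟩ ⟨i', j'⟩ e
    have e' : r ^ (i : ℕ) * x ^ (j : ℕ) = r ^ (i' : ℕ) * x ^ (j' : ℕ) := congrArg Subtype.val e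
    obtain rfl := F.coord_inj D e'
    have e2 := mul_left_cancel e'
    refine Prod.ext rfl (Fin.ext ?_)
    refine pow_injOn_Iio_orderOf ?_ ?_ e2 <;>
      · rw [Set.mem_Iio, orderOf_eq_prime D.cubed D.x1]; exact Fin.is_lt _
  obtain ⟨p, hp⟩ := ((Nat.bijective_iff_injective_and_card f).2 ⟨hf, by
    rw [D.one.card, Nat.card_prod, Nat.card_eq_fintype_card, Fintype.card_fin]⟩).2 ⟨s, hs⟩
  exact ⟨p.1, p.2, congrArg Subtype.val hp.symm⟩

/-- the six representatives -/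
theorem rep_conj (D : Data S x q a b) (i : ℕ) :
    (r ^ i * w) * x * (r ^ i * w)⁻¹ = x⁻¹ := by
  calc r ^ i * w * x * (r ^ i * w)⁻¹ = r ^ i * (w * x * w⁻¹) * (r ^ i)⁻¹ := by group
    _ = r ^ i * x⁻¹ * (r ^ i)⁻¹ := by rw [F.winv]
    _ = (r ^ i * x * (r ^ i)⁻¹)⁻¹ := by group
    _ = x⁻¹ := by rw [F.r_conj D i]

end Frame

/-- The conjugates of `M` normalised by `x`. -/
def fam (x : G) (M : Subgroup G) : Set (Subgroup G) := {N | Invar x N ∧ ∃ g, N = cj g M}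

namespace Mx

variable [IsSimpleGroup G] {M : Subgroup G} {r w : G}

theorem mem_fam (hM : Mx x M) (D : Data S x q a b) (F : Frame S x r w) (hne : M ≠ ⊥) {N : Subgroup G}
    (hN : N ∈ fam x M) : ∃ i : Fin 3, N = cj (r ^ (i : ℕ)) M ∨ N = cj (r ^ (i : ℕ) * w) M := by
  have : Fact (Nat.Prime 3) := ⟨Nat.prime_three⟩
  obtain ⟨hinv, g, rfl⟩ := hN
  set H := normalizer (M : Set G)
  have hy : g⁻¹ * x * g ∈ H := by
    refine mem_normalizer_fintype fun u hu => ?_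
    have h := mem_cj.1 (hinv (g * u * g⁻¹) (mem_cj.2 (by
      rw [show g⁻¹ * (g * u * g⁻¹) * g = u by group]; exact hu)))
    rwa [show g⁻¹ * (x * (g * u * g⁻¹) * x⁻¹) * g = g⁻¹ * x * g * u * (g⁻¹ * x * g)⁻¹ by group] at h
  have hxH : x ∈ H := mem_normalizer_of_inv hM.sub.inv
  have h9 : ¬ 9 ∣ Nat.card H := fun h => by
    have h' := h.trans (hM.card_normalizer_dvd D hne)
    rw [show 6 * Nat.card M = 3 * (2 * Nat.card M) by ring] at h'
    rcases Nat.prime_three.dvd_mul.1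
      (Nat.dvd_of_mul_dvd_mul_left (by norm_num : 0 < 3) (show 3 * 3 ∣ 3 * (2 * Nat.card M) from h'))
      with h'' | h''
    · norm_num at h''
    · exact hM.sub.prime h''
  have hord : ∀ (u : G) (hu : u ∈ H), orderOf u = 3 → ∃ P : Sylow 3 H, (P : Subgroup H) =
      zpowers (⟨u, hu⟩ : H) := by
    intro u hu ho
    have ho' : orderOf (⟨u, hu⟩ : H) = 3 := by rw [← Subgroup.orderOf_coe]; exact ho
    have hP : IsPGroup 3 (zpowers (⟨u, hu⟩ : H)) :=
      IsPGroup.of_card (n := 1) (by rw [Nat.card_zpowers, ho', pow_one])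
    obtain ⟨P, hle⟩ := hP.exists_le_sylow
    refine ⟨P, (eq_of_le_of_card_ge hle ?_).symm⟩
    obtain ⟨n, hn⟩ := IsPGroup.iff_card.1 P.isPGroup'
    rw [hn, Nat.card_zpowers, ho']
    rcases n with _ | _ | n
    · norm_num
    · norm_num
    · exact absurd ((Dvd.intro (3 ^ n) (by ring) : 9 ∣ 3 ^ (n + 2)).trans
        (hn ▸ card_subgroup_dvd_card (P : Subgroup H))) h9
  have hgy : orderOf (g⁻¹ * x * g) = 3 := by
    rw [show g⁻¹ * x * g = MulAut.conj g⁻¹ x by simp, MulEquiv.orderOf_eq]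
    exact orderOf_eq_prime D.cubed D.x1
  obtain ⟨P, hP⟩ := hord x hxH (orderOf_eq_prime D.cubed D.x1)
  obtain ⟨P', hP'⟩ := hord _ hy hgy
  obtain ⟨h, hh⟩ := MulAction.exists_smul_eq H P P'
  have hmem : h * ⟨x, hxH⟩ * h⁻¹ ∈ zpowers (⟨g⁻¹ * x * g, hy⟩ : H) := by
    rw [← hP', ← hh]
    exact ⟨⟨x, hxH⟩, by rw [hP]; exact mem_zpowers _, rfl⟩
  obtain ⟨k, hk⟩ := mem_zpowers_iff.1 hmem
  set c := g * (h : G) with hcdef
  have hcM : cj g M = cj c M := by
    rw [hcdef, cj_mul, cj_eq_self_iff.2 h.2]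
  have hck : c * x * c⁻¹ = x ^ k := by
    have e : (h : G) * x * (h : G)⁻¹ = (g⁻¹ * x * g) ^ k := by
      have := congrArg Subtype.val hk.symm
      simpa using this
    calc c * x * c⁻¹ = g * ((h : G) * x * (h : G)⁻¹) * g⁻¹ := by rw [hcdef]; group
      _ = g * (g⁻¹ * x * g⁻¹⁻¹) ^ k * g⁻¹ := by rw [e, inv_inv]
      _ = _ := by rw [conj_zpow]; group
  rw [← zpow_mod_orderOf, orderOf_eq_prime D.cubed D.x1] at hck
  have hk3 : k % ((3 : ℕ) : ℤ) = 0 ∨ k % ((3 : ℕ) : ℤ) = 1 ∨ k % ((3 : ℕ) : ℤ) = 2 := by omega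
  have hxM : ∀ j : ℕ, cj (x ^ j) M = M := fun j => cj_eq_self_iff.2 (pow_mem hxH j)
  rcases hk3 with e | e | e <;> rw [e] at hck
  · rw [zpow_zero, conj_eq_one_iff] at hck
    exact absurd hck D.x1
  · rw [zpow_one, mul_inv_eq_iff_eq_mul] at hck
    obtain ⟨i, j, hij⟩ := F.exists_coord D (D.one.mem_of_commute D.xS D.x1 hck)
    exact ⟨i, Or.inl (by rw [hcM, hij, cj_mul, hxM])⟩
  · have hck' : c * x * c⁻¹ = x⁻¹ := by
      rw [hck, show (2 : ℤ) = ((2 : ℕ) : ℤ) from rfl, zpow_natCast]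
      exact (inv_eq_of_mul_eq_one_right (by rw [← pow_succ']; exact D.cubed)).symm
    have hcw : Commute (c * w⁻¹) x := by
      refine mul_inv_eq_iff_eq_mul.1 ?_
      calc c * w⁻¹ * x * (c * w⁻¹)⁻¹ = c * (w⁻¹ * x * w⁻¹⁻¹) * c⁻¹ := by group
        _ = (c * x * c⁻¹)⁻¹ := by rw [F.w_conj']; group
        _ = x := by rw [hck', inv_inv]
    obtain ⟨i, j, hij⟩ := F.exists_coord D (D.one.mem_of_commute D.xS D.x1 hcw)
    refine ⟨i, Or.inr ?_⟩
    have : c = r ^ (i : ℕ) * w * (w⁻¹ * x ^ (j : ℕ) * w) := by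
      calc c = c * w⁻¹ * w := by group
        _ = r ^ (i : ℕ) * x ^ (j : ℕ) * w := by rw [hij]
        _ = _ := by group
    rw [hcM, this, cj_mul]
    congr 1
    refine cj_eq_self_iff.2 ?_
    have e2 : w⁻¹ * x ^ (j : ℕ) * w = (x⁻¹) ^ (j : ℕ) := by
      rw [← F.w_conj', inv_inv]
      simpa using (conj_pow (a := w⁻¹) (b := x) (i := (j : ℕ))).symm
    rw [e2]
    exact pow_mem (inv_mem hxH) _

theorem fam_le_six (hM : Mx x M) (D : Data S x q a b) (hne : M ≠ ⊥) : (fam x M).ncard ≤ 6 := by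
  classical
  obtain ⟨r, w, F⟩ := exists_frame D
  refine (Set.ncard_le_ncard (t := Set.range fun p : Fin 3 × Bool =>
    cj (if p.2 then r ^ (p.1 : ℕ) * w else r ^ (p.1 : ℕ)) M) ?_ (Set.toFinite _)).trans ?_
  · intro N hN
    obtain ⟨i, h | h⟩ := hM.mem_fam D F hne hN
    · exact ⟨(i, false), h.symm⟩
    · exact ⟨(i, true), h.symm⟩
  · rw [← Set.image_univ]
    exact (Set.ncard_image_le).trans (by simp [Set.ncard_univ])

theorem fam_le_three (hM : Mx x M) (D : Data S x q a b) (hne : M ≠ ⊥)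
    (hy : ∃ y ∈ normalizer (M : Set G), y * x * y⁻¹ = x⁻¹) : (fam x M).ncard ≤ 3 := by
  classical
  obtain ⟨r, w, F⟩ := exists_frame D
  obtain ⟨y, hyN, hy⟩ := hy
  have hc : Commute (w * y⁻¹) x := by
    refine mul_inv_eq_iff_eq_mul.1 ?_
    calc w * y⁻¹ * x * (w * y⁻¹)⁻¹ = w * (y⁻¹ * x * y) * w⁻¹ := by group
      _ = w * (y⁻¹ * (y * x * y⁻¹)⁻¹ * y) * w⁻¹ := by rw [hy, inv_inv]
      _ = (w * x * w⁻¹)⁻¹ := by group
      _ = x := by rw [F.winv, inv_inv]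
  obtain ⟨e, j, hej⟩ := F.exists_coord D (D.one.mem_of_commute D.xS D.x1 hc)
  have hwM : cj w M = cj (r ^ (e : ℕ)) M := by
    rw [show w = r ^ (e : ℕ) * (x ^ (j : ℕ) * y) from by rw [← mul_assoc, ← hej]; group, cj_mul,
      cj_eq_self_iff.2 (mul_mem (pow_mem (mem_normalizer_of_inv hM.sub.inv) _) hyN)]
  refine (Set.ncard_le_ncard (t := (fun i : Fin 3 => cj (r ^ (i : ℕ)) M) '' Set.univ) ?_
    (Set.toFinite _)).trans ((Set.ncard_image_le).trans (by simp [Set.ncard_univ]))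
  intro N hN
  obtain ⟨i, h | h⟩ := hM.mem_fam D F hne hN
  · exact ⟨i, trivial, h.symm⟩
  · refine ⟨⟨((i : ℕ) + e) % 3, Nat.mod_lt _ (by norm_num)⟩, trivial, ?_⟩
    simp only
    rw [h, cj_mul (r ^ (i : ℕ)) w, hwM, ← cj_mul, ← pow_add,
      ← pow_eq_pow_mod _ (D.one.cubed r F.rS)]

theorem cj_mem_fam (hM : Mx x M) (D : Data S x q a b) {c : G}
    (hc : c * x * c⁻¹ = x ∨ c * x * c⁻¹ = x⁻¹) : cj c M ∈ fam x M :=
  ⟨(hM.sub.cj_of_conj D hc).inv, c, rfl⟩

theorem cj_r_inj (hM : Mx x M) (D : Data S x q a b) (F : Frame S x r w) (hne : M ≠ ⊥)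
    {i i' : Fin 3} (h : cj (r ^ (i : ℕ)) M = cj (r ^ (i' : ℕ)) M) : i = i' := by
  rw [cj_eq_iff] at h
  set u := (r ^ (i : ℕ))⁻¹ * r ^ (i' : ℕ)
  have huS : u ∈ S := mul_mem (inv_mem (pow_mem F.rS _)) (pow_mem F.rS _)
  have hsc := D.one.sc_normalizer D.xS D.x1 hM.sub hne
  obtain ⟨k, hk⟩ := mem_zpowers_iff.1
    (hsc.cent ⟨u, h⟩ (Subtype.ext (D.one.comm huS D.xS).eq))
  have hk' : x ^ k = u := congrArg Subtype.val hk
  obtain ⟨j, hj⟩ := Submonoid.mem_powers_iff _ _ |>.1 (mem_powers_iff_mem_zpowers.2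
    (mem_zpowers_iff.2 ⟨k, hk'⟩))
  refine F.coord_inj D (j := j) (j' := 0) ?_
  have hj' : x ^ j = u := hj
  rw [pow_zero, mul_one, hj']
  simp only [u, mul_inv_cancel_left]

theorem no_inverter (hM : Mx x M) (D : Data S x q a b) (hne : M ≠ ⊥)
    (hc : Nat.card (normalizer (M : Set G)) = 3 * Nat.card M) {y : G}
    (hy : y ∈ normalizer (M : Set G)) : y * x * y⁻¹ ≠ x⁻¹ := by
  intro e
  have : Fact (Nat.Prime 3) := ⟨Nat.prime_three⟩
  set H := normalizer (M : Set G)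
  haveI : (M.subgroupOf H).Normal := normal_in_normalizer
  have hq : Nat.card (H ⧸ M.subgroupOf H) = 3 := by
    have h := Subgroup.card_eq_card_quotient_mul_card_subgroup (M.subgroupOf H)
    rw [Nat.card_congr (subgroupOfEquivOfLe le_normalizer).toEquiv, hc] at h
    exact (Nat.eq_of_mul_eq_mul_right Nat.card_pos h).symm
  haveI : IsCyclic (H ⧸ M.subgroupOf H) := isCyclic_of_prime_card hq
  let xH : H := ⟨x, mem_normalizer_of_inv hM.sub.inv⟩
  have hcomm := IsMulCommutative.is_comm.comm ((⟨y, hy⟩ : H) : H ⧸ M.subgroupOf H) (xH : H ⧸ M.subgroupOf H)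
  have hmem : y * x * y⁻¹ * x⁻¹ ∈ M := by
    refine mem_subgroupOf.1 (((QuotientGroup.eq_one_iff
      ((⟨y, hy⟩ : H) * xH * (⟨y, hy⟩ : H)⁻¹ * xH⁻¹)).1 ?_) : _ ∈ M.subgroupOf H)
    rw [QuotientGroup.mk_mul, QuotientGroup.mk_mul, QuotientGroup.mk_mul, QuotientGroup.mk_inv,
      QuotientGroup.mk_inv, hcomm, mul_inv_cancel_right, mul_inv_cancel]
  rw [e] at hmem
  have hx2 : x⁻¹ * x⁻¹ = x := by
    rw [← mul_inv_rev]
    exact inv_eq_of_mul_eq_one_right (by rw [← pow_two, ← pow_succ]; exact D.cubed)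
  rw [hx2] at hmem
  exact D.x1 (eq_one_of_pow_three hM.sub.prime hmem D.cubed)

/-- `M` permutes the other invariant conjugates semiregularly. -/
theorem index_ge (hM : Mx x M) (D : Data S x q a b) {I : Type} [Finite I] (c : I → G)
    (hc : ∀ i, c i * x * (c i)⁻¹ = x ∨ c i * x * (c i)⁻¹ = x⁻¹)
    (hne : ∀ i, cj (c i) M ≠ M) (hinj : ∀ i i', cj (c i) M = cj (c i') M → i = i')
    (hti : ∀ i, M ⊓ cj (c i) M = ⊥) :
    Nat.card I * Nat.card M + 1 ≤ (normalizer (M : Set G)).index := by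
  classical
  have hstab : ∀ i, ∀ m ∈ M, cj m (cj (c i) M) = cj (c i) M → m = 1 := by
    intro i m hm h
    have hN := hM.cj_of_conj D (hc i)
    set N := cj (c i) M
    have hU : Sub x (M ⊓ normalizer (N : Set G)) :=
      hM.sub.of_le inf_le_left (fun u hu => ⟨hM.sub.inv u hu.1, by
        have hx := mem_normalizer_of_inv hN.sub.inv
        exact Subgroup.mul_mem _ (Subgroup.mul_mem _ hx hu.2) (Subgroup.inv_mem _ hx)⟩)
    have hle : M ⊓ normalizer (N : Set G) ≤ M ⊓ N :=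
      le_inf inf_le_left (hN.le_of_normalized hU inf_le_right)
    have := hle ⟨hm, cj_eq_self_iff.1 h⟩
    rwa [hti i, mem_bot] at this
  let f : Option (I × M) → G ⧸ normalizer (M : Set G) := fun o =>
    o.elim ((1 : G) : G ⧸ normalizer (M : Set G)) fun p => (((p.2 : G) * c p.1 : G) : G ⧸ normalizer (M : Set G))
  have hkey : ∀ u v : G, ((u : G) : G ⧸ normalizer (M : Set G)) = (v : G) → cj u M = cj v M :=
    fun u v h => cj_eq_iff.2 (QuotientGroup.eq.1 h)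
  have hf : Function.Injective f := by
    have hnone : ∀ p : I × M, f none ≠ f (some p) := by
      rintro ⟨i, m⟩ e
      have e' := hkey _ _ e
      rw [cj_one, cj_mul] at e'
      refine hne i ?_
      have := congrArg (cj (m : G)⁻¹) e'
      rw [← cj_mul, inv_mul_cancel, cj_one, cj_eq_self_iff.2 (inv_mem (le_normalizer m.2))] at this
      exact this.symm
    rintro (_ | ⟨i, m⟩) (_ | ⟨i', m'⟩) e
    · rfl
    · exact absurd e (hnone _)
    · exact absurd e.symm (hnone _)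
    · have e' := hkey _ _ e
      simp only [cj_mul] at e'
      set d := (m' : G)⁻¹ * m
      have hd : d ∈ M := mul_mem (inv_mem m'.2) m.2
      have h1 : cj d (cj (c i) M) = cj (c i') M := by
        rw [cj_mul, e', ← cj_mul, inv_mul_cancel, cj_one]
      have hxi := mem_normalizer_of_inv (hM.sub.cj_of_conj D (hc i)).inv
      have hxi' := mem_normalizer_of_inv (hM.sub.cj_of_conj D (hc i')).inv
      have h2 : cj (x * d * x⁻¹) (cj (c i) M) = cj (c i') M := by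
        rw [cj_mul, cj_mul, cj_eq_self_iff.2 (inv_mem hxi), h1, cj_eq_self_iff.2 hxi']
      have h3 : d⁻¹ * (x * d * x⁻¹) = 1 := hstab i _ (mul_mem (inv_mem hd) (hM.sub.inv d hd)) (by
        rw [cj_mul, h2, ← h1, ← cj_mul, inv_mul_cancel, cj_one])
      have hd1 : d = 1 := D.one.fixed D.cubed D.x1 hM.sub.prime hd
        (mul_inv_eq_iff_eq_mul.1 (inv_mul_eq_one.1 h3).symm).symm
      have hmm : m = m' := Subtype.ext (inv_mul_eq_one.1 hd1).symm
      rw [hd1, cj_one] at h1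
      rw [hinj i i' h1, hmm]
  have := Nat.card_le_card_of_injective f hf
  rwa [Finite.card_option, Nat.card_prod] at this

end Mx

/-- A nilpotent group grows in the normaliser of a proper subgroup. -/
theorem exists_grow' {P M : Subgroup G} [Group.IsNilpotent M] (hle : P ≤ M) (hne : P ≠ M) :
    ∃ n ∈ M, n ∉ P ∧ n ∈ normalizer (P : Set G) := by
  have hlt : P.subgroupOf M < ⊤ := lt_top_iff_ne_top.2 fun e =>
    hne (le_antisymm hle (subgroupOf_eq_top.1 e))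
  obtain ⟨n, hn, hnP⟩ := SetLike.exists_of_lt (Group.normalizerCondition_of_isNilpotent _ hlt)
  refine ⟨n, n.2, fun h => hnP (mem_subgroupOf.2 h), mem_normalizer_fintype fun g hg => ?_⟩
  exact mem_subgroupOf.1 ((mem_normalizer_iff.1 hn ⟨g, hle hg⟩).1 (mem_subgroupOf.2 hg))

/-- Maximal invariant subgroups in a hereditary family meet trivially if their local subgroups are soluble. -/
theorem ti [IsSimpleGroup G] (D : Data S x q a b) (K : Subgroup G → Prop)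
    (hK : ∀ E, Sub x E → E ≠ ⊥ → (∃ M, K M ∧ E ≤ M) →
      (∀ O, ¬ Ico x E O) ∧ ∀ M, Mx x M → E ≤ M → K M) :
    ∀ M N, Mx x M → Mx x N → K M → M ≠ N → M ⊓ N = ⊥ := by
  intro M N hM hN hKM hMN
  by_contra hne
  let P : Subgroup G → Prop := fun E => E ≠ ⊥ ∧
    ∃ M N, Mx x M ∧ Mx x N ∧ K M ∧ M ≠ N ∧ E = M ⊓ N
  obtain ⟨E, -, hE⟩ := Finite.exists_le_maximal (p := P) (a := M ⊓ N)
    ⟨hne, M, N, hM, hN, hKM, hMN, rfl⟩
  obtain ⟨hE0, M, N, hM, hN, hKM, hMN, rfl⟩ := hE.prop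
  have hEs : Sub x (M ⊓ N) :=
    hM.sub.of_le inf_le_left fun u hu => ⟨hM.sub.inv u hu.1, hN.sub.inv u hu.2⟩
  obtain ⟨hI, hup⟩ := hK _ hEs hE0 ⟨M, hKM, inf_le_left⟩
  rcases D.one.local_cases D.xS D.x1 hEs hE0 with ⟨O, hO⟩ | ⟨O, hO⟩
  swap
  · exact hI O hO
  obtain ⟨M', hM', hOM'⟩ := exists_mx hO.sub
  have grow : ∀ A, Mx x A → M ⊓ N ≤ A → M ⊓ N ≠ A → ∃ n ∈ A, n ∈ M' ∧ n ∉ M ⊓ N := by
    intro A hA hle hne'
    haveI := hA.sub.nilpotent D.one D.cubed D.x1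
    obtain ⟨n, hnA, hnE, hnN⟩ := exists_grow' hle hne'
    have hU : Sub x (A ⊓ normalizer ((M ⊓ N : Subgroup G) : Set G)) :=
      hA.sub.of_le inf_le_left fun u hu => ⟨hA.sub.inv u hu.1, by
        have hx := mem_normalizer_of_inv hEs.inv
        exact Subgroup.mul_mem _ (Subgroup.mul_mem _ hx hu.2) (Subgroup.inv_mem _ hx)⟩
    have := D.one.le_of_index_six D.xS D.x1 hO.sub hU inf_le_right hO.le_norm hO.norm_le hO.card_dvd
      ⟨hnA, hnN⟩
    exact ⟨n, hnA, hOM' this, hnE⟩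
  have key : ∀ A, Mx x A → M ⊓ N ≤ A → M ⊓ N ≠ A → A = M' := by
    intro A hA hle hne'
    by_contra hAM'
    obtain ⟨n, hnA, hnM', hnE⟩ := grow A hA hle hne'
    have hP : P (A ⊓ M') := by
      refine ⟨fun e => ?_, A, M', hA, hM', hup A hA hle, hAM', rfl⟩
      have hn1 : n ∈ A ⊓ M' := ⟨hnA, hnM'⟩
      rw [e, mem_bot] at hn1
      exact hnE (hn1 ▸ one_mem _)
    have hle' : M ⊓ N ≤ A ⊓ M' := le_inf hle (hO.le.trans hOM')
    exact hnE (hE.le_of_ge hP hle' ⟨hnA, hnM'⟩)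
  have h1 := key M hM inf_le_left (fun e => hMN (hM.max N hN.sub (inf_eq_left.1 e)).symm)
  have h2 := key N hN inf_le_right (fun e => hMN (hN.max M hM.sub (inf_eq_right.1 e)))
  exact hMN (h1.trans h2.symm)

end Cfsg.Agent.SmallOrders.NineOneClass
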