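-- The kinds of maximal invariant subgroups of order prime to 3.
--
-- * `Mx.conj_of_half`: those of index 2 in a Sylow 2-subgroup are conjugate
-- * `card_fours_le`: at most nine of them are four-groups
-- * `Mx.not_four_of_sylow`: four-groups do not occur with an invariant Sylow 2-subgroup
import Cfsg.Agent.Lib.SmallOrders.NineOneClass.Families
import Cfsg.Agent.Lib.PGroup.Basic
import Cfsg.Agent.Lib.ClassIndex.Basic

set_option autoImplicit false
set_option linter.unusedSectionVars false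
set_option linter.style.haveILetI false

namespace Cfsg.Agent.SmallOrders.NineOneClass

open Subgroup SelfCentNine SelfCentThree
open scoped commutatorElement

/-- The abelianisation of a non-cyclic 2-group has order at least 4. -/
theorem four_le_index_commutator {T : Type*} [Group T] [Finite T] (hT : IsPGroup 2 T)
    (hc : ¬ IsCyclic T) : 4 ≤ (commutator T).index := by
  have : Fact (Nat.Prime 2) := ⟨Nat.prime_two⟩
  by_contra hlt
  obtain ⟨k, hk⟩ := hT.index (commutator T)
  rw [hk] at hlt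
  have hk1 : k ≤ 1 := by
    by_contra h
    exact hlt (le_trans (by norm_num) (Nat.pow_le_pow_right two_pos (show 2 ≤ k by omega)))
  have hq : IsCyclic (T ⧸ commutator T) := by
    rcases Nat.le_one_iff_eq_zero_or_eq_one.1 hk1 with rfl | rfl
    · have : Subsingleton (T ⧸ commutator T) :=
        (Nat.card_eq_one_iff_unique.1 (by rw [← Subgroup.index_eq_card, hk, pow_zero])).1
      infer_instance
    · exact isCyclic_of_prime_card (p := 2) (by rw [← Subgroup.index_eq_card, hk, pow_one])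
  obtain ⟨y, hy⟩ := IsCyclic.exists_generator (α := T ⧸ commutator T)
  obtain ⟨g, rfl⟩ := QuotientGroup.mk_surjective y
  refine hc (isCyclic_iff_exists_zpowers_eq_top.2 ⟨g, frattini_nongenerating ?_⟩)
  refine eq_top_iff.2 fun t _ => ?_
  obtain ⟨i, hi⟩ := mem_zpowers_iff.1 (hy t)
  have ht : (g ^ i)⁻¹ * t ∈ commutator T :=
    QuotientGroup.eq.1 (by rw [QuotientGroup.mk_zpow]; exact hi)
  rw [show t = g ^ i * ((g ^ i)⁻¹ * t) by group]
  exact mul_mem (mem_sup_left (zpow_mem (mem_zpowers g) i))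
    (mem_sup_right (PGroup.commutator_le_frattini hT ht))

variable {G : Type*} [Group G] [Finite G] {S : Subgroup G} {x : G} {q a b : ℕ}

theorem isPGroup_cj {p : ℕ} {g : G} {M : Subgroup G} (h : IsPGroup p M) : IsPGroup p (cj g M) :=
  h.map _

theorem Sub.centralizer (D : Data S x q a b) {M : Subgroup G} (hM : Sub x M) (hne : M ≠ ⊥) :
    Sub x (Subgroup.centralizer (M : Set G)) := by
  have hxM := mem_normalizer_of_inv hM.inv
  refine ⟨fun g hg => mem_centralizer_iff.2 fun p hp => ?_, fun h3 => ?_⟩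
  · have hp' : x⁻¹ * p * x ∈ M := by
      have := (mem_normalizer_iff.1 (inv_mem hxM) p).1 hp
      rwa [inv_inv] at this
    have e := mem_centralizer_iff.1 hg _ hp'
    calc p * (x * g * x⁻¹) = x * (x⁻¹ * p * x * g) * x⁻¹ := by group
      _ = x * (g * (x⁻¹ * p * x)) * x⁻¹ := by rw [e]
      _ = _ := by group
  · have : Fact (Nat.Prime 3) := ⟨Nat.prime_three⟩
    obtain ⟨y, hy⟩ := exists_prime_orderOf_dvd_card' (G := Subgroup.centralizer (M : Set G)) 3 h3
    have hy' : orderOf (y : G) = 3 := by rw [Subgroup.orderOf_coe]; exact hy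
    exact hne ((eq_bot_iff_forall M).2 fun p hp => D.one.fixed (hy' ▸ pow_orderOf_eq_one (y : G))
      (fun e => by rw [e, orderOf_one] at hy'; omega) hM.prime hp (mem_centralizer_iff.1 y.2 p hp))

theorem Data.index_eq (D : Data S x q a b) {H : Subgroup G} {c i : ℕ} (hc : Nat.card H = c)
    (h : c * i = 9 * 2 ^ a * q ^ b) : H.index = i := by
  have e := H.card_mul_index
  rw [hc, D.card, ← h] at e
  exact Nat.eq_of_mul_eq_mul_left (hc ▸ Nat.card_pos) e

namespace Mx

variable [IsSimpleGroup G] {M N : Subgroup G}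

/-- An `x`-invariant Sylow 2-subgroup. -/
theorem card_normalizer_sylow (hM : Mx x M) (D : Data S x q a b) (hne : M ≠ ⊥)
    (hc : Nat.card M = 2 ^ a) : Nat.card (normalizer (M : Set G)) = 3 * Nat.card M := by
  obtain ⟨k, hk⟩ := hM.three_dvd_normalizer D
  have hd := hM.card_normalizer_dvd D hne
  rw [hk, show 6 * Nat.card M = 3 * Nat.card M * 2 by ring] at hd
  have hk2 : k ∣ 2 := Nat.dvd_of_mul_dvd_mul_left (Nat.mul_pos (by norm_num) Nat.card_pos) hd
  rcases (Nat.dvd_prime Nat.prime_two).1 hk2 with rfl | rfl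
  · rw [hk, mul_one]
  exfalso
  have h : 2 ^ a * 2 ∣ 9 * 2 ^ a * q ^ b := by
    rw [← D.card]
    refine dvd_trans ?_ (card_subgroup_dvd_card (normalizer (M : Set G)))
    rw [hk, hc]
    exact ⟨3, by ring⟩
  rw [show 9 * 2 ^ a * q ^ b = 2 ^ a * (9 * q ^ b) by ring] at h
  rcases Nat.prime_two.dvd_mul.1 (Nat.dvd_of_mul_dvd_mul_left (by positivity) h) with h' | h'
  · norm_num at h'
  · exact (Nat.prime_two.coprime_iff_not_dvd.1 D.coprime) (Nat.prime_two.dvd_of_dvd_pow h')

/-- A maximal 2-subgroup which is not a Sylow subgroup has index 2 in its normaliser's. -/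
theorem card_normalizer_small (hM : Mx x M) (D : Data S x q a b) (hne : M ≠ ⊥) (h2 : IsPGroup 2 M)
    (hc : Nat.card M ≠ 2 ^ a) : Nat.card (normalizer (M : Set G)) = 6 * Nat.card M := by
  have : Fact (Nat.Prime 2) := ⟨Nat.prime_two⟩
  refine Nat.dvd_antisymm (hM.card_normalizer_dvd D hne) ?_
  obtain ⟨T, hT⟩ := h2.exists_le_sylow
  obtain ⟨n, hnT, hnM, hnN⟩ := exists_grow T.isPGroup' hT
    (fun e => hc (by rw [e]; exact D.sylow_two T))
  obtain ⟨i, hi⟩ := IsPGroup.iff_card.1 h2
  have hle : M ⊔ zpowers n ≤ normalizer (M : Set G) ⊓ T :=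
    sup_le (le_inf le_normalizer hT) (zpowers_le.2 ⟨hnN, hnT⟩)
  obtain ⟨j, hj⟩ := IsPGroup.iff_card.1 (T.isPGroup'.to_le (hle.trans inf_le_right))
  have hij : i < j := by
    have : Nat.card M < Nat.card ↥(M ⊔ zpowers n) := by
      refine lt_of_le_of_ne (Subgroup.card_le_of_le le_sup_left) fun e => hnM ?_
      rw [eq_of_le_of_card_ge (le_sup_left : M ≤ M ⊔ zpowers n) e.ge]
      exact mem_sup_right (mem_zpowers n)
    rw [hi, hj] at this
    exact (Nat.pow_lt_pow_iff_right one_lt_two).1 this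
  have h2d : 2 * Nat.card M ∣ Nat.card (normalizer (M : Set G)) := by
    refine dvd_trans ?_ (card_dvd_of_le (hle.trans inf_le_left))
    rw [hi, hj, ← pow_succ']
    exact pow_dvd_pow 2 hij
  have h3 : 3 ∣ Nat.card (normalizer (M : Set G)) := (dvd_mul_right _ _).trans (hM.three_dvd_normalizer D)
  rw [show 6 * Nat.card M = 3 * (2 * Nat.card M) by ring]
  refine Nat.Coprime.mul_dvd_of_dvd_of_dvd (Nat.prime_three.coprime_iff_not_dvd.2 fun h => ?_) h3 h2d
  rcases Nat.prime_three.dvd_mul.1 h with h' | h'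
  · norm_num at h'
  · exact hM.sub.prime h'

theorem exists_inverter (hM : Mx x M) (D : Data S x q a b) (hne : M ≠ ⊥) (h2 : IsPGroup 2 M)
    (hc : Nat.card M ≠ 2 ^ a) : ∃ y ∈ normalizer (M : Set G), y * x * y⁻¹ = x⁻¹ := by
  have : Fact (Nat.Prime 2) := ⟨Nat.prime_two⟩
  obtain ⟨T, hT⟩ := h2.exists_le_sylow
  obtain ⟨t, htT, htM, htN⟩ := exists_grow T.isPGroup' hT
    (fun e => hc (by rw [e]; exact D.sylow_two T))
  have ht2 : ∃ k, t ^ 2 ^ k = 1 := by
    obtain ⟨k, hk⟩ := T.isPGroup' ⟨t, htT⟩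
    exact ⟨k, by simpa using congrArg Subtype.val hk⟩
  have hm := D.inverts_of_not_mem hM.sub hne (hM.card_normalizer_dvd D hne) htN htM ht2
  have hinv : ∀ c ∈ M, x⁻¹ * c * x⁻¹⁻¹ ∈ M := fun c hc =>
    (mem_normalizer_iff.mp (inv_mem (mem_normalizer_of_inv hM.sub.inv)) c).mp hc
  obtain ⟨o, ho, hoe⟩ := SelfCentNine.exists_conj_eq hinv
    (fun c hc hcc => D.one.fixed D.cubed D.x1 hM.sub.prime hc (by simpa using hcc.inv_right)) hm
  refine ⟨o⁻¹ * t, mul_mem (inv_mem (le_normalizer ho)) htN, ?_⟩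
  have e1 : t * x * t⁻¹ = o * x⁻¹ * o⁻¹ := by rw [hoe, mul_inv_cancel_right]
  calc o⁻¹ * t * x * (o⁻¹ * t)⁻¹ = o⁻¹ * (t * x * t⁻¹) * o := by group
    _ = x⁻¹ := by rw [e1]; group

theorem conj_of_sylow (hM : Mx x M) (hN : Mx x N) {p : ℕ} [Fact p.Prime] (P Q : Sylow p G)
    (hP : M = P) (hQ : N = Q) : N ∈ fam x M := by
  obtain ⟨g, hg⟩ := MulAction.exists_smul_eq G P Q
  exact ⟨hN.sub.inv, g, by rw [hQ, ← hg, hP]; rfl⟩

/-- A 2-subgroup of maximal order is a Sylow subgroup. -/
theorem exists_sylow_two [Fact (Nat.Prime 2)] (D : Data S x q a b) (hc : Nat.card M = 2 ^ a) :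
    ∃ P : Sylow 2 G, M = P := by
  obtain ⟨P, hP⟩ := (IsPGroup.of_card hc : IsPGroup 2 M).exists_le_sylow
  exact ⟨P, eq_of_le_of_card_ge hP (by rw [hc, D.sylow_two P])⟩

theorem exists_sylow_q [Fact q.Prime] (D : Data S x q a b) (hc : Nat.card M = q ^ b) :
    ∃ P : Sylow q G, M = P := by
  obtain ⟨P, hP⟩ := (IsPGroup.of_card hc : IsPGroup q M).exists_le_sylow
  exact ⟨P, eq_of_le_of_card_ge hP (by rw [hc, D.sylow_q P])⟩

theorem mem_fam_sylow (hM : Mx x M) (hN : Mx x N) (D : Data S x q a b)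
    (hc : Nat.card M = 2 ^ a) (hc' : Nat.card N = 2 ^ a) : N ∈ fam x M := by
  have : Fact (Nat.Prime 2) := ⟨Nat.prime_two⟩
  obtain ⟨P, hP⟩ := exists_sylow_two D hc
  obtain ⟨Q, hQ⟩ := exists_sylow_two D hc'
  exact hM.conj_of_sylow hN P Q hP hQ

theorem mem_fam_q (hM : Mx x M) (hN : Mx x N) (D : Data S x q a b)
    (hc : Nat.card M = q ^ b) (hc' : Nat.card N = q ^ b) : N ∈ fam x M := by
  have : Fact q.Prime := ⟨D.prime⟩
  obtain ⟨P, hP⟩ := exists_sylow_q D hc
  obtain ⟨Q, hQ⟩ := exists_sylow_q D hc'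
  exact hM.conj_of_sylow hN P Q hP hQ

/-- Maximal subgroups of index 2 in Sylow 2-subgroups are conjugate, unless of order at most 4. -/
theorem conj_of_half (hM : Mx x M) (hN : Mx x N) (D : Data S x q a b)
    (hc : 2 * Nat.card M = 2 ^ a) (hc' : 2 * Nat.card N = 2 ^ a) (h4 : 4 < Nat.card M) :
    N ∈ fam x M := by
  have : Fact (Nat.Prime 2) := ⟨Nat.prime_two⟩
  have hne : M ≠ ⊥ := fun e => by rw [e, card_bot] at h4; omega
  have hne' : N ≠ ⊥ := fun e => by
    rw [e, card_bot] at hc'
    omega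
  have h2 : ∀ A : Subgroup G, 2 * Nat.card A = 2 ^ a → IsPGroup 2 A := fun A hA => by
    obtain ⟨i, -, hi⟩ := (Nat.dvd_prime_pow Nat.prime_two).1 (hA ▸ dvd_mul_left (Nat.card A) 2)
    exact IsPGroup.of_card hi
  obtain ⟨T, hT⟩ := (h2 M hc).exists_le_sylow
  obtain ⟨T', hT'⟩ := (h2 N hc').exists_le_sylow
  obtain ⟨g, hg⟩ := MulAction.exists_smul_eq G T' T
  have hTe : cj g (T' : Subgroup G) = T := by rw [← hg]; rfl
  have hN' : cj g N ≤ (T : Subgroup G) := hTe ▸ cj_mono hT'
  refine ⟨hN.sub.inv, g⁻¹, ?_⟩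
  by_contra hcon
  have hne2 : cj g N ≠ M := fun e => hcon (by rw [← e, ← cj_mul, inv_mul_cancel, cj_one])
  have hMT : Nat.card (T : Subgroup G) = 2 * Nat.card M := by rw [D.sylow_two, hc]
  have hNT : Nat.card (T : Subgroup G) = 2 * Nat.card (cj g N) := by rw [D.sylow_two, card_cj, hc']
  have h2t : ∀ t ∈ (T : Subgroup G), ∃ k, t ^ 2 ^ k = 1 := fun t ht => by
    obtain ⟨k, hk⟩ := T.isPGroup' ⟨t, ht⟩
    exact ⟨k, by simpa using congrArg Subtype.val hk⟩
  obtain ⟨t, htN, htM⟩ := SetLike.not_le_iff_exists.1 fun hle : cj g N ≤ M =>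
    hne2 (eq_of_le_of_card_ge hle (by rw [card_cj]; omega))
  have pair : Pair x t T M (cj g N) :=
    { sub := hM.sub
      le := hT
      le' := hN'
      card := hMT
      card' := hNT
      mem := htN
      not_mem := htM
      inverts := D.inverts_of_not_mem hM.sub hne (hM.card_normalizer_dvd D hne)
        (mem_normalizer_fintype fun u hu => conj_mem_of_two hT hMT (hN' htN) hu) htM (h2t t (hN' htN))
      cls := by
        rintro _ ⟨u, hu, rfl⟩ _ ⟨v, hv, rfl⟩ _ ⟨w, hw, rfl⟩
        have := (hN.sub.classTwo D.one D.cubed D.x1 u hu v hv w hw).map (MulAut.conj g).toMonoidHom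
        simpa only [map_mul, map_inv] using this }
  -- the same from the other side
  have hM' : cj g⁻¹ M ≤ (T' : Subgroup G) := by
    have e : (T' : Subgroup G) = cj g⁻¹ (T : Subgroup G) := by
      rw [← hTe, ← cj_mul, inv_mul_cancel, cj_one]
    rw [e]; exact cj_mono hT
  have hNT' : Nat.card (T' : Subgroup G) = 2 * Nat.card N := by rw [D.sylow_two, hc']
  obtain ⟨t', htM', htN'⟩ := SetLike.not_le_iff_exists.1 fun hle : cj g⁻¹ M ≤ N =>
    hcon (eq_of_le_of_card_ge hle (by rw [card_cj]; omega)).symm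
  have h2t' : ∃ k, t' ^ 2 ^ k = 1 := by
    obtain ⟨k, hk⟩ := T'.isPGroup' ⟨t', hM' htM'⟩
    exact ⟨k, by simpa using congrArg Subtype.val hk⟩
  have pair' : Pair x t' T' N (cj g⁻¹ M) :=
    { sub := hN.sub
      le := hT'
      le' := hM'
      card := hNT'
      card' := by rw [card_cj, D.sylow_two, hc]
      mem := htM'
      not_mem := htN'
      inverts := D.inverts_of_not_mem hN.sub hne' (hN.card_normalizer_dvd D hne')
        (mem_normalizer_fintype fun u hu => conj_mem_of_two hT' hNT' (hM' htM') hu) htN' h2t'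
      cls := by
        rintro _ ⟨u, hu, rfl⟩ _ ⟨v, hv, rfl⟩ _ ⟨w, hw, rfl⟩
        have := (hM.sub.classTwo D.one D.cubed D.x1 u hu v hv w hw).map (MulAut.conj g⁻¹).toMonoidHom
        simpa only [map_mul, map_inv] using this }
  have hab := pair'.commutative D.one D.xS D.x1
  have h := pair.card_le_four D.one D.xS D.x1 (by
    rintro _ ⟨u, hu, rfl⟩ _ ⟨v, hv, rfl⟩
    exact (hab u hu v hv).map (MulAut.conj g).toMonoidHom)
  omega

theorem centralizer_eq (hM : Mx x M) (D : Data S x q a b) (hne : M ≠ ⊥)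
    (habel : ∀ u ∈ M, ∀ v ∈ M, Commute u v) : Subgroup.centralizer (M : Set G) = M :=
  hM.max _ (hM.sub.centralizer D hne) fun u hu =>
    mem_centralizer_iff.2 fun v hv => (habel v hv u hu).eq

end Mx

theorem comm_of_four {M : Subgroup G} (hc : Nat.card M = 4) : ∀ u ∈ M, ∀ v ∈ M, Commute u v := by
  have : Fact (Nat.Prime 2) := ⟨Nat.prime_two⟩
  intro u hu v hv
  haveI := IsPGroup.isMulCommutative_of_card_eq_prime_sq (p := 2) (G := M) (by rw [hc]; norm_num)
  exact congrArg Subtype.val (IsMulCommutative.is_comm.comm (⟨u, hu⟩ : M) ⟨v, hv⟩)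

/-- A central involution of a Sylow 2-subgroup containing a four-group lies in it. -/
theorem Mx.center_le [IsSimpleGroup G] {M : Subgroup G} (hM : Mx x M) (D : Data S x q a b)
    (hc : Nat.card M = 4) {T : Subgroup G} (hMT : M ≤ T) {u : G}
    (hu : ∀ w ∈ T, Commute u w) : u ∈ M := by
  have hne : M ≠ ⊥ := fun e => by rw [e, card_bot] at hc; omega
  rw [← hM.centralizer_eq D hne (comm_of_four hc)]
  exact mem_centralizer_iff.2 fun w hw => (hu w (hMT hw)).eq.symm

theorem Mx.not_four_of_sylow [IsSimpleGroup G] {M A : Subgroup G} (hM : Mx x M) (hA : Mx x A)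
    (D : Data S x q a b) (ha : 3 ≤ a) (hc : Nat.card M = 4) (hcA : Nat.card A = 2 ^ a) : False := by
  have : Fact (Nat.Prime 2) := ⟨Nat.prime_two⟩
  obtain ⟨T, hT⟩ := (IsPGroup.of_card (n := 2) (by rw [hc]; norm_num) : IsPGroup 2 M).exists_le_sylow
  obtain ⟨P, hP⟩ := Mx.exists_sylow_two D hcA
  obtain ⟨g, hg⟩ := MulAction.exists_smul_eq G P T
  have hTe : cj g A = T := by rw [← hg, hP]; rfl
  -- the centre of `A` has order at least 4
  set Z := A ⊓ Subgroup.centralizer (A : Set G)
  have hAne : A ≠ ⊥ := fun e => by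
    rw [e, card_bot] at hcA
    exact absurd hcA.symm (Nat.one_lt_two_pow (by omega)).ne'
  have hZ : Sub x Z := hA.sub.of_le inf_le_left fun u hu =>
    ⟨hA.sub.inv u hu.1, (hA.sub.centralizer D hAne).inv u hu.2⟩
  have hZ1 : 1 < Nat.card Z := by
    have hA2 : IsPGroup 2 A := IsPGroup.of_card hcA
    haveI : Nontrivial A := (nontrivial_iff_ne_bot A).2 hAne
    haveI := hA2.center_nontrivial
    obtain ⟨z, hz⟩ := exists_ne (1 : Subgroup.center A)
    refine Finite.one_lt_card_iff_nontrivial.2 ⟨⟨⟨z.1.1, z.1.2, ?_⟩, 1, ?_⟩⟩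
    · exact mem_centralizer_iff.2 fun w hw => congrArg Subtype.val (Subgroup.mem_center_iff.1 z.2 ⟨w, hw⟩)
    · exact fun e => hz (Subtype.ext (Subtype.ext (congrArg Subtype.val e :)))
  have hle : cj g Z ≤ M := by
    rintro _ ⟨u, hu, rfl⟩
    refine hM.center_le D hc hT fun w hw => ?_
    rw [← hTe] at hw
    obtain ⟨v, hv, rfl⟩ := hw
    exact (show Commute u v from (mem_centralizer_iff.1 hu.2 v hv).symm).map (MulAut.conj g).toMonoidHom
  have hZ4 : cj g Z = M := by
    refine eq_of_le_of_card_ge hle ?_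
    have h1 := Nat.le_of_dvd (by norm_num) (hc ▸ card_dvd_of_le hle)
    have hmod := hZ.card_mod_three D.one D.cubed D.x1
    rw [card_cj] at h1 ⊢
    omega
  -- so `M` is central in `T`
  have hTM : (T : Subgroup G) ≤ Subgroup.centralizer (M : Set G) := fun w hw => by
    refine mem_centralizer_iff.2 fun v hv => ?_
    rw [← hZ4] at hv
    obtain ⟨u, hu, rfl⟩ := hv
    rw [← hTe] at hw
    obtain ⟨w', hw', rfl⟩ := hw
    exact ((show Commute u w' from (mem_centralizer_iff.1 hu.2 w' hw').symm).map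
      (MulAut.conj g).toMonoidHom).eq
  rw [hM.centralizer_eq D (fun e => by rw [e, card_bot] at hc; omega) (comm_of_four hc)] at hTM
  have := Subgroup.card_le_of_le hTM
  rw [D.sylow_two, hc] at this
  have := Nat.pow_le_pow_right two_pos ha
  omega

/-- the maximal four-groups -/
def fours (x : G) : Set (Subgroup G) := {M | Mx x M ∧ Nat.card M = 4}

theorem card_fours_le [IsSimpleGroup G] (D : Data S x q a b) (ha : 3 ≤ a) :
    (fours x).ncard ≤ 9 := by
  classical
  have : Fact (Nat.Prime 2) := ⟨Nat.prime_two⟩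
  obtain ⟨T⟩ := (inferInstance : Nonempty (Sylow 2 G))
  set Tt := (T : Subgroup G)
  have hTc : Nat.card Tt = 2 ^ a := D.sylow_two T
  by_cases hE : fours x = ∅
  · rw [hE, Set.ncard_empty]; norm_num
  -- the facts for a member
  have hdata : ∀ M ∈ fours x, ∃ g, cj g M ≤ Tt ∧ ∃ v : Tt, (v : G) ∈ cj g M ∧
      (∀ w : Tt, Commute w v ↔ (w : G) ∈ cj g M) := by
    rintro M ⟨hM, hc⟩
    obtain ⟨T₀, hT₀⟩ := (IsPGroup.of_card (n := 2) (by rw [hc]; norm_num) : IsPGroup 2 M).exists_le_sylow
    obtain ⟨g, hg⟩ := MulAction.exists_smul_eq G T₀ T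
    have hle : cj g M ≤ Tt := by
      have : cj g (T₀ : Subgroup G) = Tt := (congrArg Sylow.toSubgroup hg :)
      exact this ▸ cj_mono hT₀
    refine ⟨g, hle, ?_⟩
    haveI : Nontrivial Tt := by
      rw [← Finite.one_lt_card_iff_nontrivial, hTc]
      exact Nat.one_lt_two_pow (by omega)
    haveI := T.isPGroup'.center_nontrivial
    obtain ⟨u, hu⟩ := exists_ne (1 : Subgroup.center Tt)
    have hu1 : (u.1 : G) ≠ 1 := fun e => hu (Subtype.ext (Subtype.ext e))
    have huT : ∀ w ∈ Tt, Commute (u.1 : G) w := fun w hw =>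
      (congrArg Subtype.val (Subgroup.mem_center_iff.1 u.2 ⟨w, hw⟩)).symm
    have huM : (u.1 : G) ∈ cj g M := by
      rw [mem_cj]
      refine hM.center_le D hc hT₀ fun w hw => ?_
      have hw' : g * w * g⁻¹ ∈ Tt := by
        rw [show Tt = cj g (T₀ : Subgroup G) from (congrArg Sylow.toSubgroup hg.symm :), mem_cj]
        simpa [mul_assoc] using hw
      refine SelfCentNine.commute_of_conj (c := g) ?_
      rw [show g * (g⁻¹ * (u.1 : G) * g) * g⁻¹ = (u.1 : G) by group]
      exact huT _ hw'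
    have hc' : Nat.card (cj g M) = 4 := by rw [card_cj, hc]
    have hcard : ((cj g M : Subgroup G) : Set G).ncard = 4 := by rw [← Nat.card_coe_set_eq]; exact hc'
    obtain ⟨v, hv, hvne⟩ : ∃ v ∈ cj g M, v ≠ 1 ∧ v ≠ (u.1 : G) := by
      by_contra! hcon
      have hsub : ((cj g M : Subgroup G) : Set G) ⊆ {1, (u.1 : G)} := fun v hv => by
        by_cases h1 : v = 1
        · exact Or.inl h1
        · exact Or.inr (hcon v hv h1)
      have := Set.ncard_le_ncard hsub (Set.toFinite _)
      rw [hcard, Set.ncard_pair hu1.symm] at this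
      omega
    have hgen : closure ({(u.1 : G), v} : Set G) = cj g M := by
      have hle' : closure ({(u.1 : G), v} : Set G) ≤ cj g M :=
        (closure_le _).2 (by rintro w (rfl | rfl); exacts [huM, hv])
      refine eq_of_le_of_card_ge hle' ?_
      have hd := card_dvd_of_le hle'
      rw [hc'] at hd ⊢
      have h3 : 3 ≤ Nat.card (closure ({(u.1 : G), v} : Set G)) := by
        have hsub : ({1, (u.1 : G), v} : Set G) ⊆ (closure ({(u.1 : G), v} : Set G) : Subgroup G) := by
          rintro w (rfl | rfl | rfl)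
          exacts [one_mem _, subset_closure (Or.inl rfl), subset_closure (Or.inr rfl)]
        have := Set.ncard_le_ncard hsub (Set.toFinite _)
        rw [Set.ncard_insert_of_notMem (by simp [hu1.symm, hvne.1.symm]), Set.ncard_pair hvne.2.symm,
          ← Nat.card_coe_set_eq] at this
        exact this
      have := Nat.le_of_dvd (by norm_num) hd
      rcases (show Nat.card (closure ({(u.1 : G), v} : Set G)) = 3 ∨
          Nat.card (closure ({(u.1 : G), v} : Set G)) = 4 by omega) with e | e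
      · rw [e] at hd; norm_num at hd
      · omega
    refine ⟨⟨v, hle hv⟩, hv, fun w => ⟨fun hw => ?_, fun hw => ?_⟩⟩
    · have hw' : Commute (w : G) v := congrArg Subtype.val hw.eq
      have : (w : G) ∈ Subgroup.centralizer ((cj g M : Subgroup G) : Set G) := by
        rw [← hgen, Subgroup.centralizer_closure]
        refine mem_centralizer_iff.2 fun y hy => ?_
        rcases hy with rfl | rfl
        · exact (huT _ w.2).eq
        · exact hw'.eq.symm
      rw [mem_centralizer_iff] at this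
      have hmem : g⁻¹ * (w : G) * g ∈ Subgroup.centralizer (M : Set G) :=
        mem_centralizer_iff.2 fun y hy => (SelfCentNine.commute_of_conj (c := g) (by
          rw [show g * (g⁻¹ * (w : G) * g) * g⁻¹ = (w : G) by group]
          exact this (g * y * g⁻¹) (mem_cj.2 (by simpa [mul_assoc] using hy)))).eq
      rw [hM.centralizer_eq D (fun e => by rw [e, card_bot] at hc; omega) (comm_of_four hc)] at hmem
      exact mem_cj.2 hmem
    · exact Subtype.ext (comm_of_four hc' _ hw _ hv).eq
  choose g hg v hv hcv using hdata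
  have hfour : ∀ M (hM : M ∈ fours x), Nat.card (Subgroup.centralizer ({v M hM} : Set Tt)) = 4 := by
    intro M hM
    have e : Subgroup.centralizer ({v M hM} : Set Tt) = (cj (g M hM) M).subgroupOf Tt := by
      ext w
      rw [mem_subgroupOf, mem_centralizer_singleton_iff, ← hcv M hM w]
      exact ⟨fun h => h, fun h => h⟩
    rw [e, Nat.card_congr (subgroupOfEquivOfLe (hg M hM)).toEquiv, card_cj, hM.2]
  -- the class of `v` fills its coset of the commutator
  have hfill : ∀ M (hM : M ∈ fours x), (commutator Tt).index = 4 ∧ v M hM ∉ commutator Tt ∧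
      ∀ w, (v M hM)⁻¹ * w ∈ commutator Tt → IsConj (v M hM) w := by
    intro M hM
    set y := v M hM
    have hnc : ¬ IsCyclic Tt := fun hcy => by
      haveI := hcy
      have e : Subgroup.centralizer ({y} : Set Tt) = ⊤ := eq_top_iff.2 fun w _ =>
        mem_centralizer_singleton_iff.2 (IsMulCommutative.is_comm.comm w y)
      have := hfour M hM
      rw [e, card_top, hTc] at this
      have := Nat.pow_le_pow_right two_pos ha
      omega
    have hidx : 4 ≤ (commutator Tt).index := four_le_index_commutator T.isPGroup' hnc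
    have hsub : (conjugatesOf y) ⊆ {w | y⁻¹ * w ∈ commutator Tt} := by
      intro w hw
      obtain ⟨c, rfl⟩ := isConj_iff.1 hw
      show y⁻¹ * (c * y * c⁻¹) ∈ commutator Tt
      rw [show y⁻¹ * (c * y * c⁻¹) = ⁅y⁻¹, c⁆ by simp [commutatorElement_def, mul_assoc], commutator_def]
      exact Subgroup.commutator_mem_commutator (mem_top _) (mem_top _)
    have hcls : (conjugatesOf y).ncard * 4 = 2 ^ a := by
      have h := Subgroup.card_mul_index (Subgroup.centralizer ({y} : Set Tt))
      rw [hfour M hM, hTc, ClassIndex.index_centralizer_eq,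
        show Nat.card {w : Tt // ∃ c : Tt, c * y * c⁻¹ = w} = (conjugatesOf y).ncard from
          (Nat.card_congr (Equiv.subtypeEquivRight fun w => isConj_iff.symm)).trans
            (Nat.card_coe_set_eq _)] at h
      rw [mul_comm]
      exact h
    have hcoset : {w : Tt | y⁻¹ * w ∈ commutator Tt}.ncard = Nat.card (commutator Tt) := by
      rw [← Nat.card_coe_set_eq]
      exact Nat.card_congr
        { toFun := fun w => ⟨y⁻¹ * w.1, w.2⟩
          invFun := fun w => ⟨y * w.1, show y⁻¹ * (y * w.1) ∈ commutator Tt by rw [inv_mul_cancel_left]; exact w.2⟩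
          left_inv := fun w => Subtype.ext (mul_inv_cancel_left y w.1)
          right_inv := fun w => Subtype.ext (inv_mul_cancel_left y w.1) }
    have hmul := (commutator Tt).card_mul_index
    rw [hTc] at hmul
    have hle := Set.ncard_le_ncard hsub (Set.toFinite _)
    rw [hcoset] at hle
    have hidx4 : (commutator Tt).index = 4 := by
      by_contra hne
      have := Nat.mul_le_mul hle (show 5 ≤ (commutator Tt).index by omega)
      rw [hmul] at this
      have : 0 < (conjugatesOf y).ncard := (Set.ncard_pos (Set.toFinite _)).2 ⟨y, mem_conjugatesOf_self⟩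
      omega
    have heq : (conjugatesOf y) = {w | y⁻¹ * w ∈ commutator Tt} :=
      Set.eq_of_subset_of_ncard_le hsub (by rw [hcoset]; rw [hidx4] at hmul; omega) (Set.toFinite _)
    refine ⟨hidx4, fun hy => ?_, fun w hw => ?_⟩
    · have h1 : (1 : Tt) ∈ conjugatesOf y := by rw [heq]; simpa using hy
      obtain ⟨c, hc⟩ := isConj_iff.1 (show IsConj y 1 from h1)
      have hy1 : y = 1 := conj_eq_one_iff.1 hc
      have := hfour M hM
      rw [show (v M hM) = 1 from hy1] at this
      have e : Subgroup.centralizer ({(1 : Tt)} : Set Tt) = ⊤ := eq_top_iff.2 fun w _ =>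
        mem_centralizer_singleton_iff.2 (by rw [mul_one, one_mul])
      rw [e, card_top, hTc] at this
      have := Nat.pow_le_pow_right two_pos ha
      omega
    · show w ∈ conjugatesOf y
      rw [heq]; exact hw
  obtain ⟨M₀, hM₀⟩ := Set.nonempty_iff_ne_empty.2 hE
  let key : fours x → {c : Tt ⧸ commutator Tt // c ≠ 1} := fun M =>
    ⟨(v M.1 M.2 : Tt ⧸ commutator Tt), fun e => (hfill M.1 M.2).2.1 ((QuotientGroup.eq_one_iff _).1 e)⟩
  have hfib : ∀ M N : fours x, key M = key N → N.1 ∈ fam x M.1 := by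
    rintro ⟨M, hM⟩ ⟨N, hN⟩ e
    have e' : (v M hM : Tt ⧸ commutator Tt) = v N hN := congrArg Subtype.val e
    obtain ⟨c, hc⟩ := isConj_iff.1 ((hfill M hM).2.2 _ (QuotientGroup.eq.1 e'))
    refine ⟨hN.1.sub.inv, (g N hN)⁻¹ * (c : G) * g M hM, ?_⟩
    have hcc : cj (c : G) (cj (g M hM) M) = cj (g N hN) N := by
      refine eq_of_le_of_card_ge (fun w hw => ?_) (by rw [card_cj, card_cj, card_cj, hM.2, hN.2])
      obtain ⟨u, hu, rfl⟩ := hw
      have huT : (MulAut.conj (c : G)).toMonoidHom u ∈ Tt :=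
        mul_mem (mul_mem c.2 (hg M hM hu)) (inv_mem c.2)
      refine (hcv N hN ⟨_, huT⟩).1 (Subtype.ext ?_)
      have h1 := ((hcv M hM ⟨u, hg M hM hu⟩).2 hu).map Tt.subtype
      have h2 := h1.map (MulAut.conj (c : G)).toMonoidHom
      have e2 : (v N hN : G) = (MulAut.conj (c : G)).toMonoidHom (v M hM : G) := by
        rw [← hc]; rfl
      show _ * (v N hN : G) = (v N hN : G) * _
      rw [e2]
      exact h2.eq
    rw [mul_assoc, cj_mul, cj_mul, hcc, ← cj_mul, inv_mul_cancel, cj_one]
  have hq3 : Nat.card {c : Tt ⧸ commutator Tt // c ≠ 1} ≤ 3 := by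
    have hf : Fintype (Tt ⧸ commutator Tt) := Fintype.ofFinite _
    rw [Nat.card_eq_fintype_card, Fintype.card_subtype_compl, Fintype.card_subtype_eq,
      ← Nat.card_eq_fintype_card, ← Subgroup.index_eq_card, (hfill M₀ hM₀).1]
  -- each fibre is inside one family
  have : Fintype (fours x) := Fintype.ofFinite _
  have : Fintype {c : Tt ⧸ commutator Tt // c ≠ 1} := Fintype.ofFinite _
  rw [← Nat.card_coe_set_eq, Nat.card_eq_fintype_card]
  refine (Finset.card_le_mul_card_image (f := key) Finset.univ 3 fun c hc => ?_).trans ?_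
  · obtain ⟨M, -, rfl⟩ := Finset.mem_image.1 hc
    have hMne : M.1 ≠ ⊥ := fun e => by
      have := M.2.2
      rw [e, card_bot] at this
      omega
    have h3 := M.2.1.fam_le_three D hMne (M.2.1.exists_inverter D hMne
      (IsPGroup.of_card (n := 2) (by rw [M.2.2]; norm_num))
      (by rw [M.2.2]; have := Nat.pow_le_pow_right two_pos ha; omega))
    refine le_trans ?_ h3
    rw [← Set.ncard_coe_finset]
    refine Set.ncard_le_ncard_of_injOn (fun N => N.1) (fun N hN => ?_) Subtype.val_injective.injOn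
      (Set.toFinite _)
    exact hfib M N (Finset.mem_filter.1 hN).2.symm
  · refine (Nat.mul_le_mul_left 3 (Finset.card_le_univ _)).trans ?_
    rw [← Nat.card_eq_fintype_card]
    omega

end Cfsg.Agent.SmallOrders.NineOneClass
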