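-- The number of non-trivial elements of the invariant subgroups of order prime to 3.
--
-- * `cover_even`: if `2 ^ a ≡ 1 (mod 3)`
-- * `cover_odd`: if `2 ^ a ≡ 2 (mod 3)`
import Cfsg.Agent.Lib.SmallOrders.NineOneClass.Kinds
import Cfsg.Agent.Lib.SmallOrders.NineOneClass.Count

set_option autoImplicit false
set_option linter.unusedSectionVars false
set_option linter.style.haveILetI false

namespace Cfsg.Agent.SmallOrders.NineOneClass

open Subgroup SelfCentNine SelfCentThree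

variable {G : Type*} [Group G] [Finite G] {S : Subgroup G} {x : G} {q a b : ℕ}

/-- The non-trivial elements of the members of a family. -/
def famElts (F : Set (Subgroup G)) : Set G := {u | u ≠ 1 ∧ ∃ M ∈ F, u ∈ M}

theorem famElts_le (F : Set (Subgroup G)) (m : ℕ) (hm : ∀ M ∈ F, Nat.card M ≤ m) :
    (famElts F).ncard ≤ F.ncard * (m - 1) := by
  classical
  have hFf := F.toFinite
  have hsub : famElts F ⊆ ⋃ M ∈ hFf.toFinset, ((M : Set G) \ {1}) := by
    rintro u ⟨hu1, M, hM, hu⟩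
    simp only [Set.mem_iUnion, Set.Finite.mem_toFinset]
    exact ⟨M, hM, hu, hu1⟩
  refine (Set.ncard_le_ncard hsub (Set.toFinite _)).trans ((Finset.set_ncard_biUnion_le _ _).trans ?_)
  rw [Set.ncard_eq_toFinset_card F hFf, ← smul_eq_mul, ← Finset.sum_const]
  refine Finset.sum_le_sum fun M hM => ?_
  rw [Set.ncard_diff_singleton_of_mem M.one_mem, ← Nat.card_coe_set_eq]
  exact Nat.sub_le_sub_right (hm M (hFf.mem_toFinset.1 hM)) 1

theorem not_ico_of_ne_five (D : Data S x q a b) (hq : q ≠ 5) (E O : Subgroup G) : ¬ Ico x E O := by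
  intro hI
  have h5 : (5 : ℕ) ∣ 9 * 2 ^ a * q ^ b := by
    rw [← D.card]
    exact ((show 5 ∣ 60 by norm_num).trans (dvd_mul_right _ _)).trans
      (hI.card_eq ▸ card_subgroup_dvd_card (normalizer (E : Set G)))
  have hp : Nat.Prime 5 := by norm_num
  rcases hp.dvd_mul.1 h5 with h | h
  · rcases hp.dvd_mul.1 h with h | h
    · norm_num at h
    · have := Nat.le_of_dvd two_pos (hp.dvd_of_dvd_pow h); omega
  · exact hq ((Nat.prime_dvd_prime_iff_eq hp D.prime).1 (hp.dvd_of_dvd_pow h)).symm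

theorem ti_all [IsSimpleGroup G] (D : Data S x q a b)
    (hI : ∀ E O : Subgroup G, ¬ Ico x E O) :
    ∀ M N, Mx x M → Mx x N → M ≠ N → M ⊓ N = ⊥ := fun M N hM hN hne =>
  ti D (fun _ => True) (fun E _ _ _ => ⟨hI E, fun _ _ _ => trivial⟩) M N hM hN trivial hne

/-- A subgroup meets its conjugates trivially: the semiregularity bound. -/
theorem Mx.two_mul_lt_index [IsSimpleGroup G] {M : Subgroup G} (hM : Mx x M) (D : Data S x q a b)
    (hne : M ≠ ⊥) (hti : ∀ N, Mx x N → Nat.card N = Nat.card M → M ≠ N → M ⊓ N = ⊥) :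
    2 * Nat.card M + 1 ≤ (normalizer (M : Set G)).index := by
  obtain ⟨r, w, F⟩ := exists_frame D
  have h0 : ∀ i : Fin 2, cj (r ^ ((i : ℕ) + 1)) M ≠ M := fun i e => by
    have := hM.cj_r_inj D F hne (i := ⟨(i : ℕ) + 1, by omega⟩) (i' := 0)
      (by rw [Fin.val_zero, pow_zero, cj_one]; exact e)
    exact absurd (congrArg Fin.val this) (by simp)
  have h := hM.index_ge D (I := Fin 2) (fun i => r ^ ((i : ℕ) + 1)) (fun i => Or.inl (F.r_conj D _)) h0
    (fun i i' e => by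
      have := hM.cj_r_inj D F hne (i := ⟨(i : ℕ) + 1, by omega⟩) (i' := ⟨(i' : ℕ) + 1, by omega⟩) e
      exact Fin.ext (by simpa using this))
    (fun i => hti _ (hM.cj_of_conj D (Or.inl (F.r_conj D _))) (card_cj _ _) (h0 i).symm)
  rwa [Nat.card_eq_fintype_card, Fintype.card_fin] at h

/-- The six conjugates of an invariant Sylow 2-subgroup, meeting trivially, give exactly `6 (2^a - 1)` elements. -/
theorem Mx.famElts_sylow [IsSimpleGroup G] {M : Subgroup G} (hM : Mx x M) (D : Data S x q a b)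
    (hne : M ≠ ⊥) (hc : Nat.card M = 2 ^ a)
    (hti : ∀ A B, Mx x A → Mx x B → A ≠ B → A ⊓ B = ⊥) :
    (famElts (fam x M)).ncard = 6 * (2 ^ a - 1) := by
  classical
  obtain ⟨r, w, F⟩ := exists_frame D
  let c : Fin 3 × Bool → G := fun p => if p.2 then r ^ (p.1 : ℕ) * w else r ^ (p.1 : ℕ)
  have hcc : ∀ p, c p * x * (c p)⁻¹ = x ∨ c p * x * (c p)⁻¹ = x⁻¹ := by
    rintro ⟨i, _ | _⟩
    · exact Or.inl (F.r_conj D _)
    · exact Or.inr (F.rep_conj D _)
  have hinj : ∀ p p', cj (c p) M = cj (c p') M → p = p' := by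
    have hno : ∀ i i' : Fin 3, cj (r ^ (i : ℕ) * w) M ≠ cj (r ^ (i' : ℕ)) M := fun i i' e => by
      rw [eq_comm, cj_eq_iff] at e
      refine hM.no_inverter D hne (hM.card_normalizer_sylow D hne hc) e ?_
      have h1 := F.r_conj D (i' : ℕ)
      calc (r ^ (i' : ℕ))⁻¹ * (r ^ (i : ℕ) * w) * x * ((r ^ (i' : ℕ))⁻¹ * (r ^ (i : ℕ) * w))⁻¹
          = (r ^ (i' : ℕ))⁻¹ * (r ^ (i : ℕ) * w * x * (r ^ (i : ℕ) * w)⁻¹) * r ^ (i' : ℕ) := by group
        _ = (r ^ (i' : ℕ))⁻¹ * (r ^ (i' : ℕ) * x * (r ^ (i' : ℕ))⁻¹)⁻¹ * r ^ (i' : ℕ) := by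
          rw [F.rep_conj D, h1]
        _ = x⁻¹ := by group
    rintro ⟨i, _ | _⟩ ⟨i', _ | _⟩ e
    · exact Prod.ext (hM.cj_r_inj D F hne e) rfl
    · exact absurd e.symm (hno _ _)
    · exact absurd e (hno _ _)
    · have e' : cj (r ^ (i : ℕ)) (cj w M) = cj (r ^ (i' : ℕ)) (cj w M) := by
        rw [← cj_mul, ← cj_mul]; exact e
      have hMw := hM.cj_of_conj D (c := w) (Or.inr F.winv)
      refine Prod.ext (hMw.cj_r_inj D F (fun h => hne ?_) e') rfl
      rw [← card_eq_one, ← card_cj w M, h, card_bot]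
  let f : (Σ _ : Fin 3 × Bool, {u : M // (u : G) ≠ 1}) → famElts (fam x M) := fun p =>
    ⟨c p.1 * (p.2.1 : G) * (c p.1)⁻¹, fun e => p.2.2 (conj_eq_one_iff.1 e), cj (c p.1) M,
      hM.cj_mem_fam D (hcc _), mem_cj.2 (by simp [mul_assoc])⟩
  have hf : Function.Bijective f := by
    constructor
    · rintro ⟨p, u⟩ ⟨p', u'⟩ e
      have e' : c p * (u.1 : G) * (c p)⁻¹ = c p' * (u'.1 : G) * (c p')⁻¹ := congrArg Subtype.val e
      have hp : p = p' := by
        by_contra hne'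
        have h := hti _ _ (hM.cj_of_conj D (hcc p)) (hM.cj_of_conj D (hcc p')) (fun h => hne' (hinj _ _ h))
        have hmem : c p * (u.1 : G) * (c p)⁻¹ ∈ cj (c p) M ⊓ cj (c p') M :=
          ⟨mem_cj.2 (by simp [mul_assoc]), e' ▸ mem_cj.2 (by simp [mul_assoc])⟩
        rw [h, mem_bot] at hmem
        exact u.2 (conj_eq_one_iff.1 hmem)
      subst hp
      have := mul_left_cancel (mul_right_cancel e')
      exact congrArg (Sigma.mk p) (Subtype.ext (Subtype.ext this))
    · rintro ⟨g, hg1, N, hN, hgN⟩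
      obtain ⟨i, hi | hi⟩ := hM.mem_fam D F hne hN
      · refine ⟨⟨(i, false), ⟨(r ^ (i : ℕ))⁻¹ * g * r ^ (i : ℕ), mem_cj.1 (hi ▸ hgN)⟩, fun e => hg1 ?_⟩,
          Subtype.ext ?_⟩
        · have e' := congrArg (fun z => r ^ (i : ℕ) * z * (r ^ (i : ℕ))⁻¹) e
          simpa [mul_assoc] using e'
        · simp [f, c, mul_assoc]
      · refine ⟨⟨(i, true), ⟨(r ^ (i : ℕ) * w)⁻¹ * g * (r ^ (i : ℕ) * w), mem_cj.1 (hi ▸ hgN)⟩,
          fun e => hg1 ?_⟩, Subtype.ext ?_⟩
        · have e' := congrArg (fun z => (r ^ (i : ℕ) * w) * z * (r ^ (i : ℕ) * w)⁻¹) e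
          simpa [mul_assoc] using e'
        · simp [f, c, mul_assoc]
  rw [← Nat.card_coe_set_eq, ← Nat.card_eq_of_bijective f hf, Nat.card_sigma, Finset.sum_const,
    Finset.card_univ, Fintype.card_prod, Fintype.card_fin, Fintype.card_bool, smul_eq_mul]
  have e : Nat.card {u : M // (u : G) ≠ 1} = ((M : Set G) \ {1}).ncard := by
    rw [← Nat.card_coe_set_eq]
    exact Nat.card_congr
      { toFun := fun u => ⟨u.1.1, u.1.2, u.2⟩
        invFun := fun u => ⟨⟨u.1, u.2.1⟩, u.2.2⟩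
        left_inv := fun _ => rfl
        right_inv := fun _ => rfl }
  rw [e, Set.ncard_diff_singleton_of_mem M.one_mem, ← Nat.card_coe_set_eq]
  show 3 * 2 * (Nat.card M - 1) = _
  rw [hc]

section

variable [IsSimpleGroup G] (D : Data S x q a b) (hG : ¬ IsMulCommutative G) (ha : 3 ≤ a) (hb : b ≠ 0)
include D hG ha hb

theorem shape_cases {M : Subgroup G} (hM : Mx x M) (hne : M ≠ ⊥) :
    Nat.card M = 2 ^ a ∨ (2 * Nat.card M = 2 ^ a ∧ 4 < Nat.card M ∧ IsPGroup 2 M) ∨
      Nat.card M = 4 ∨ Nat.card M = q ^ b := by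
  rcases hM.pure D hG hb ha with h | h
  · rcases hM.two_cases D hne h with h' | h' | h'
    · exact Or.inl h'
    · by_cases h4 : 4 < Nat.card M
      · exact Or.inr (Or.inl ⟨h', h4, h⟩)
      · refine Or.inr (Or.inr (Or.inl ?_))
        have hmod := hM.sub.card_mod_three D.one D.cubed D.x1
        have h1 : Nat.card M ≠ 1 := fun e => hne (eq_bot_of_card_eq M e)
        have := Nat.card_pos (α := M)
        omega
    · exact Or.inr (Or.inr (Or.inl h'))
  · exact Or.inr (Or.inr (Or.inr h))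

/-- The case `2 ^ a ≡ 1 (mod 3)`. -/
theorem cover_even (hA : 2 ^ a % 3 = 1) (hQ : q ^ b % 3 = 2) :
    (covered x).ncard ≤ 27 ∨
    ∃ M, Mx x M ∧ Nat.card M = 2 ^ a ∧ covered x ⊆ famElts (fam x M) := by
  classical
  have hkind : ∀ M, Mx x M → M ≠ ⊥ → Nat.card M = 2 ^ a ∨ Nat.card M = 4 := by
    intro M hM hne
    have hmod := hM.sub.card_mod_three D.one D.cubed D.x1
    rcases shape_cases D hG ha hb hM hne with h | ⟨h, -, -⟩ | h | h
    · exact Or.inl h
    · omega
    · exact Or.inr h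
    · omega
  by_cases hex : ∃ M, Mx x M ∧ Nat.card M = 2 ^ a
  · obtain ⟨M, hM, hc⟩ := hex
    refine Or.inr ⟨M, hM, hc, ?_⟩
    rintro u ⟨hu1, N, hN, hu⟩
    have hne : N ≠ ⊥ := fun e => hu1 (by rw [e, mem_bot] at hu; exact hu)
    rcases hkind N hN hne with h | h
    · exact ⟨hu1, N, hM.mem_fam_sylow hN D hc h, hu⟩
    · exact (hN.not_four_of_sylow hM D ha h hc).elim
  · left
    have hsub : covered x ⊆ famElts (fours x) := by
      rintro u ⟨hu1, N, hN, hu⟩
      have hne : N ≠ ⊥ := fun e => hu1 (by rw [e, mem_bot] at hu; exact hu)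
      rcases hkind N hN hne with h | h
      · exact absurd ⟨N, hN, h⟩ hex
      · exact ⟨hu1, N, ⟨hN, h⟩, hu⟩
    exact (Set.ncard_le_ncard hsub (Set.toFinite _)).trans
      ((famElts_le _ 4 fun M hM => hM.2.le).trans (Nat.mul_le_mul (card_fours_le D ha) le_rfl))

/-- The case `2 ^ a ≡ 2 (mod 3)`. -/
theorem cover_odd (hA : 2 ^ a % 3 = 2) :
    ∃ B W, (covered x).ncard ≤ 27 + B + W ∧
      (B = 0 ∨ (2 * B + 6 = 3 * 2 ^ a ∧ (q ≠ 5 → 2 ^ a + 1 ≤ 3 * q ^ b))) ∧
      (W = 0 ∨ (W + 6 = 6 * q ^ b ∧ 2 * q ^ b + 1 ≤ 3 * 2 ^ a)) := by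
  classical
  let half : Set (Subgroup G) :=
    {M | Mx x M ∧ 2 * Nat.card M = 2 ^ a ∧ 4 < Nat.card M ∧ IsPGroup 2 M}
  let qs : Set (Subgroup G) := {M | Mx x M ∧ M ≠ ⊥ ∧ Nat.card M = q ^ b}
  have hsub : covered x ⊆ famElts (fours x) ∪ famElts half ∪ famElts qs := by
    rintro u ⟨hu1, N, hN, hu⟩
    have hne : N ≠ ⊥ := fun e => hu1 (by rw [e, mem_bot] at hu; exact hu)
    rcases shape_cases D hG ha hb hN hne with h | h | h | h
    · have hmod := hN.sub.card_mod_three D.one D.cubed D.x1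
      omega
    · exact Or.inl (Or.inr ⟨hu1, N, ⟨hN, h⟩, hu⟩)
    · exact Or.inl (Or.inl ⟨hu1, N, ⟨hN, h⟩, hu⟩)
    · exact Or.inr ⟨hu1, N, ⟨hN, hne, h⟩, hu⟩
  have h27 : (famElts (fours x)).ncard ≤ 27 :=
    (famElts_le _ 4 fun M hM => hM.2.le).trans (Nat.mul_le_mul (card_fours_le D ha) le_rfl)
  obtain ⟨B, hB, hB'⟩ : ∃ B, (famElts half).ncard ≤ B ∧
      (B = 0 ∨ (2 * B + 6 = 3 * 2 ^ a ∧ (q ≠ 5 → 2 ^ a + 1 ≤ 3 * q ^ b))) := by
    by_cases hex : ∃ M, M ∈ half
    · obtain ⟨M, hM, hc, h4, h2⟩ := hex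
      have hne : M ≠ ⊥ := fun e => by rw [e, card_bot] at h4; omega
      have hcne : Nat.card M ≠ 2 ^ a := by omega
      refine ⟨3 * (Nat.card M - 1), ?_, Or.inr ⟨by omega, fun hq => ?_⟩⟩
      · refine (Set.ncard_le_ncard (t := famElts (fam x M)) ?_ (Set.toFinite _)).trans
          ((famElts_le _ (Nat.card M) ?_).trans (Nat.mul_le_mul
            (hM.fam_le_three D hne (hM.exists_inverter D hne h2 hcne)) le_rfl))
        · rintro u ⟨hu1, N, ⟨hN, hN', -⟩, hu⟩
          exact ⟨hu1, N, hM.conj_of_half hN D hc hN' h4, hu⟩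
        · rintro N ⟨-, g, rfl⟩
          exact (card_cj g M).le
      · have hi : (normalizer (M : Set G)).index = 3 * q ^ b :=
          D.index_eq (hM.card_normalizer_small D hne h2 hcne) (by rw [← hc]; ring)
        have h := hM.two_mul_lt_index D hne fun N hN _ hne' =>
          ti_all D (not_ico_of_ne_five D hq) M N hM hN hne'
        rw [hi] at h
        omega
    · refine ⟨0, ?_, Or.inl rfl⟩
      rw [Nat.le_zero, Set.ncard_eq_zero (Set.toFinite _)]
      exact Set.eq_empty_iff_forall_notMem.2 fun u ⟨_, M, hM, _⟩ => hex ⟨M, hM⟩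
  obtain ⟨W, hW, hW'⟩ : ∃ W, (famElts qs).ncard ≤ W ∧
      (W = 0 ∨ (W + 6 = 6 * q ^ b ∧ 2 * q ^ b + 1 ≤ 3 * 2 ^ a)) := by
    by_cases hex : ∃ M, M ∈ qs
    · obtain ⟨M, hM, hne, hc⟩ := hex
      refine ⟨6 * (Nat.card M - 1), ?_, Or.inr ⟨?_, ?_⟩⟩
      · refine (Set.ncard_le_ncard (t := famElts (fam x M)) ?_ (Set.toFinite _)).trans
          ((famElts_le _ (Nat.card M) ?_).trans (Nat.mul_le_mul (hM.fam_le_six D hne) le_rfl))
        · rintro u ⟨hu1, N, ⟨hN, -, hN'⟩, hu⟩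
          exact ⟨hu1, N, hM.mem_fam_q hN D hc hN', hu⟩
        · rintro N ⟨-, g, rfl⟩
          exact (card_cj g M).le
      · have := Nat.one_le_pow b q D.prime.pos
        rw [hc]; omega
      · have hqdvd : ∀ E : Subgroup G, Sub x E → E ≠ ⊥ → (∃ N : Subgroup G, Nat.card N = q ^ b ∧ E ≤ N) →
            q ∣ Nat.card E := by
          rintro E - hE0 ⟨N, hN, hle⟩
          obtain ⟨j, -, hj⟩ := (Nat.dvd_prime_pow D.prime).1 (hN ▸ card_dvd_of_le hle)
          rcases j with _ | j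
          · exact absurd (eq_bot_of_card_eq E (by simpa using hj)) hE0
          · rw [hj]; exact dvd_pow_self q (Nat.succ_ne_zero j)
        have hti := ti D (fun N => Nat.card N = q ^ b) (fun E hE hE0 hEN => ⟨fun O hI => ?_,
          fun N hN hle => ?_⟩)
        · have h := hM.two_mul_lt_index D hne fun N hN _ hne' => hti M N hM hN hc hne'
          obtain ⟨k, hk⟩ := hM.three_dvd_normalizer D
          have hmul := (normalizer (M : Set G)).card_mul_index
          rw [hk, hc, D.card] at hmul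
          have hle : (normalizer (M : Set G)).index ≤ 3 * 2 ^ a := by
            have : k * (normalizer (M : Set G)).index = 3 * 2 ^ a :=
              Nat.eq_of_mul_eq_mul_left (show 0 < 3 * q ^ b from
                Nat.mul_pos (by norm_num) (pow_pos D.prime.pos _)) (by linarith)
            exact Nat.le_of_dvd (by positivity) (this ▸ dvd_mul_left _ _)
          rw [hc] at h
          omega
        · have hq2 : q ∣ Nat.card O := (hqdvd E hE hE0 hEN).trans (card_dvd_of_le hI.le)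
          haveI : Fact q.Prime := ⟨D.prime⟩
          obtain ⟨u, hu⟩ := exists_prime_orderOf_dvd_card' (G := O) q hq2
          have h2 : (u : G) ^ 2 = 1 := by rw [pow_two]; exact hI.elem u u.2
          have := Nat.le_of_dvd two_pos
            (hu ▸ Subgroup.orderOf_coe u ▸ orderOf_dvd_of_pow_eq_one h2)
          have := D.five
          omega
        · have hqN : q ∣ Nat.card N := (hqdvd E hE hE0 hEN).trans (card_dvd_of_le hle)
          rcases hN.pure D hG hb ha with h2 | h2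
          · haveI : Fact (Nat.Prime 2) := ⟨Nat.prime_two⟩
            obtain ⟨i, hi⟩ := IsPGroup.iff_card.1 h2
            rw [hi] at hqN
            have := (Nat.prime_dvd_prime_iff_eq D.prime Nat.prime_two).1 (D.prime.dvd_of_dvd_pow hqN)
            have := D.five
            omega
          · exact h2
    · refine ⟨0, ?_, Or.inl rfl⟩
      rw [Nat.le_zero, Set.ncard_eq_zero (Set.toFinite _)]
      exact Set.eq_empty_iff_forall_notMem.2 fun u ⟨_, M, hM, _⟩ => hex ⟨M, hM⟩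
  refine ⟨B, W, ?_, hB', hW'⟩
  refine (Set.ncard_le_ncard hsub (Set.toFinite _)).trans ((Set.ncard_union_le _ _).trans ?_)
  have := Set.ncard_union_le (famElts (fours x)) (famElts half)
  omega

end

end Cfsg.Agent.SmallOrders.NineOneClass
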