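-- The characters of a group with one class of elements of order 3 and centralisers of order 9.
--
-- * `Data.part_mod`: `2 ^ a * q ^ b ≡ 8 (mod 9)`
-- * `exists_terms`: the values at `x` and the degrees of the characters not vanishing there
import Cfsg.Agent.Lib.SmallOrders.NineOneClass.Max
import Cfsg.Agent.Lib.SelfCentThree.Chars
import Cfsg.Agent.Lib.Blocks.Simple
import Cfsg.Agent.Lib.Char.ClassMult

set_option autoImplicit false
set_option linter.unusedSectionVars false
set_option linter.style.haveILetI false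

open scoped ComplexConjugate

namespace Cfsg.Agent.SmallOrders.NineOneClass

open Cfsg Subgroup SelfCentNine SelfCentThree

variable {G : Type*} [Group G] [Finite G] {S : Subgroup G} {x : G} {q a b : ℕ}

theorem Data.card' (D : Data S x q a b) : Nat.card G = 9 * (2 ^ a * q ^ b) := by
  rw [D.card]; ring

theorem Data.card_centralizer (D : Data S x q a b) :
    Nat.card (Subgroup.centralizer ({x} : Set G)) = 9 := by
  rw [D.one.cent x D.xS D.x1, D.one.card]

theorem Data.card_class (D : Data S x q a b) :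
    Nat.card {g : G // IsConj x g} = 2 ^ a * q ^ b := by
  have h := SelfCentThree.card_isConj_mul x
  rw [D.card_centralizer, D.card'] at h
  have h' : Nat.card {g : G // IsConj x g} * 9 = 9 * (2 ^ a * q ^ b) := by first | exact h | linarith
  omega

theorem Data.class_eq (D : Data S x q a b) (g : G) : IsConj x g ↔ g ^ 3 = 1 ∧ g ≠ 1 :=
  ⟨fun h => by
    obtain ⟨c, rfl⟩ := isConj_iff.1 h
    exact ⟨by rw [conj_pow, D.cubed, mul_one, mul_inv_cancel], fun e => D.x1 (conj_eq_one_iff.1 e)⟩,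
    fun h => D.one.one x g D.cubed D.x1 h.1 h.2⟩

/-- `S` permutes the elements of order 3 outside it freely. -/
theorem Data.part_mod (D : Data S x q a b) : (2 ^ a * q ^ b) % 9 = 8 := by
  classical
  let X := {g : G // IsConj x g ∧ g ∉ S}
  let _act : MulAction S X :=
    { smul := fun s g => ⟨(s : G) * g.1 * (s : G)⁻¹,
        g.2.1.trans (isConj_iff.2 ⟨(s : G), rfl⟩), fun h => g.2.2 (by
          have := S.mul_mem (S.mul_mem (S.inv_mem s.2) h) s.2
          simpa [mul_assoc] using this)⟩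
      one_smul := fun g => Subtype.ext (by show ((1 : S) : G) * g.1 * ((1 : S) : G)⁻¹ = g.1; simp)
      mul_smul := fun s t g => Subtype.ext (by
        show ((s * t : S) : G) * g.1 * ((s * t : S) : G)⁻¹ = (s : G) * ((t : G) * g.1 * (t : G)⁻¹) * (s : G)⁻¹
        rw [Subgroup.coe_mul]; group) }
  have hfree : ∀ g : X, MulAction.stabilizer S g = ⊥ := fun g => by
    refine (eq_bot_iff_forall _).2 fun s hs => ?_
    by_contra hs1
    have e : (s : G) * g.1 * (s : G)⁻¹ = g.1 := congrArg Subtype.val (MulAction.mem_stabilizer_iff.1 hs)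
    exact g.2.2 (D.one.mem_of_commute s.2 (fun h => hs1 (Subtype.ext h))
      (show Commute g.1 (s : G) from (mul_inv_eq_iff_eq_mul.1 e).symm))
  have hX := Nat.card_congr (MulAction.selfEquivOrbitsQuotientProd hfree)
  rw [Nat.card_prod, D.one.card] at hX
  have hin : {g : G | IsConj x g ∧ g ∈ S}.ncard = 8 := by
    have e : {g : G | IsConj x g ∧ g ∈ S} = (S : Set G) \ {1} := by
      ext g
      simp only [Set.mem_setOf_eq, Set.mem_sdiff, SetLike.mem_coe, Set.mem_singleton_iff, D.class_eq]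
      exact ⟨fun h => ⟨h.2, h.1.2⟩, fun h => ⟨⟨D.one.cubed g h.1, h.2⟩, h.1⟩⟩
    rw [e, Set.ncard_diff_singleton_of_mem S.one_mem, ← Nat.card_coe_set_eq]
    show Nat.card S - 1 = 8
    rw [D.one.card]
  have hsplit : {g : G | IsConj x g} = {g : G | IsConj x g ∧ g ∈ S} ∪ {g : G | IsConj x g ∧ g ∉ S} := by
    ext g; simp only [Set.mem_union, Set.mem_setOf_eq]; tauto
  have h := D.card_class
  rw [show Nat.card {g : G // IsConj x g} = {g : G | IsConj x g}.ncard from Nat.card_coe_set_eq _, hsplit,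
    Set.ncard_union_eq (Set.disjoint_left.2 fun g h h' => h'.2 h.2) (Set.toFinite _) (Set.toFinite _),
    hin] at h
  have e : Nat.card X = {g : G | IsConj x g ∧ g ∉ S}.ncard := Nat.card_coe_set_eq _
  rw [← e, hX] at h
  omega

/-- The characters not vanishing at `x`, apart from the trivial one: values and degrees. -/
structure Terms (P p : ℕ) (l : Multiset (ℤ × ℕ)) : Prop where
  sq : (l.map fun t => t.1 ^ 2).sum = 8
  lin : (l.map fun t => t.1 * (t.2 : ℤ)).sum = -1
  cub : (9 * p : ℤ) = P + (l.map fun t => t.1 ^ 3 * ((P / t.2 : ℕ) : ℤ)).sum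
  nz : ∀ t ∈ l, t.1 ≠ 0
  three : ∀ t ∈ l, 3 ≤ t.2
  dvd : ∀ t ∈ l, t.2 ∣ P
  small : ∀ t ∈ l, t.2 * t.2 < 9 * P
  congr : ∀ t ∈ l, (t.2 : ℤ) % 9 = t.1 % 9

theorem exists_terms [IsSimpleGroup G] (D : Data S x q a b) (hG : ¬ IsMulCommutative G) :
    ∃ l, Terms (2 ^ a * q ^ b)
      (Nat.card {p : G × G // IsConj x p.1 ∧ IsConj x p.2 ∧ p.1 * p.2 = x}) l := by
  classical
  have := Fintype.ofFinite G
  have := Fintype.ofFinite (IrrCharacter G)
  have := Fintype.ofFinite S
  have hna : ∃ u w : G, u * w ≠ w * u := by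
    by_contra! h
    exact hG ⟨⟨h⟩⟩
  have hval : ∀ φ : IrrCharacter G, ∃ (v : ℤ) (n : ℕ), (φ : G → ℂ) x = v ∧ (φ : G → ℂ) 1 = n := fun φ => by
    obtain ⟨v, n, hv, hn, -⟩ := SelfCentThree.exists_int_of_cube (Char.IsIrrCharacter.isCharacter φ.2)
      D.cubed (D.one.one x x⁻¹ D.cubed D.x1 (by rw [inv_pow, D.cubed, inv_one])
        (fun e => D.x1 (inv_eq_one.1 e)))
    exact ⟨v, n, hv, hn⟩
  choose v d hv hd using hval
  have hconst : ∀ (φ : IrrCharacter G) (u : S), u ≠ 1 → (φ : G → ℂ) u = v φ := fun φ u hu => by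
    obtain ⟨c, hc⟩ := isConj_iff.1 (D.one.one x u D.cubed D.x1 (D.one.cubed u u.2)
      (fun e => hu (Subtype.ext e)))
    rw [← hc, Char.IsCharacter.isClassFunction (Char.IsIrrCharacter.isCharacter φ.2), hv]
  have hmod : ∀ φ, (d φ : ℤ) % 9 = v φ % 9 := fun φ => by
    obtain ⟨m, hm⟩ := Char.IsCharacter.classInner_nat
      (Char.IsCharacter.restrict (Char.IsIrrCharacter.isCharacter φ.2) S) (Char.isCharacter_one (G := S))
    have h := Char.card_mul_classInner (fun u : S => (φ : G → ℂ) u) (1 : S → ℂ)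
    rw [hm, D.one.card, ← Finset.add_sum_erase _ _ (Finset.mem_univ (1 : S))] at h
    have hrest : ∀ u ∈ Finset.univ.erase (1 : S), (φ : G → ℂ) u * conj ((1 : S → ℂ) u) = (v φ : ℂ) :=
      fun u hu => by rw [hconst φ u (Finset.ne_of_mem_erase hu)]; simp
    rw [Finset.sum_congr rfl hrest, Finset.sum_const, Finset.card_erase_of_mem (Finset.mem_univ _),
      Finset.card_univ, ← Nat.card_eq_fintype_card, D.one.card, OneMemClass.coe_one, hd] at h
    simp only [Pi.one_apply, map_one, mul_one, nsmul_eq_mul] at h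
    have h' : ((9 * (m : ℤ) : ℤ) : ℂ) = (((d φ : ℤ) + 8 * v φ : ℤ) : ℂ) := by
      push_cast at h ⊢; linear_combination h
    have h'' : 9 * (m : ℤ) = (d φ : ℤ) + 8 * v φ := by exact_mod_cast h'
    omega
  let one : IrrCharacter G := ⟨1, Char.isIrrCharacter_one⟩
  have hone : v one = 1 ∧ d one = 1 := by
    constructor
    · have h : (1 : ℂ) = (v one : ℂ) := hv one
      exact_mod_cast h.symm
    · have h : (1 : ℂ) = (d one : ℂ) := hd one
      exact_mod_cast h.symm
  have horth : ∀ g : G, ∑ φ : IrrCharacter G, (φ : G → ℂ) g * (v φ : ℂ) =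
      if IsConj g x then (Nat.card (Subgroup.centralizer ({g} : Set G)) : ℂ) else 0 := fun g => by
    rw [← Char.column_orth g x]
    exact Finset.sum_congr rfl fun φ _ => by rw [hv φ, map_intCast]
  have hsq : ∑ φ, v φ ^ 2 = 9 := by
    have h := horth x
    rw [if_pos (IsConj.refl _), D.card_centralizer] at h
    have h' : ((∑ φ, v φ ^ 2 : ℤ) : ℂ) = ((9 : ℤ) : ℂ) := by
      push_cast
      rw [show (9 : ℂ) = ((9 : ℕ) : ℂ) by norm_num, ← h]
      exact Finset.sum_congr rfl fun φ _ => by rw [hv φ, pow_two]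
    exact_mod_cast h'
  have hlin : ∑ φ, v φ * (d φ : ℤ) = 0 := by
    have h := horth 1
    rw [if_neg fun e => D.x1 (isConj_one_right.1 e)] at h
    have h' : ((∑ φ, v φ * (d φ : ℤ) : ℤ) : ℂ) = ((0 : ℤ) : ℂ) := by
      push_cast
      rw [← h]
      exact Finset.sum_congr rfl fun φ _ => by rw [hd φ, mul_comm]
    exact_mod_cast h'
  have hdeg : ∀ φ, v φ ≠ 0 → φ ≠ one → 2 ≤ d φ := fun φ hv0 hne => by
    by_contra hlt
    rcases (show d φ = 0 ∨ d φ = 1 by omega) with e | e
    · have := Char.IsIrrCharacter.apply_one_ne_zero φ.2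
      rw [hd φ, e, Nat.cast_zero] at this
      exact this rfl
    · exact hne (Subtype.ext (Blocks.eq_one_of_degree_one hna (by rw [hd φ, e, Nat.cast_one])))
  -- no faithful representation of degree 2 is trivial on `x`
  have htwo : ∀ φ, v φ ≠ 0 → φ ≠ one → d φ ≠ 2 := fun φ hv0 hne e => by
    obtain ⟨n, ρ, hirr, hρ⟩ := φ.2
    have h2 : (Module.finrank ℂ (Fin n → ℂ) : ℂ) = 2 := by
      rw [← Representation.char_one ρ, hρ, hd φ, e, Nat.cast_ofNat]
    have hv2 : v φ = 2 := by
      have hb := Char.IsCharacter.norm_le (Char.IsIrrCharacter.isCharacter φ.2) x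
      rw [hv φ, hd φ, e] at hb
      have hb' : |v φ| ≤ 2 := by
        have : |((v φ : ℤ) : ℝ)| ≤ 2 := by simpa [Complex.norm_intCast] using hb
        exact_mod_cast this
      rw [abs_le] at hb'
      have := hmod φ
      rw [e] at this
      omega
    have h1 := (Char.character_eq_finrank_iff ρ x).mp (by rw [h2, hρ, hv φ, hv2]; norm_num)
    rcases (MonoidHom.normal_ker ρ).eq_bot_or_eq_top with hb | ht
    · have hm : x ∈ ρ.ker := by rw [MonoidHom.mem_ker, h1]; rfl
      rw [hb, mem_bot] at hm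
      exact D.x1 hm
    · have hall : ∀ g : G, (φ : G → ℂ) g = 2 := fun g => by
        have hg : ρ g = 1 := by rw [← MonoidHom.mem_ker, ht]; trivial
        rw [← hρ, ← h2]
        simp [Representation.character, hg]
      have hin := Char.classInner_irr_self φ.2
      have hsum := Char.card_mul_classInner (φ : G → ℂ) (φ : G → ℂ)
      rw [hin, mul_one, Finset.sum_congr rfl fun g _ => by rw [hall g], Finset.sum_const,
        Finset.card_univ, nsmul_eq_mul, map_ofNat, ← Nat.card_eq_fintype_card] at hsum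
      have h0 : (Nat.card G : ℂ) ≠ 0 := Nat.cast_ne_zero.mpr Nat.card_pos.ne'
      have : (1 : ℂ) = 2 * 2 := mul_left_cancel₀ h0 (by rw [mul_one]; exact hsum)
      norm_num at this
  have hdvd : ∀ φ, v φ ≠ 0 → d φ ∣ 2 ^ a * q ^ b := fun φ hv0 => by
    obtain ⟨n, -, hn, hnd⟩ := Char.IsIrrCharacter.degree_dvd_card φ.2
    have hdn : d φ = n := by exact_mod_cast (hd φ).symm.trans hn
    subst hdn
    rw [D.card'] at hnd
    have hv2 : v φ ^ 2 ≤ 9 := hsq ▸ Finset.single_le_sum (f := fun φ => v φ ^ 2)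
      (fun _ _ => sq_nonneg _) (Finset.mem_univ φ)
    have h3 : ¬ 3 ∣ d φ := fun h3 => by
      have hv3 : v φ = 3 ∨ v φ = -3 := by
        have := hmod φ
        have : -3 ≤ v φ ∧ v φ ≤ 3 := ⟨by nlinarith, by nlinarith⟩
        omega
      -- then `v` would carry all the weight, leaving nothing for the trivial character
      have hne : φ ≠ one := fun e => by rw [e, hone.1] at hv3; omega
      have h := Finset.sum_le_sum_of_subset_of_nonneg (f := fun φ => v φ ^ 2)
        (Finset.subset_univ ({φ, one} : Finset (IrrCharacter G))) (fun _ _ _ => sq_nonneg _)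
      rw [Finset.sum_pair hne, hsq, hone.1] at h
      rcases hv3 with e | e <;> rw [e] at h <;> norm_num at h
    exact ((Nat.prime_three.coprime_iff_not_dvd.2 h3).symm.pow_right 2).dvd_of_dvd_mul_left
      (show d φ ∣ 3 ^ 2 * (2 ^ a * q ^ b) from hnd)
  set P := 2 ^ a * q ^ b with hP
  have hsmall : ∀ φ, φ ≠ one → d φ * d φ < 9 * P := fun φ hne => by
    have h := Char.column_orth (1 : G) 1
    rw [if_pos (IsConj.refl _), Subgroup.centralizer_eq_top_iff_subset.mpr (by simp),
      Subgroup.card_top] at h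
    have htot : ∑ φ, d φ ^ 2 = Nat.card G := by
      have : ((∑ φ, d φ ^ 2 : ℕ) : ℂ) = ((Nat.card G : ℕ) : ℂ) := by
        push_cast
        rw [← h]
        exact Finset.sum_congr rfl fun φ _ => by rw [hd φ, map_natCast, pow_two]
      exact_mod_cast this
    have hle := Finset.sum_le_sum_of_subset_of_nonneg (f := fun φ => d φ ^ 2)
      (Finset.subset_univ ({φ, one} : Finset (IrrCharacter G))) (fun _ _ _ => Nat.zero_le _)
    rw [Finset.sum_pair hne, htot, D.card', hone.2] at hle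
    rw [← pow_two]
    omega
  set F := (Finset.univ.erase one).filter fun φ => v φ ≠ 0
  have hF : ∀ φ ∈ F, φ ≠ one ∧ v φ ≠ 0 := fun φ hφ =>
    ⟨Finset.ne_of_mem_erase (Finset.mem_filter.1 hφ).1, (Finset.mem_filter.1 hφ).2⟩
  have hsplit : ∀ {M : Type} [AddCommMonoid M] (f : IrrCharacter G → M), (∀ φ, v φ = 0 → f φ = 0) →
      ∑ φ, f φ = f one + ∑ φ ∈ F, f φ := fun {M} _ f hf => by
    rw [← Finset.add_sum_erase _ _ (Finset.mem_univ one), Finset.sum_filter_of_ne]
    exact fun φ _ hne h0 => hne (hf φ h0)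
  refine ⟨F.val.map fun φ => (v φ, d φ), ?_, ?_, ?_, ?_, ?_, ?_, ?_, ?_⟩
  · rw [Multiset.map_map]
    show ∑ φ ∈ F, v φ ^ 2 = 8
    have h := hsplit (fun φ => v φ ^ 2) (fun φ h => by rw [h]; norm_num)
    rw [hsq, hone.1] at h
    linarith
  · rw [Multiset.map_map]
    show ∑ φ ∈ F, v φ * (d φ : ℤ) = -1
    have h := hsplit (fun φ => v φ * (d φ : ℤ)) (fun φ h => by rw [h, zero_mul])
    rw [hlin, hone.1, hone.2] at h
    push_cast at h
    linarith
  · rw [Multiset.map_map]
    show _ = (P : ℤ) + ∑ φ ∈ F, v φ ^ 3 * ((P / d φ : ℕ) : ℤ)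
    have h := Char.class_mult_formula x x x
    rw [D.card_class, D.card', hsplit _ (fun φ h0 => by rw [hv φ, h0]; simp)] at h
    rw [show ((one : IrrCharacter G) : G → ℂ) x = 1 from rfl,
      show ((one : IrrCharacter G) : G → ℂ) 1 = 1 from rfl,
      Finset.sum_congr rfl fun (φ : IrrCharacter G) (hφ : φ ∈ F) => show (φ : G → ℂ) x * (φ : G → ℂ) x * conj ((φ : G → ℂ) x) /
        (φ : G → ℂ) 1 = ((v φ ^ 3 * ((P / d φ : ℕ) : ℤ) : ℤ) : ℂ) / (P : ℂ) by
        have hd' := hdvd φ (hF φ hφ).2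
        have hd0 : (d φ : ℂ) ≠ 0 := hd φ ▸ Char.IsIrrCharacter.apply_one_ne_zero φ.2
        rw [hv φ, hd φ, map_intCast]
        obtain ⟨k, hk⟩ := hd'
        have hdn : 0 < d φ := Nat.pos_of_ne_zero fun e => hd0 (by rw [e, Nat.cast_zero])
        have hkC : (P : ℂ) = (d φ : ℂ) * k := by rw [hk, Nat.cast_mul]
        rw [show P / d φ = k by rw [hk, Nat.mul_div_cancel_left _ hdn]]
        push_cast
        rw [hkC]
        have hP0 : (P : ℂ) ≠ 0 := Nat.cast_ne_zero.2 (by
          rw [hP]; exact mul_ne_zero (pow_ne_zero _ (by norm_num)) (pow_ne_zero _ D.prime.ne_zero))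
        have hk0 : (k : ℂ) ≠ 0 := fun e => hP0 (by rw [hkC, e, mul_zero])
        field_simp, ← Finset.sum_div] at h
    rw [← hP] at h
    have hP0 : (P : ℂ) ≠ 0 := Nat.cast_ne_zero.2 (by
      rw [hP]; exact mul_ne_zero (pow_ne_zero _ (by norm_num)) (pow_ne_zero _ D.prime.ne_zero))
    have key : ∀ (n : ℕ) (s : ℤ),
        (n : ℂ) = (P : ℂ) * P / ((9 * P : ℕ) : ℂ) * (1 * 1 * conj (1 : ℂ) / 1 + (s : ℂ) / P) →
          (9 * n : ℤ) = P + s := fun n s h => by
      have h' : ((9 * (n : ℤ) : ℤ) : ℂ) = (((P : ℤ) + s : ℤ) : ℂ) := by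
        push_cast at h ⊢
        rw [h, map_one]
        field_simp
      exact_mod_cast h'
    refine key _ _ ?_
    rw [h, Int.cast_sum]
  all_goals
    intro t ht
    obtain ⟨φ, hφ, rfl⟩ := Multiset.mem_map.1 ht
    obtain ⟨hne, hv0⟩ := hF φ hφ
  · exact hv0
  · have := hdeg φ hv0 hne
    have := htwo φ hv0 hne
    omega
  · exact hdvd φ hv0
  · exact hsmall φ hne
  · exact hmod φ

end Cfsg.Agent.SmallOrders.NineOneClass
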