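-- Non-soluble local subgroups: a 2-group extended by `A₅`.
--
-- * `Ico.maximal`: a non-soluble local subgroup gives one that is the normaliser of its core
-- * `ico_bound`: the order of the Sylow 2-subgroup and the number of covered elements are bounded
import Cfsg.Agent.Lib.SmallOrders.NineOneClass.Cover

set_option autoImplicit false
set_option linter.unusedSectionVars false
set_option linter.style.haveILetI false

namespace Cfsg.Agent.SmallOrders.NineOneClass

open Subgroup SelfCentNine SelfCentThree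

variable {G : Type*} [Group G] [Finite G] {S : Subgroup G} {x : G} {q a b : ℕ}

theorem card_normalizer_cj (g : G) (M : Subgroup G) :
    Nat.card (normalizer ((cj g M : Subgroup G) : Set G)) = Nat.card (normalizer (M : Set G)) := by
  have e : normalizer ((cj g M : Subgroup G) : Set G) = cj g (normalizer (M : Set G)) := by
    ext u
    rw [← cj_eq_self_iff, mem_cj, ← cj_eq_self_iff]
    constructor <;> intro h
    · rw [cj_mul, cj_mul, h, ← cj_mul, inv_mul_cancel, cj_one]
    · have := congrArg (cj g) h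
      rwa [← cj_mul, show g * (g⁻¹ * u * g) = u * g by group, cj_mul] at this
  rw [e, card_cj]

theorem Ico.eq_bot_imp_false [IsSimpleGroup G] (D : Data S x q a b) {E O : Subgroup G}
    (hI : Ico x E O) : O ≠ ⊥ := by
  intro hO
  have hE : E = ⊥ := le_bot_iff.1 (hO ▸ hI.le)
  have htop : normalizer (E : Set G) = ⊤ := eq_top_iff.2 fun g _ =>
    mem_normalizer_fintype fun u hu => by
      simp only [hE, SetLike.mem_coe, mem_bot] at hu ⊢
      rw [hu]; group
  have h := hI.card_eq
  rw [htop, card_top, hO, card_bot, D.card] at h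
  have h9 : (9 : ℕ) ∣ 60 * 1 := ⟨2 ^ a * q ^ b, by rw [← h]; ring⟩
  norm_num at h9

theorem Ico.four_le [IsSimpleGroup G] (D : Data S x q a b) {E O : Subgroup G} (hI : Ico x E O) :
    4 ≤ Nat.card O := by
  have h1 : Nat.card O ≠ 1 := fun e => hI.eq_bot_imp_false D (eq_bot_of_card_eq O e)
  have := hI.sub.card_mod_three D.one D.cubed D.x1
  have := Nat.card_pos (α := O)
  omega

section

variable [IsSimpleGroup G] (D : Data S x q a b) (hG : ¬ IsMulCommutative G) (ha : 3 ≤ a) (hb : b ≠ 0)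
include D hG ha hb

/-- A maximal member containing the core is a 2-group. -/
theorem Ico.two_group {E O M : Subgroup G} (hI : Ico x E O) (hM : Mx x M) (hle : O ≤ M) :
    IsPGroup 2 M := by
  refine (hM.pure D hG hb ha).resolve_right fun hc => ?_
  have : Fact (Nat.Prime 2) := ⟨Nat.prime_two⟩
  obtain ⟨u, hu, hu1⟩ : ∃ u ∈ O, u ≠ 1 := by
    by_contra! hcon
    exact hI.eq_bot_imp_false D ((eq_bot_iff_forall O).2 hcon)
  have h2 : orderOf u = 2 := orderOf_eq_prime (by rw [pow_two]; exact hI.elem u hu) hu1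
  have h : 2 ∣ q ^ b := hc ▸ h2 ▸ Subgroup.orderOf_dvd_natCard M (hle hu)
  exact (Nat.prime_two.coprime_iff_not_dvd.1 D.coprime) (Nat.prime_two.dvd_of_dvd_pow h)

/-- A non-soluble local subgroup gives one that is the normaliser of its core. -/
theorem Ico.maximal {E₀ O₀ : Subgroup G} (hI₀ : Ico x E₀ O₀) : ∃ O, Ico x O O := by
  classical
  have : Nonempty {O : Subgroup G // ∃ E, Ico x E O} := ⟨⟨O₀, E₀, hI₀⟩⟩
  obtain ⟨⟨O, E, hI⟩, hmax⟩ := Finite.exists_max
    (fun O : {O : Subgroup G // ∃ E, Ico x E O} => Nat.card (O : Subgroup G))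
  rcases D.one.local_cases D.xS D.x1 hI.sub (hI.eq_bot_imp_false D) with ⟨O', hO'⟩ | ⟨O', hO'⟩
  · exfalso
    obtain ⟨U, hU, hOU, hUN, hUc⟩ := hI.four
    have hUO : U ≤ O' := D.one.le_of_index_six D.xS D.x1 hO'.sub hU (hUN.trans hI.norm_le)
      hO'.le_norm hO'.norm_le hO'.card_dvd
    obtain ⟨M, hM, hle⟩ := exists_mx hO'.sub
    have h2 := hI.two_group D hG ha hb hM (hO'.le.trans hle)
    have h5 : 5 ∣ 6 * Nat.card O' := by
      refine dvd_trans ?_ ((card_dvd_of_le hI.norm_le).trans hO'.card_dvd)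
      rw [hI.card_eq]
      exact dvd_mul_of_dvd_left (by norm_num) _
    have h5' : 5 ∣ Nat.card M := by
      refine dvd_trans ?_ (card_dvd_of_le hle)
      exact (show Nat.Coprime 5 6 by norm_num).dvd_of_dvd_mul_left h5
    have : Fact (Nat.Prime 2) := ⟨Nat.prime_two⟩
    obtain ⟨n, hn⟩ := IsPGroup.iff_card.1 h2
    rw [hn] at h5'
    have := (Nat.prime_dvd_prime_iff_eq (by norm_num : Nat.Prime 5) Nat.prime_two).1
      ((show Nat.Prime 5 by norm_num).dvd_of_dvd_pow h5')
    omega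
  · refine ⟨O, ?_⟩
    have e : O = O' := eq_of_le_of_card_ge hO'.le (hmax ⟨O', O, hO'⟩)
    exact e.symm ▸ hO'

/-- The centraliser of the core is the core. -/
theorem Ico.centralizer_core {O : Subgroup G} (hI : Ico x O O) :
    Subgroup.centralizer (O : Set G) = O := by
  refine le_antisymm (hI.core _ (hI.sub.centralizer D (hI.eq_bot_imp_false D))
    (centralizer_le_normalizer (O : Set G)) fun g hg => mem_normalizer_fintype fun u hu =>
      mem_centralizer_iff.2 fun o ho => ?_) fun o ho => mem_centralizer_iff.2 fun o' ho' => hI.comm o' ho' o ho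
  have ho' : g⁻¹ * o * g ∈ O := by
    have := (mem_normalizer_iff.1 (inv_mem hg) o).1 ho
    rwa [inv_inv] at this
  have e := mem_centralizer_iff.1 hu _ ho'
  calc o * (g * u * g⁻¹) = g * (g⁻¹ * o * g * u) * g⁻¹ := by group
    _ = g * (u * (g⁻¹ * o * g)) * g⁻¹ := by rw [e]
    _ = _ := by group

/-- A maximal member containing the core has 4 times its order and normalises it. -/
theorem Ico.mx_facts {O M : Subgroup G} (hI : Ico x O O) (hM : Mx x M) (hle : O ≤ M)
    (hA : 2 ^ a % 3 = 1) (hQ : q ^ b % 3 = 2) :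
    M ≤ normalizer (O : Set G) ∧ Nat.card M = 4 * Nat.card O ∧ Nat.card M = 2 ^ a := by
  have h2 := hI.two_group D hG ha hb hM hle
  have hne : M ≠ ⊥ := fun e => hI.eq_bot_imp_false D (le_bot_iff.1 (e ▸ hle))
  have hN : M ≤ normalizer (O : Set G) := fun m hm => mem_normalizer_fintype fun o ho => by
    have hc : m * o * m⁻¹ * o⁻¹ ∈ Subgroup.centralizer (O : Set G) :=
      mem_centralizer_iff.2 fun o' ho' =>
        (hM.sub.classTwo D.one D.cubed D.x1 m hm o (hle ho) o' (hle ho')).eq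
    rw [hI.centralizer_core D hG ha hb] at hc
    have := O.mul_mem hc ho
    rwa [inv_mul_cancel_right] at this
  have hc : Nat.card M = 4 * Nat.card O := by
    have h := D.one.index_sixty D.xS D.x1 hI.sub hM.sub hN hI.le_norm hI.norm_le hI.card_eq hI.elem
    rw [sup_eq_left.2 hle] at h
    refine h.resolve_left fun e => ?_
    obtain ⟨U, hU, hOU, hUN, hUc⟩ := hI.four
    have hMO : O = M := eq_of_le_of_card_ge hle e.le
    have := Subgroup.card_le_of_le (hM.le_of_normalized hU (hMO ▸ hUN))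
    have := hI.four_le D
    omega
  refine ⟨hN, hc, ?_⟩
  have hO4 := hI.four_le D
  rcases shape_cases D hG ha hb hM hne with h | ⟨h, -, -⟩ | h | h
  · exact h
  · have := hM.sub.card_mod_three D.one D.cubed D.x1
    omega
  · omega
  · have := hM.sub.card_mod_three D.one D.cubed D.x1
    omega

/-- The partner in the local subgroup. -/
theorem Ico.partner {O M : Subgroup G} (hI : Ico x O O) (hM : Mx x M) (hle : O ≤ M)
    (hA : 2 ^ a % 3 = 1) (hQ : q ^ b % 3 = 2) {y : G} (hyN : y ∈ normalizer (O : Set G))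
    (hy : y * x * y⁻¹ = x⁻¹) :
    Mx x (cj y M) ∧ O ≤ cj y M ∧ M ⊓ cj y M = O ∧ cj y M ≠ M := by
  obtain ⟨-, hc, hca⟩ := hI.mx_facts D hG ha hb hM hle hA hQ
  have hM' := hM.cj_of_conj D (c := y) (Or.inr hy)
  have hle' : O ≤ cj y M := by
    have := cj_mono (g := y) hle
    rwa [cj_eq_self_iff.2 hyN] at this
  have hne : M ≠ ⊥ := fun e => hI.eq_bot_imp_false D (le_bot_iff.1 (e ▸ hle))
  have hne' : cj y M ≠ M := fun e =>
    hM.no_inverter D hne (hM.card_normalizer_sylow D hne hca) (cj_eq_self_iff.1 e) hy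
  refine ⟨hM', hle', ?_, hne'⟩
  have hs : Sub x (M ⊓ cj y M) :=
    hM.sub.of_le inf_le_left fun u hu => ⟨hM.sub.inv u hu.1, hM'.sub.inv u hu.2⟩
  obtain ⟨k, hk, hk1⟩ := D.one.exists_index D.xS D.x1 hM.sub hs inf_le_left
  obtain ⟨k', hk', hk1'⟩ := D.one.exists_index D.xS D.x1 hs hI.sub (le_inf hle hle')
  rw [hk', hc, ← mul_assoc] at hk
  have h4 : 4 = k * k' := Nat.eq_of_mul_eq_mul_right Nat.card_pos hk
  have hk4 : k' ∣ 4 := ⟨k, by rw [h4, mul_comm]⟩
  have := Nat.le_of_dvd (by norm_num) hk4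
  refine (eq_of_le_of_card_ge (le_inf hle hle') ?_).symm
  by_contra hlt
  have hk'1 : k' ≠ 1 := fun e => hlt (by rw [hk', e, one_mul])
  have hk'4 : k' = 4 := by omega
  have hk0 : k = 1 := by rw [hk'4] at h4; omega
  refine hne' (hM.max _ hM'.sub ?_)
  refine inf_eq_left.1 (eq_of_le_of_card_ge inf_le_left ?_)
  rw [hk', hk'4, hc]

/-- With a non-soluble local subgroup and `q ^ b = 125`. -/
theorem ico_bound (hA : 2 ^ a % 3 = 1) (hQ : q ^ b = 125) {E₀ O₀ : Subgroup G}
    (hI₀ : Ico x E₀ O₀) : 2 ^ a ≤ 1200 ∧ 4 * ((covered x).ncard + 3) ≤ 21 * 2 ^ a := by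
  classical
  obtain ⟨O, hI⟩ := hI₀.maximal D hG ha hb
  have hQ3 : q ^ b % 3 = 2 := by rw [hQ]
  have hO4 := hI.four_le D
  obtain ⟨M, hM, hle⟩ := exists_mx hI.sub
  obtain ⟨hMN, hc, hca⟩ := hI.mx_facts D hG ha hb hM hle hA hQ3
  obtain ⟨y, hyN, hy⟩ := hI.inverter
  obtain ⟨hM', -, hinf, -⟩ := hI.partner D hG ha hb hM hle hA hQ3 hyN hy
  obtain ⟨r, w, F⟩ := exists_frame D
  have hne : M ≠ ⊥ := fun e => hI.eq_bot_imp_false D (le_bot_iff.1 (e ▸ hle))
  refine ⟨?_, ?_⟩
  · by_contra hbig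
    set O' := cj r O
    set H' := normalizer (O' : Set G)
    have hr : r * x * r⁻¹ = x := by simpa using F.r_conj D 1
    have hOO' : Sub x O' := hI.sub.cj_of_conj D (Or.inl hr)
    have hi : H'.index = 75 :=
      D.index_eq (c := 60 * Nat.card O) (by rw [card_normalizer_cj]; exact hI.card_eq)
        (by rw [hQ, ← hca, hc]; ring)
    set X := O ⊓ H' with hX
    have hX75 : Nat.card O ≤ 75 * Nat.card X := by
      have h1 := Subgroup.index_inf_le (H := O) (K := H')
      rw [hi, ← hX] at h1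
      have h2 := Nat.mul_le_mul_left (Nat.card X) h1
      rw [X.card_mul_index] at h2
      have h3 : Nat.card O * Nat.card G ≤ 75 * Nat.card X * Nat.card G := by
        calc Nat.card O * Nat.card G ≤ Nat.card O * (Nat.card X * (O.index * 75)) :=
              Nat.mul_le_mul_left _ h2
          _ = 75 * Nat.card X * (Nat.card O * O.index) := by ring
          _ = _ := by rw [O.card_mul_index]
      exact Nat.le_of_mul_le_mul_right h3 Nat.card_pos
    have hXs : Sub x X := hI.sub.of_le inf_le_left fun u hu => ⟨hI.sub.inv u hu.1, by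
      have hx := mem_normalizer_of_inv hOO'.inv
      exact Subgroup.mul_mem _ (Subgroup.mul_mem _ hx hu.2) (Subgroup.inv_mem _ hx)⟩
    have hel' : ∀ u ∈ O', u * u = 1 := by
      rintro _ ⟨u, hu, rfl⟩
      rw [← map_mul, hI.elem u hu, map_one]
    have hXO' : X ⊓ O' = O ⊓ O' := by
      rw [hX, inf_assoc, inf_eq_right.2 (le_normalizer : O' ≤ H')]
    have hD4 : Nat.card X ≤ 4 * Nat.card ↥(O ⊓ O') := by
      have hm := card_sup_mul (U := X) (N := O') (inf_le_right : X ≤ H')
      rw [hXO'] at hm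
      have h := D.one.index_sixty D.xS D.x1 hOO' hXs (inf_le_right : X ≤ H') le_normalizer le_rfl
        (by rw [card_normalizer_cj, card_cj]; exact hI.card_eq) hel'
      have hle4 : Nat.card ↥(X ⊔ O') ≤ 4 * Nat.card O' := by rcases h with e | e <;> rw [e] <;> omega
      have := Nat.mul_le_mul_right (Nat.card ↥(O ⊓ O')) hle4
      rw [hm] at this
      exact Nat.le_of_mul_le_mul_right (by linarith) (Nat.card_pos (α := O'))
    set D0 := O ⊓ O'
    have hD0s : Sub x D0 := hI.sub.of_le inf_le_left fun u hu => ⟨hI.sub.inv u hu.1, hOO'.inv u hu.2⟩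
    have hD0 : D0 ≠ ⊥ := fun e => by
      rw [e, card_bot] at hD4
      omega
    have hOc : O ≤ Subgroup.centralizer (D0 : Set G) := fun o ho =>
      mem_centralizer_iff.2 fun d hd => hI.comm d hd.1 o ho
    have hOc' : O' ≤ Subgroup.centralizer (D0 : Set G) := by
      rintro _ ⟨o, ho, rfl⟩
      refine mem_centralizer_iff.2 fun d hd => ?_
      obtain ⟨d', hd', rfl⟩ := hd.2
      rw [← map_mul, ← map_mul, hI.comm d' hd' o ho]
    obtain ⟨M₁, hM₁, hCM⟩ := exists_mx (hD0s.centralizer D hD0)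
    obtain ⟨hN₁, hc₁, hca₁⟩ := hI.mx_facts D hG ha hb hM₁ (hOc.trans hCM) hA hQ3
    have hne₁ : O' ≠ O := fun e => by
      obtain ⟨k, hk⟩ := mem_zpowers_iff.1
        ((D.one.sc_normalizer D.xS D.x1 hI.sub (hI.eq_bot_imp_false D)).cent
          ⟨r, cj_eq_self_iff.1 e⟩ (Subtype.ext (D.one.comm F.rS D.xS).eq))
      exact F.r_not (mem_zpowers_iff.2 ⟨k, congrArg Subtype.val hk⟩)
    have hO'M : O' ≤ M₁ := hOc'.trans hCM
    have hO'N : O' ≤ normalizer (O : Set G) := hO'M.trans hN₁
    have hsup : Nat.card ↥(O' ⊔ O) = 4 * Nat.card O := by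
      refine (D.one.index_sixty D.xS D.x1 hI.sub hOO' hO'N hI.le_norm hI.norm_le hI.card_eq
        hI.elem).resolve_left fun e => hne₁ ?_
      refine eq_of_le_of_card_ge ?_ (card_cj r O).ge
      exact (le_sup_left : O' ≤ O' ⊔ O).trans (eq_of_le_of_card_ge le_sup_right e.le).ge
    have hM₁e : O' ⊔ O = M₁ :=
      eq_of_le_of_card_ge (sup_le hO'M (hOc.trans hCM)) (by rw [hsup, hc₁])
    have hD0c : 4 * Nat.card D0 = Nat.card O := by
      have hm := card_sup_mul hO'N
      rw [hsup, inf_comm, card_cj] at hm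
      have h := Nat.eq_of_mul_eq_mul_right Nat.card_pos
        (show 4 * Nat.card D0 * Nat.card O = Nat.card O * Nat.card O by linarith)
      exact h
    have hD0z : M₁ ≤ Subgroup.centralizer (D0 : Set G) := hM₁e ▸ sup_le hOc' hOc
    obtain ⟨hM₁', hle₁', hinf₁, hne₁'⟩ := hI.partner D hG ha hb hM₁ (hOc.trans hCM) hA hQ3 hyN hy
    set D1 := cj y D0
    have hD1z : cj y M₁ ≤ Subgroup.centralizer (D1 : Set G) := by
      rintro _ ⟨m, hm, rfl⟩
      refine mem_centralizer_iff.2 ?_
      rintro _ ⟨d, hd, rfl⟩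
      rw [← map_mul, ← map_mul, mem_centralizer_iff.1 (hD0z hm) d hd]
    have hD1O : D1 ≤ O := (cj_mono inf_le_left).trans (cj_eq_self_iff.2 hyN).le
    have hbot : D0 ⊓ D1 = ⊥ := by
      by_contra hEne
      have hEs : Sub x (D0 ⊓ D1) := hD0s.of_le inf_le_left fun u hu =>
        ⟨hD0s.inv u hu.1, (hD0s.cj_of_conj D (Or.inr hy)).inv u hu.2⟩
      obtain ⟨M₂, hM₂, hCM₂⟩ := exists_mx (hEs.centralizer D hEne)
      have h1 : M₁ ≤ M₂ :=
        (hD0z.trans (Subgroup.centralizer_le (fun u hu => hu.1))).trans hCM₂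
      have h2 : cj y M₁ ≤ M₂ :=
        (hD1z.trans (Subgroup.centralizer_le (fun u hu => hu.2))).trans hCM₂
      exact hne₁' ((hM₁'.max M₂ hM₂.sub h2).symm.trans (hM₁.max M₂ hM₂.sub h1))
    have hD0O : D0 ≤ O := inf_le_left
    have hn : D1 ≤ normalizer (D0 : Set G) := fun u hu =>
      centralizer_le_normalizer (D0 : Set G) (hOc (hD1O hu))
    have hm := card_sup_mul hn
    rw [inf_comm, hbot, card_bot, mul_one, card_cj] at hm
    have := hm ▸ Subgroup.card_le_of_le (sup_le hD1O hD0O)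
    nlinarith
  · have key : covered x ⊆ ⋃ i : Fin 3,
        (fun u => r ^ (i : ℕ) * u * (r ^ (i : ℕ))⁻¹) '' (((M : Set G) ∪ (cj y M : Subgroup G)) \ {1}) := by
      rintro u ⟨hu1, N, hN, hu⟩
      have hNne : N ≠ ⊥ := fun e => hu1 (by rw [e, mem_bot] at hu; exact hu)
      have hNc : Nat.card N = 2 ^ a := by
        have hmod := hN.sub.card_mod_three D.one D.cubed D.x1
        rcases shape_cases D hG ha hb hN hNne with h | ⟨h, -, -⟩ | h | h
        · exact h
        · omega
        · exact (hN.not_four_of_sylow hM D ha h hca).elim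
        · omega
      obtain ⟨i, hi⟩ : ∃ i : Fin 3,
          N = cj (r ^ (i : ℕ)) M ∨ N = cj (r ^ (i : ℕ)) (cj y M) := by
        obtain ⟨i, h | h⟩ := hM.mem_fam D F hne (hM.mem_fam_sylow hN D hca hNc)
        · exact ⟨i, Or.inl h⟩
        have hcw : Commute (w * y⁻¹) x := by
          refine mul_inv_eq_iff_eq_mul.1 ?_
          calc w * y⁻¹ * x * (w * y⁻¹)⁻¹ = w * (y⁻¹ * (y * x * y⁻¹)⁻¹ * y) * w⁻¹ := by
                rw [hy, inv_inv]; group
            _ = (w * x * w⁻¹)⁻¹ := by group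
            _ = x := by rw [F.winv, inv_inv]
        obtain ⟨e, j, hej⟩ := F.exists_coord D (D.one.mem_of_commute D.xS D.x1 hcw)
        have hwM : cj w M = cj (r ^ (e : ℕ)) (cj y M) := by
          rw [show w = r ^ (e : ℕ) * (x ^ (j : ℕ) * y) from by rw [← mul_assoc, ← hej]; group, cj_mul,
            cj_mul, cj_eq_self_iff.2 (pow_mem (mem_normalizer_of_inv hM'.sub.inv) _)]
        refine ⟨⟨((i : ℕ) + e) % 3, Nat.mod_lt _ (by norm_num)⟩, Or.inr ?_⟩
        simp only
        rw [h, cj_mul (r ^ (i : ℕ)) w, hwM, ← cj_mul, ← pow_add,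
          ← pow_eq_pow_mod _ (D.one.cubed r F.rS)]
      refine Set.mem_iUnion.2 ⟨i, (r ^ (i : ℕ))⁻¹ * u * r ^ (i : ℕ), ⟨?_, fun e => hu1 ?_⟩, ?_⟩
      · rcases hi with h | h
        · exact Or.inl (mem_cj.1 (h ▸ hu))
        · exact Or.inr (mem_cj.1 (h ▸ hu))
      · have e' := congrArg (fun z => r ^ (i : ℕ) * z * (r ^ (i : ℕ))⁻¹) e
        simpa [mul_assoc] using e'
      · simp [mul_assoc]
    have hV : (((M : Set G) ∪ (cj y M : Subgroup G)) \ {1}).ncard + 1 = 7 * Nat.card O := by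
      rw [Set.ncard_diff_singleton_add_one (Set.mem_union_left _ M.one_mem) (Set.toFinite _)]
      have h := Set.ncard_union_add_ncard_inter (M : Set G) (cj y M : Subgroup G)
      rw [← coe_inf, hinf] at h
      simp only [← Nat.card_coe_set_eq, SetLike.coe_sort_coe, card_cj, hc] at h ⊢
      omega
    have hle3 := (Set.ncard_le_ncard key (Set.toFinite _)).trans
      ((Set.ncard_iUnion_le_of_fintype _).trans (Finset.sum_le_card_nsmul _ _
        ((((M : Set G) ∪ (cj y M : Subgroup G)) \ {1}).ncard) fun i _ => Set.ncard_image_le))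
    rw [Finset.card_univ, Fintype.card_fin, smul_eq_mul] at hle3
    omega

end

end Cfsg.Agent.SmallOrders.NineOneClass
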