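-- No simple group of order `9 * 2^a * q^b` has one class of elements of order 3 and self-centralising
-- Sylow 3-subgroups.
--
-- * `Terms.lt_seventy_two_mul`: the pairs are many
-- * `one_class_false`: the conclusion
import Cfsg.Agent.Lib.SmallOrders.NineOneClass.Icosa
import Cfsg.Agent.Lib.SmallOrders.NineOneClass.Degrees
import Cfsg.Agent.Lib.SmallOrders.NineOneClass.Check
import Cfsg.Agent.Lib.SmallOrders.Check
import Cfsg.Agent.Lib.CharApp.Burnside

set_option autoImplicit false
set_option linter.unusedSectionVars false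
set_option linter.style.haveILetI false

namespace Cfsg.Agent.SmallOrders.NineOneClass

open Subgroup SelfCentNine SelfCentThree

theorem sum_nonneg_int {s : Multiset ℤ} (h : ∀ z ∈ s, 0 ≤ z) : 0 ≤ s.sum :=
  Multiset.sum_nonneg h

namespace Terms

variable {P p : ℕ} {l : Multiset (ℤ × ℕ)}

theorem bound (H : Terms P p l) : ∀ t ∈ l, t.1 = 1 ∨ t.1 = -1 ∨ t.1 = 2 ∨ t.1 = -2 := by
  intro t ht
  obtain ⟨r, rfl⟩ := Multiset.exists_cons_of_mem ht
  have h := H.sq
  rw [Multiset.map_cons, Multiset.sum_cons] at h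
  have hr : 0 ≤ (r.map fun t => t.1 ^ 2).sum := sum_nonneg_int fun z hz => by
    obtain ⟨u, -, rfl⟩ := Multiset.mem_map.1 hz
    exact sq_nonneg _
  have := H.nz t ht
  have : -2 ≤ t.1 ∧ t.1 ≤ 2 := ⟨by nlinarith, by nlinarith⟩
  omega

theorem sum_unit {r : Multiset (ℤ × ℕ)} (h : ∀ t ∈ r, t.1 = 1 ∨ t.1 = -1) :
    (r.map fun t => t.1 ^ 2).sum = (r.card : ℤ) := by
  induction r using Multiset.induction_on with
  | empty => simp
  | cons t r ih =>
    rw [Multiset.map_cons, Multiset.sum_cons, Multiset.card_cons,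
      ih fun u hu => h u (Multiset.mem_cons_of_mem hu)]
    rcases h t (Multiset.mem_cons_self t r) with e | e <;> rw [e] <;> push_cast <;> ring

/-- Eight values `±1`, or one `±2` and four `±1`. -/
theorem shape (H : Terms P p l) :
    (l.card = 8 ∧ ∀ t ∈ l, t.1 = 1 ∨ t.1 = -1) ∨
      ∃ t r, l = t ::ₘ r ∧ (t.1 = 2 ∨ t.1 = -2) ∧ r.card = 4 ∧ ∀ u ∈ r, u.1 = 1 ∨ u.1 = -1 := by
  by_cases hex : ∃ t ∈ l, t.1 = 2 ∨ t.1 = -2
  · right
    obtain ⟨t, ht, ht2⟩ := hex
    obtain ⟨r, rfl⟩ := Multiset.exists_cons_of_mem ht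
    have hsq := H.sq
    rw [Multiset.map_cons, Multiset.sum_cons] at hsq
    have ht4 : t.1 ^ 2 = 4 := by rcases ht2 with e | e <;> rw [e] <;> norm_num
    rw [ht4] at hsq
    have hunit : ∀ u ∈ r, u.1 = 1 ∨ u.1 = -1 := by
      intro u hu
      rcases H.bound u (Multiset.mem_cons_of_mem hu) with e | e | e
      · exact Or.inl e
      · exact Or.inr e
      exfalso
      obtain ⟨r', rfl⟩ := Multiset.exists_cons_of_mem hu
      rw [Multiset.map_cons, Multiset.sum_cons] at hsq
      have hu4 : u.1 ^ 2 = 4 := by rcases e with e | e <;> rw [e] <;> norm_num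
      rw [hu4] at hsq
      have hr' : r' = 0 := Multiset.eq_zero_of_forall_notMem fun w hw => by
        obtain ⟨r'', rfl⟩ := Multiset.exists_cons_of_mem hw
        rw [Multiset.map_cons, Multiset.sum_cons] at hsq
        have : 0 ≤ (r''.map fun t => t.1 ^ 2).sum := sum_nonneg_int fun z hz => by
          obtain ⟨z', -, rfl⟩ := Multiset.mem_map.1 hz
          exact sq_nonneg _
        have hw0 := H.nz w (by simp)
        have : 0 < w.1 ^ 2 := by positivity
        omega
      subst hr'
      have hlin := H.lin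
      simp only [Multiset.map_cons, Multiset.sum_cons, Multiset.map_zero, Multiset.sum_zero] at hlin
      rcases ht2 with e1 | e1 <;> rcases e with e2 | e2 <;> rw [e1, e2] at hlin <;> omega
    refine ⟨t, r, rfl, ht2, ?_, hunit⟩
    have := sum_unit hunit
    omega
  · left
    have hunit : ∀ t ∈ l, t.1 = 1 ∨ t.1 = -1 := fun t ht => by
      rcases H.bound t ht with e | e | e
      · exact Or.inl e
      · exact Or.inr e
      · exact absurd ⟨t, ht, e⟩ hex
    refine ⟨?_, hunit⟩
    have := sum_unit hunit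
    have := H.sq
    omega

theorem exists_pos (H : Terms P p l) : ∃ t ∈ l, 0 < t.1 := by
  by_contra! hcon
  obtain ⟨t, ht⟩ : ∃ t, t ∈ l := Multiset.exists_mem_of_ne_zero fun e => by
    have := H.lin; rw [e] at this; simp at this
  obtain ⟨r, rfl⟩ := Multiset.exists_cons_of_mem ht
  have h := H.lin
  rw [Multiset.map_cons, Multiset.sum_cons] at h
  have hr : (r.map fun t => t.1 * (t.2 : ℤ)).sum ≤ 0 := by
    have := Multiset.sum_map_le_sum_map (f := fun t : ℤ × ℕ => t.1 * (t.2 : ℤ)) (g := fun _ => (0 : ℤ))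
      (s := r) fun u hu => mul_nonpos_of_nonpos_of_nonneg (hcon u (Multiset.mem_cons_of_mem hu)) (by positivity)
    simpa using this
  have h1 := hcon t ht
  have h2 := H.nz t ht
  have h3 := H.three t ht
  have h4 : (3 : ℤ) ≤ (t.2 : ℤ) := by exact_mod_cast h3
  have h5 : t.1 ≤ -1 := by omega
  have : t.1 * (t.2 : ℤ) ≤ -1 * 3 := by nlinarith
  omega

theorem exists_odd (H : Terms P p l) :
    ∃ t ∈ l, t.2 % 2 = 1 ∧ (t.2 % 9 = 1 ∨ t.2 % 9 = 8) := by
  by_contra hcon
  have h2 : (2 : ℤ) ∣ (l.map fun t => t.1 * (t.2 : ℤ)).sum := Multiset.dvd_sum fun z hz => by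
    obtain ⟨t, ht, rfl⟩ := Multiset.mem_map.1 hz
    by_cases hf : t.2 % 2 = 1
    · refine dvd_mul_of_dvd_left ?_ _
      have hm := H.congr t ht
      rcases H.bound t ht with e | e | e | e
      · exact absurd ⟨t, ht, hf, Or.inl (by omega)⟩ hcon
      · exact absurd ⟨t, ht, hf, Or.inr (by omega)⟩ hcon
      · rw [e]
      · rw [e]; norm_num
    · exact dvd_mul_of_dvd_right (by omega) _
  rw [H.lin] at h2
  norm_num at h2

theorem no_seven {a b q : ℕ} (hq : q.Prime) (hP : P = 2 ^ a * q ^ b) (H : Terms P p l) (hp : 7 ≤ p) :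
    ∀ t ∈ l, ¬ (t.1 = -2 ∧ t.2 = 7) := by
  rintro ⟨v, f⟩ ht ⟨hv, hf⟩
  simp only at hv hf
  subst hv hf
  rcases H.shape with ⟨-, h⟩ | ⟨t, r, hl, -, hr4, hunit⟩
  · rcases h _ ht with e | e <;> norm_num at e
  have ht' : t = (-2, 7) := by
    rw [hl] at ht
    rcases Multiset.mem_cons.1 ht with e | e
    · exact e.symm
    · rcases hunit _ e with e' | e' <;> norm_num at e'
  subst ht'
  obtain ⟨e, he⟩ := H.dvd _ ht
  simp only at he
  have h7 : q = 7 := by
    have hd : 7 ∣ 2 ^ a * q ^ b := hP ▸ ⟨e, he⟩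
    rcases (show Nat.Prime 7 by norm_num).dvd_mul.1 hd with h | h
    · have := Nat.le_of_dvd two_pos ((show Nat.Prime 7 by norm_num).dvd_of_dvd_pow h)
      omega
    · exact ((Nat.prime_dvd_prime_iff_eq (by norm_num) hq).1
        ((show Nat.Prime 7 by norm_num).dvd_of_dvd_pow h)).symm
  subst h7
  have hlin := H.lin
  have hcub := H.cub
  rw [hl, Multiset.map_cons, Multiset.sum_cons] at hlin hcub
  simp only at hlin hcub
  have hPe : P / 7 = e := by rw [he, Nat.mul_div_cancel_left _ (by norm_num)]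
  rw [hPe] at hcub
  -- positive values have degree at least 28
  have hpos : ∀ u ∈ r, u.1 = 1 → 28 ≤ u.2 := fun u hu hu1 => by
    have hm := H.congr u (hl ▸ Multiset.mem_cons_of_mem hu)
    have h3 := H.three u (hl ▸ Multiset.mem_cons_of_mem hu)
    rw [hu1] at hm
    by_contra hlt
    have hd : u.2 ∣ 2 ^ a * 7 ^ b := hP ▸ H.dvd u (hl ▸ Multiset.mem_cons_of_mem hu)
    rcases (show u.2 = 10 ∨ u.2 = 19 by omega) with e | e <;> rw [e] at hd
    · rcases (show Nat.Prime 5 by norm_num).dvd_mul.1 ((show 5 ∣ 10 by norm_num).trans hd) with h | h <;>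
        have := (show Nat.Prime 5 by norm_num).dvd_of_dvd_pow h <;> norm_num at this
    · rcases (show Nat.Prime 19 by norm_num).dvd_mul.1 hd with h | h <;>
        have := (show Nat.Prime 19 by norm_num).dvd_of_dvd_pow h <;> norm_num at this
  obtain ⟨w, hw, hw1⟩ : ∃ w ∈ r, w.1 = -1 := by
    by_contra hcon
    have h28 := Multiset.card_nsmul_le_sum (s := r.map fun t => t.1 * (t.2 : ℤ)) (a := (28 : ℤ)) fun z hz => by
      obtain ⟨u, hu, rfl⟩ := Multiset.mem_map.1 hz
      have h1 : u.1 = 1 := (hunit u hu).resolve_right fun e => hcon ⟨u, hu, e⟩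
      rw [h1, one_mul]
      exact_mod_cast hpos u hu h1
    rw [Multiset.card_map, hr4] at h28
    norm_num at h28
    omega
  obtain ⟨r', rfl⟩ := Multiset.exists_cons_of_mem hw
  rw [Multiset.map_cons, Multiset.sum_cons, hw1] at hcub
  rw [Multiset.card_cons] at hr4
  have hr' := Multiset.sum_le_card_nsmul (r'.map fun t => 4 * (t.1 ^ 3 * ((P / t.2 : ℕ) : ℤ))) (e : ℤ)
    fun z hz => by
      obtain ⟨u, hu, rfl⟩ := Multiset.mem_map.1 hz
      have hu' : u ∈ w ::ₘ r' := Multiset.mem_cons_of_mem hu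
      rcases hunit u hu' with e1 | e1 <;> rw [e1]
      · obtain ⟨k, hk⟩ := H.dvd u (hl ▸ Multiset.mem_cons_of_mem hu')
        have h28 := hpos u hu' e1
        rw [hk, Nat.mul_div_cancel_left _ (by omega)]
        have : 4 * k ≤ e := by nlinarith
        push_cast
        omega
      · generalize (P / u.2 : ℕ) = k
        norm_num
        omega
  rw [Multiset.sum_map_mul_left, Multiset.card_map, show r'.card = 3 by omega, nsmul_eq_mul] at hr'
  generalize (P / w.2 : ℕ) = k at hcub
  norm_num at hcub hr'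
  omega

theorem lt_seventy_two_mul {a b q : ℕ} (hq : q.Prime) (hP : P = 2 ^ a * q ^ b) (H : Terms P p l)
    (hp : 7 ≤ p) : P < 72 * p := by
  let w : ℤ × ℕ → ℤ := fun t => 8 * (t.1 ^ 3 * ((P / t.2 : ℕ) : ℤ)) + t.1 ^ 2 * P
  have hsum : (l.map w).sum = 72 * p := by
    simp only [w]
    rw [Multiset.sum_map_add, Multiset.sum_map_mul_left, Multiset.sum_map_mul_right, H.sq]
    have := H.cub
    linarith
  have hw : ∀ t ∈ l, 0 ≤ w t ∧ (0 < t.1 → (P : ℤ) < w t) := by
    intro t ht
    obtain ⟨e, he⟩ := H.dvd t ht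
    have h3 := H.three t ht
    have hm := H.congr t ht
    have hP0 : 0 < P := by rw [hP]; exact Nat.mul_pos (pow_pos two_pos a) (pow_pos hq.pos b)
    have he0 : 0 < e := by
      rcases Nat.eq_zero_or_pos e with rfl | h
      · rw [mul_zero] at he; omega
      · exact h
    have hdiv : P / t.2 = e := by rw [he, Nat.mul_div_cancel_left _ (by omega)]
    simp only [w, hdiv]
    rcases H.bound t ht with e1 | e1 | e1 | e1 <;> rw [e1] at hm ⊢
    · constructor <;> intros <;> norm_num <;> omega
    · have : 8 * e ≤ P := by rw [he]; exact Nat.mul_le_mul_right _ (by omega)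
      constructor <;> intros <;> norm_num <;> omega
    · constructor <;> intros <;> norm_num <;> omega
    · have h16 : 16 ≤ t.2 := by
        have := H.no_seven hq hP hp t ht
        simp only [e1, true_and] at this
        omega
      have : 16 * e ≤ P := by rw [he]; exact Nat.mul_le_mul_right _ h16
      constructor <;> intros <;> norm_num <;> omega
  obtain ⟨t, ht, htp⟩ := H.exists_pos
  obtain ⟨r, rfl⟩ := Multiset.exists_cons_of_mem ht
  have hr : 0 ≤ (r.map w).sum := sum_nonneg_int fun z hz => by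
    obtain ⟨u, hu, rfl⟩ := Multiset.mem_map.1 hz
    exact (hw u (Multiset.mem_cons_of_mem hu)).1
  rw [Multiset.map_cons, Multiset.sum_cons] at hsum
  have := (hw t ht).2 htp
  omega

/-- The search table covers the case. -/
theorem not_allowed {a b q : ℕ} (hq : q.Prime) (h5 : 5 ≤ q) (hb : b ≠ 0) (ha : 3 ≤ a) (ha' : a ≤ 9)
    (hQ : q ^ b ≤ 768) (hmod : (2 ^ a * q ^ b) % 9 = 8) (H : Terms (2 ^ a * q ^ b) p l) :
    Check.allowed a (2 ^ a) (q ^ b) p = false := by
  have hb4 : b ≤ 4 := by
    by_contra h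
    have h1 := Nat.pow_le_pow_right (show 5 > 0 by norm_num) (show 5 ≤ b by omega)
    have h2 := Nat.pow_le_pow_left h5 b
    norm_num at h1
    omega
  have hqQ : q ≤ q ^ b := Nat.le_self_pow hb q
  have h := Check.table_ok
  simp only [Check.table, List.all_eq_true, List.mem_range, Bool.or_eq_true, Bool.not_eq_true',
    decide_eq_true_eq] at h
  rcases h q (by omega) with h' | h'
  · rw [Check.smallPrime_of_prime hq h5] at h'
    cases h'
  rcases h' (b - 1) (by omega) with h'' | h''
  · rw [show b - 1 + 1 = b by omega] at h''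
    omega
  rcases h'' (a - 3) (by omega) with h''' | h'''
  · rw [show a - 3 + 3 = a by omega, show b - 1 + 1 = b by omega] at h'''
    simp [hmod] at h'''
  rw [show a - 3 + 3 = a by omega, show b - 1 + 1 = b by omega] at h'''
  set P := 2 ^ a * q ^ b with hP
  simp only [Check.check, Bool.and_eq_true, Bool.not_eq_true', List.all_eq_true] at h'''
  rw [← hP] at h'''
  obtain ⟨hsmall, hlarge⟩ := h'''
  have htot : ∀ lin cub, Check.okTot (P : ℤ) (Check.allowed a (2 ^ a) (q ^ b)) lin cub = true → lin = -1 :=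
    fun lin cub h => by
      simp only [Check.okTot, Bool.and_eq_true, beq_iff_eq] at h
      exact h.1.1.1
  have hmem : ∀ t ∈ l, t.2 ∈ Check.degrees a b q := fun t ht =>
    Check.mem_degrees hq (H.dvd t ht) (H.three t ht) (H.small t ht)
  let φ : ℤ × ℕ → ℤ × ℤ := fun t => (t.1 * (t.2 : ℤ), t.1 ^ 3 * ((P / t.2 : ℕ) : ℤ))
  by_contra hcon
  rw [Bool.not_eq_false] at hcon
  have hok : Check.okTot (P : ℤ) (Check.allowed a (2 ^ a) (q ^ b)) (-1)
      ((l.map fun t => t.1 ^ 3 * ((P / t.2 : ℕ) : ℤ)).sum) = true := by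
    have hp7 : 7 ≤ p := by
      simp only [Check.allowed, Bool.and_eq_true, decide_eq_true_eq] at hcon
      exact hcon.1.1
    simp only [Check.okTot, ← H.cub, Bool.and_eq_true, beq_iff_eq, decide_eq_true_eq]
    refine ⟨⟨⟨by simp, by omega⟩, by omega⟩, ?_⟩
    rwa [show ((9 * (p : ℤ)) / 9).toNat = p by omega]
  rcases H.shape with ⟨hc, hunit⟩ | ⟨t, r, hl, ht2, hc, hunit⟩
  · have h8 := Check.search_sound htot _ _ _ _ hsmall (l.map φ) (fun z hz => by
      obtain ⟨t, ht, rfl⟩ := Multiset.mem_map.1 hz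
      exact Check.mem_small (hmem t ht) (hunit t ht) (H.congr t ht))
      (by rw [Multiset.card_map, hc])
    simp only [Multiset.map_map, Function.comp_def, φ, zero_add, H.lin] at h8
    rw [h8] at hok
    cases hok
  · have ht : t ∈ l := hl ▸ Multiset.mem_cons_self t r
    have hg := hlarge _ (Check.mem_large (hmem t ht) ht2 (H.congr t ht))
    have h4 := Check.search_sound htot _ _ _ _ hg (r.map φ) (fun z hz => by
      obtain ⟨u, hu, rfl⟩ := Multiset.mem_map.1 hz
      have hu' : u ∈ l := hl ▸ Multiset.mem_cons_of_mem hu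
      exact Check.mem_small (hmem u hu') (hunit u hu) (H.congr u hu'))
      (by rw [Multiset.card_map, hc])
    simp only [Multiset.map_map, Function.comp_def, φ] at h4
    have hlin := H.lin
    rw [hl, Multiset.map_cons, Multiset.sum_cons] at hlin hok
    rw [hlin] at h4
    rw [h4] at hok
    cases hok

end Terms

variable {G : Type*} [Group G] [Finite G] {S : Subgroup G} {x : G} {q a b : ℕ}

theorem two_pow_mod_three (a : ℕ) : (a % 2 = 0 → 2 ^ a % 3 = 1) ∧ (a % 2 = 1 → 2 ^ a % 3 = 2) := by
  constructor <;> intro h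
  · obtain ⟨k, rfl⟩ : ∃ k, a = 2 * k := ⟨a / 2, by omega⟩
    rw [pow_mul, Nat.pow_mod]; norm_num
  · obtain ⟨k, rfl⟩ : ∃ k, a = 2 * k + 1 := ⟨a / 2, by omega⟩
    rw [pow_succ, pow_mul, Nat.mul_mod, Nat.pow_mod]; norm_num

theorem five_pow_mod_nine {j : ℕ} (h : 5 ^ j % 9 = 1 ∨ 5 ^ j % 9 = 8) : j % 3 = 0 := by
  have e : 5 ^ j % 9 = 5 ^ (j % 6) % 9 := by
    conv_lhs => rw [← Nat.div_add_mod j 6, pow_add, pow_mul, Nat.mul_mod, Nat.pow_mod]
    norm_num
  rw [e] at h
  have := Nat.mod_lt j (show 6 > 0 by norm_num)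
  have hj : j % 6 = 0 ∨ j % 6 = 1 ∨ j % 6 = 2 ∨ j % 6 = 3 ∨ j % 6 = 4 ∨ j % 6 = 5 := by omega
  rcases hj with e | e | e | e | e | e <;> rw [e] at h <;> norm_num at h <;> omega

theorem three_le_exponent {p : ℕ} {l : Multiset (ℤ × ℕ)} (H : Terms (2 ^ a * 5 ^ b) p l) : 3 ≤ b := by
  obtain ⟨t, ht, hodd, h9⟩ := H.exists_odd
  have hd : t.2 ∣ 5 ^ b := by
    refine Nat.Coprime.dvd_of_dvd_mul_left ?_ (H.dvd t ht)
    exact (Nat.prime_two.coprime_iff_not_dvd.2 (by omega)).symm.pow_right a
  obtain ⟨j, hj, hj'⟩ := (Nat.dvd_prime_pow (by norm_num : Nat.Prime 5)).1 hd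
  have h3 := H.three t ht
  rw [hj'] at h9 h3
  have := five_pow_mod_nine h9
  have hj0 : j ≠ 0 := fun e => by rw [e] at h3; norm_num at h3
  omega

theorem one_class_false [IsSimpleGroup G] (D : Data S x q a b) (hG : ¬ IsMulCommutative G) : False := by
  classical
  have hb : b ≠ 0 := fun hb => by
    have hsol := CharApp.isSolvable_of_card_eq_prime_pow_mul 2 3 Nat.prime_two Nat.prime_three
      (Nat.card G) G rfl a 2 (by rw [D.card, hb]; ring)
    exact hG ⟨⟨fun u w => (IsSimpleGroup.comm_iff_isSolvable.mpr hsol) u w⟩⟩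
  have ha : 3 ≤ a := by
    have hf : fiber S x = (S : Set G) \ {1} := by
      ext g
      simp only [fiber, Set.mem_setOf_eq, D.class_eq, Set.mem_sdiff, SetLike.mem_coe, Set.mem_singleton_iff]
      exact ⟨fun h => ⟨h.1, h.2.2⟩, fun h => ⟨h.1, D.one.cubed g h.1, h.2⟩⟩
    have h8 := D.one.toNine.card_fiber D.xS D.x1
    rw [hf, Set.ncard_diff_singleton_of_mem S.one_mem, ← Nat.card_coe_set_eq] at h8
    have hd : 8 ∣ Nat.card G := by
      refine dvd_trans ?_ (card_subgroup_dvd_card (normalizer (S : Set G)))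
      rw [← (S.subgroupOf (normalizer (S : Set G))).card_mul_index, ← h8,
        show Nat.card ((S : Set G)) = 9 from D.one.card]
      exact dvd_mul_left _ _
    rw [D.card] at hd
    have hc : Nat.Coprime 8 (q ^ b) := by
      rw [show (8 : ℕ) = 2 ^ 3 by norm_num]
      exact Nat.Coprime.pow _ _ D.coprime
    exact (Nat.pow_dvd_pow_iff_le_right one_lt_two).1
      ((show Nat.Coprime (2 ^ 3) 9 by norm_num).dvd_of_dvd_mul_left (hc.dvd_of_dvd_mul_right hd))
  obtain ⟨l, H⟩ := exists_terms D hG
  set p := Nat.card {p : G × G // IsConj x p.1 ∧ IsConj x p.2 ∧ p.1 * p.2 = x} with hpdef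
  have hp : p = 7 + (covered x).ncard := card_pairs D
  have hmod := D.part_mod
  have hlt := H.lt_seventy_two_mul D.prime rfl (by omega)
  have h5 := D.five
  have hq1 : q ≤ q ^ b := Nat.le_self_pow hb q
  set T := 2 ^ a with hT
  set Q := q ^ b with hQ
  have hT8 : 8 ≤ T := le_trans (by norm_num) (Nat.pow_le_pow_right two_pos ha)
  have hQ3 : ∀ r, T % 3 = r → (r * (Q % 3)) % 3 = 2 := fun r hr => by
    rw [← hr, ← Nat.mul_mod]
    omega
  have finish : a ≤ 9 → Q ≤ 768 → Check.allowed a T Q p = true → False := fun h9 hQb hal => by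
    rw [Terms.not_allowed D.prime D.five hb ha h9 hQb hmod H] at hal
    cases hal
  have hex : ¬ (a = 6 ∧ Q = 17 ∧ p = 25) := by
    rintro ⟨rfl, hQ17, -⟩
    exact card_ne_of_critBool hG 17 1 (n := 9792) (by decide +kernel)
      (by rw [D.card, ← hQ, hQ17]; norm_num)
  by_cases hpar : a % 2 = 0
  · have hT3 := (two_pow_mod_three a).1 hpar
    have hQ2 : Q % 3 = 2 := by have := hQ3 1 hT3; omega
    have hT16 : 16 ≤ T := le_trans (by norm_num) (Nat.pow_le_pow_right two_pos (show 4 ≤ a by omega))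
    have ha9 : T < 1024 → a ≤ 9 := fun h => by
      have : a < 10 := (Nat.pow_lt_pow_iff_right one_lt_two).1 (show 2 ^ a < 2 ^ 10 by norm_num; omega)
      omega
    have allow : p ≤ 34 ∨ p = 6 * T + 1 ∨ (T = 64 ∧ Q = 125 ∧ p ≤ 340) →
        Check.allowed a T Q p = true := fun h => by
      simp only [Check.allowed, hpar, beq_self_eq_true, if_true, Bool.and_eq_true, Bool.not_eq_true',
        decide_eq_true_eq, Bool.or_eq_true, beq_iff_eq, Bool.and_eq_false_iff, beq_eq_false_iff_ne]
      refine ⟨⟨by omega, by simp only [decide_eq_false_iff_not, ne_eq]; omega⟩, ?_⟩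
      rcases h with h | h | h
      · exact Or.inl (Or.inl h)
      · exact Or.inl (Or.inr h)
      · exact Or.inr ⟨⟨h.1, h.2.1⟩, h.2.2⟩
    rcases cover_even D hG ha hb hT3 hQ2 with hc | ⟨M, hM, hMc, hsub⟩
    · refine finish (ha9 ?_) ?_ (allow (Or.inl (by omega)))
      · nlinarith
      · nlinarith
    have hne : M ≠ ⊥ := fun e => by rw [e, card_bot] at hMc; omega
    have hcle : (covered x).ncard ≤ 6 * (T - 1) := by
      refine (Set.ncard_le_ncard hsub (Set.toFinite _)).trans ((famElts_le _ T ?_).trans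
        (Nat.mul_le_mul (hM.fam_le_six D hne) le_rfl))
      rintro N ⟨-, g, rfl⟩
      rw [card_cj, hMc]
    have hQ437 : Q ≤ 440 := by
      have hp6 : p ≤ 6 * T + 1 := by omega
      by_contra hlt'
      have := Nat.mul_le_mul_left T (show 441 ≤ Q by omega)
      omega
    by_cases hI : ∀ E O : Subgroup G, ¬ Ico x E O
    · have hti := ti_all D hI
      have hcov : covered x = famElts (fam x M) := by
        refine Set.Subset.antisymm hsub ?_
        rintro u ⟨hu1, N, hN, hu⟩
        obtain ⟨r, w, F⟩ := exists_frame D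
        obtain ⟨i, h | h⟩ := hM.mem_fam D F hne hN
        · exact ⟨hu1, N, h ▸ hM.cj_of_conj D (Or.inl (F.r_conj D _)), hu⟩
        · exact ⟨hu1, N, h ▸ hM.cj_of_conj D (Or.inr (F.rep_conj D _)), hu⟩
      have hcard := hM.famElts_sylow D hne hMc hti
      rw [← hcov] at hcard
      have h2 := hM.two_mul_lt_index D hne fun N hN _ hne' => hti M N hM hN hne'
      rw [D.index_eq (i := 3 * Q) (hM.card_normalizer_sylow D hne hMc) (by rw [hMc, hQ]; ring), hMc] at h2
      exact finish (ha9 (by omega)) (by omega) (allow (Or.inr (Or.inl (by omega))))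
    · push Not at hI
      obtain ⟨E, O, hIco⟩ := hI
      have hq5 : q = 5 := by
        by_contra hne5
        exact not_ico_of_ne_five D hne5 E O hIco
      subst hq5
      have hb3 := three_le_exponent H
      have hb' : b = 3 := by
        by_contra hb3'
        have := Nat.pow_le_pow_right (show 5 > 0 by norm_num) (show 4 ≤ b by omega)
        rw [← hQ] at this
        omega
      subst hb'
      obtain ⟨hT1200, hc4⟩ := ico_bound D hG ha hb hT3 (by norm_num) hIco
      have ha6 : a = 6 := by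
        have ha10 : a < 11 := (Nat.pow_lt_pow_iff_right one_lt_two).1
          (show 2 ^ a < 2 ^ 11 by norm_num; omega)
        rw [hT, hQ] at hmod
        interval_cases a
        all_goals first | rfl | omega | norm_num at hmod
      refine finish (by omega) (by omega) (allow (Or.inr (Or.inr ⟨by rw [hT, ha6]; norm_num, by rw [hQ]; norm_num, ?_⟩)))
      rw [ha6] at hc4
      omega
  · have hT3 := (two_pow_mod_three a).2 (by omega)
    have hQ1 : Q % 3 = 1 := by have := hQ3 2 hT3; omega
    obtain ⟨B, W, hc, hB, hW⟩ := cover_odd D hG ha hb hT3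
    have hq5 : q = 5 → 625 ≤ Q := fun h5' => by
      subst h5'
      have hb3 := three_le_exponent H
      have hb4 : 4 ≤ b := by
        by_contra hlt
        have : b = 3 := by omega
        subst this
        norm_num [hQ] at hQ1
      exact le_trans (by norm_num) (Nat.pow_le_pow_right (show 5 > 0 by norm_num) hb4)
    have hTodd : T ≤ 1024 → a ≤ 9 := fun h => by
      have : a < 11 := (Nat.pow_lt_pow_iff_right one_lt_two).1 (show 2 ^ a < 2 ^ 11 by norm_num; omega)
      omega
    have hT2 : 2 ∣ T := dvd_pow_self 2 (by omega)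
    have hbound : T ≤ 1024 ∧ Q ≤ 768 := by
      rcases hB with hB | ⟨hB, hB'⟩ <;> rcases hW with hW | ⟨hW, hW'⟩
      · constructor <;> nlinarith
      · have : T ≤ 1024 := by nlinarith
        have : T ≤ 512 := by
          by_contra hlt
          have := hTodd ‹_›
          have := Nat.pow_le_pow_right two_pos this
          omega
        omega
      · have hQ414 : T ≤ 1024 → Q ≤ 768 := fun _ => by nlinarith
        have hT1 : T ≤ 1024 := by
          by_contra hlt
          by_cases h5' : q = 5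
          · have := hq5 h5'
            nlinarith
          · have := hB' h5'
            nlinarith
        exact ⟨hT1, hQ414 hT1⟩
      · have hT1 : T ≤ 1024 := by
          by_contra hlt
          by_cases h5' : q = 5
          · have := hq5 h5'
            nlinarith
          · have := hB' h5'
            nlinarith
        have : T ≤ 512 := by
          by_contra hlt
          have := hTodd hT1
          have := Nat.pow_le_pow_right two_pos this
          omega
        omega
    refine finish (hTodd hbound.1) hbound.2 ?_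
    simp only [Check.allowed, beq_eq_false_iff_ne.2 hpar, Bool.false_eq_true, if_false, Bool.and_eq_true,
      Bool.not_eq_true', decide_eq_true_eq, Bool.and_eq_false_iff, beq_eq_false_iff_ne, ne_eq]
    refine ⟨⟨by omega, ?_⟩, ?_⟩
    · omega
    split_ifs with hif
    · omega
    · have : W = 0 := hW.resolve_right fun h => hif h.2
      omega

end Cfsg.Agent.SmallOrders.NineOneClass
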